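import Cfsg.Agent.Lib.Peterfalvi.Sec4PrimeTI
import Cfsg.Agent.Lib.BSW.Values
import Cfsg.Agent.S1508
import Cfsg.Agent.Lib.Blocks.Induced
import Cfsg.Agent.Lib.CentralChar.Congr

/-!
# Peterfalvi section 13: values of a cyclic TI family off the order of `W₁` (owner: helper38)

* `value_galois` : `χ (ω ^ i) g = χ ω g` for `g` of order prime to that of `ω`
* `exists_row_value` : the common integer value of the nontrivial characters trivial on `W₂`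
* `exists_regular_part` : the `q'`-part of an element
* `col_sum_eq`, `ne_zero_or_ne_zero` : a column sum and the row value cannot vanish together
* `card_le_sum_sq_add` : averaging for two cyclotomic valued functions
-/

set_option autoImplicit false

namespace Cfsg.Agent.Peterfalvi.Sec13

open Cfsg Cfsg.Agent Cfsg.Agent.Char Cfsg.Agent.Coherence Cfsg.Agent.CyclicTI

variable {G : Type*} [Group G] [Fintype G]

theorem exists_regular_part {q : ℕ} (hq : q.Prime) (g : G) :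
    ∃ g' : G, ¬ q ∣ orderOf g' ∧ g' ∈ Subgroup.zpowers g ∧ ∃ k : ℕ, g ^ q ^ k = g' ^ q ^ k := by
  obtain ⟨k, m, hm, e⟩ := Nat.exists_eq_pow_mul_and_not_dvd (orderOf_pos g).ne' q hq.ne_one
  have hco : Nat.Coprime m (q ^ k) := ((hq.coprime_iff_not_dvd.2 hm).pow_left k).symm
  obtain ⟨r, hr1, hr2⟩ := Nat.chineseRemainder hco 1 0
  refine ⟨g ^ r, fun hd => hm (hd.trans ?_), Subgroup.npow_mem_zpowers g r, k, ?_⟩
  · obtain ⟨t, ht⟩ := Nat.modEq_zero_iff_dvd.1 hr2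
    rw [orderOf_dvd_iff_pow_eq_one, ← pow_mul]
    exact orderOf_dvd_iff_pow_eq_one.1 ⟨t, by rw [e, ht]; ring⟩
  · rw [← pow_mul, pow_eq_pow_iff_modEq, e]
    have := (Nat.ModEq.mul_right' (q ^ k) hr1)
    rw [one_mul, mul_comm m (q ^ k)] at this
    exact this.symm

theorem card_le_sum_sq_add {f h : G → ℂ} (hf : GaloisAvg.CycloValued f) (hh : GaloisAvg.CycloValued h)
    (S : Finset G) (hS : ∀ g ∈ S, ∀ k : ℕ, k.Coprime (Nat.card G) → g ^ k ∈ S)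
    (h0 : ∀ g ∈ S, f g ≠ 0 ∨ h g ≠ 0) :
    (S.card : ℝ) ≤ ∑ g ∈ S, (‖f g‖ ^ 2 + ‖h g‖ ^ 2) := by
  classical
  rw [← Finset.sum_filter_add_sum_filter_not S (fun g => f g ≠ 0),
    ← Finset.card_filter_add_card_filter_not (s := S) (fun g => f g ≠ 0), Nat.cast_add]
  have hpow : ∀ g : G, ∀ k : ℕ, k.Coprime (Nat.card G) → f g = 0 → f (g ^ k) = 0 := by
    intro g k hk h0'
    obtain ⟨l, hl⟩ := exists_pow_eq_self_of_coprime (x := g) (n := k)
      (hk.coprime_dvd_right (orderOf_dvd_natCard g))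
    obtain ⟨l', hl1, hl2⟩ : ∃ l' : ℕ, l'.Coprime (Nat.card G) ∧ (g ^ k) ^ l' = g := by
      haveI : NeZero (Nat.card G) := ⟨Nat.card_pos.ne'⟩
      set u := ZMod.unitOfCoprime k hk
      refine ⟨((u⁻¹ : (ZMod (Nat.card G))ˣ) : ZMod (Nat.card G)).val, ZMod.val_coe_unit_coprime _, ?_⟩
      rw [← pow_mul]
      conv_rhs => rw [← pow_one g]
      refine pow_eq_pow_iff_modEq.2 (Nat.ModEq.of_dvd (orderOf_dvd_natCard g) ?_)
      rw [← ZMod.natCast_eq_natCast_iff, Nat.cast_mul, ZMod.natCast_val, ZMod.cast_id, Nat.cast_one]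
      exact Units.mul_inv u
    exact hf.eq_zero_of_pow_eq_zero hl1 (by rw [hl2]; exact h0')
  refine add_le_add ?_ ?_
  · refine le_trans (GaloisAvg.card_le_sum_norm_pow hf _ (fun g hg k hk => ?_)
      (fun g hg => (Finset.mem_filter.1 hg).2) 2)
      (Finset.sum_le_sum fun g _ => le_add_of_nonneg_right (sq_nonneg _))
    obtain ⟨h1, h2⟩ := Finset.mem_filter.1 hg
    exact Finset.mem_filter.2 ⟨hS g h1 k hk, fun e => h2 (hf.eq_zero_of_pow_eq_zero hk e)⟩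
  · refine le_trans (GaloisAvg.card_le_sum_norm_pow hh _ (fun g hg k hk => ?_)
      (fun g hg => ?_) 2)
      (Finset.sum_le_sum fun g _ => le_add_of_nonneg_left (sq_nonneg _))
    · obtain ⟨h1, h2⟩ := Finset.mem_filter.1 hg
      exact Finset.mem_filter.2 ⟨hS g h1 k hk, not_not.2 (hpow g k hk (not_not.1 h2))⟩
    · obtain ⟨h1, h2⟩ := Finset.mem_filter.1 hg
      exact (h0 g h1).resolve_left h2

variable {W₁ W₂ : Subgroup G} (hW : IsSelfNormalizingCyclic W₁ W₂) (hodd : Odd (Nat.card ↥(W₁ ⊔ W₂)))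
  {χ : (↥(W₁ ⊔ W₂) →* ℂˣ) → (G → ℂ)} (hχ : IsCyclicTIFamily W₁ W₂ χ)

include hW hodd hχ in
theorem value_galois (ω : ↥(W₁ ⊔ W₂) →* ℂˣ) {g : G} (hg : (orderOf g).Coprime (orderOf ω)) {i : ℕ}
    (hi : i.Coprime (orderOf ω)) : χ (ω ^ i) g = χ ω g := by
  classical
  have hn : orderOf ω ∣ Nat.card G := by
    refine dvd_trans (orderOf_dvd_of_pow_eq_one ?_) (Subgroup.card_subgroup_dvd_card (W₁ ⊔ W₂))
    ext w
    rw [MonoidHom.pow_apply, ← map_pow, pow_card_eq_one', map_one, MonoidHom.one_apply]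
  obtain ⟨r, hr1, hr2⟩ := Nat.chineseRemainder hg 1 i
  have hd : orderOf g * orderOf ω ∣ Nat.card G := hg.mul_dvd_of_dvd_of_dvd (orderOf_dvd_natCard g) hn
  have hrc : r.Coprime (orderOf g * orderOf ω) := by
    refine Nat.Coprime.mul_right ?_ ?_
    · exact (Nat.ModEq.gcd_eq hr1).trans (Nat.coprime_one_left _)
    · exact (Nat.ModEq.gcd_eq hr2).trans hi
  haveI : NeZero (Nat.card G) := ⟨Nat.card_pos.ne'⟩
  obtain ⟨u, hu⟩ := ZMod.unitsMap_surjective hd (ZMod.unitOfCoprime r hrc)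
  set K := (u : ZMod (Nat.card G)).val with hKdef
  have hK : K.Coprime (Nat.card G) := ZMod.val_coe_unit_coprime u
  have hKr : K ≡ r [MOD orderOf g * orderOf ω] := by
    rw [← ZMod.natCast_eq_natCast_iff, hKdef, ZMod.natCast_val]
    exact congrArg Units.val hu
  have hg' : g ^ K = g := by
    conv_rhs => rw [← pow_one g]
    exact pow_eq_pow_iff_modEq.mpr ((hKr.of_mul_right _).trans hr1)
  have hω : ω ^ K = ω ^ i := by
    have hmod : K % orderOf ω = i % orderOf ω := (hKr.of_mul_left (orderOf g)).trans hr2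
    rw [← pow_mod_orderOf ω K, hmod, pow_mod_orderOf]
  have hx : IsSignedIrr G (fun y => χ ω (y ^ K)) := by
    rcases hχ.irr_or_neg ω with h | h
    · exact Or.inl (GaloisPow.isIrrCharacter_comp_pow hK h)
    · exact Or.inr (GaloisPow.isIrrCharacter_comp_pow hK h)
  have key := eq_of_eq_on hW hodd hχ hx (ω ^ i) fun w h1 h2 => by
    obtain ⟨m, hm⟩ := exists_pow_eq_self_of_coprime (x := (w : G))
      (hK.coprime_dvd_right (orderOf_dvd_natCard _))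
    show χ ω ((w : G) ^ K) = _
    rw [← SubgroupClass.coe_pow, hχ.eq_on ω (w ^ K) (fun h => h1 ?_) (fun h => h2 ?_)]
    · rw [map_pow, ← MonoidHom.pow_apply, hω]
    · rw [← hm]; exact pow_mem (by simpa using h) m
    · rw [← hm]; exact pow_mem (by simpa using h) m
  conv_rhs => rw [← hg']
  exact (congrFun key g).symm

omit [Fintype G] in
theorem trivial₂_pow_card [Finite G] (hP : IsPair W₁ W₂) {φ : ↥(W₁ ⊔ W₂) →* ℂˣ}
    (hφ : ∀ w : ↥(W₁ ⊔ W₂), (w : G) ∈ W₂ → φ w = 1) : φ ^ Nat.card W₁ = 1 := by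
  refine hP.lin_ext (fun w hw => ?_) (fun w hw => by simp [hφ w hw])
  rw [MonoidHom.pow_apply, ← map_pow, MonoidHom.one_apply,
    show w ^ Nat.card W₁ = 1 from Subtype.ext (by
      rw [SubgroupClass.coe_pow]
      exact orderOf_dvd_iff_pow_eq_one.1 (Subgroup.orderOf_dvd_natCard W₁ hw)), map_one]

include hW hodd hχ in
/-- The common integer value. -/
theorem exists_row_value {q : ℕ} (hq : q.Prime) (hW₁ : Nat.card W₁ = q) {g : G} (hg : ¬ q ∣ orderOf g) :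
    ∃ a : ℤ, ∀ φ : ↥(W₁ ⊔ W₂) →* ℂˣ, (∀ w : ↥(W₁ ⊔ W₂), (w : G) ∈ W₂ → φ w = 1) → φ ≠ 1 →
      χ φ g = a := by
  classical
  have hP := isPair_of_selfNormalizing hW
  have hc := comm_of_selfNormalizing hW
  haveI : Finite (↥(W₁ ⊔ W₂) →* ℂˣ) := finite_lin _
  haveI : Fintype (↥(W₁ ⊔ W₂) →* ℂˣ) := Fintype.ofFinite _
  by_cases hex : ∃ φ₀ : ↥(W₁ ⊔ W₂) →* ℂˣ, (∀ w : ↥(W₁ ⊔ W₂), (w : G) ∈ W₂ → φ₀ w = 1) ∧ φ₀ ≠ 1
  swap
  · exact ⟨0, fun φ h1 h2 => absurd ⟨φ, h1, h2⟩ hex⟩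
  obtain ⟨φ₀, h0, h0'⟩ := hex
  have ho : orderOf φ₀ = q := by
    haveI := Fact.mk hq
    exact orderOf_eq_prime (hW₁ ▸ trivial₂_pow_card hP h0) h0'
  have hco : (orderOf g).Coprime (orderOf φ₀) := by
    rw [ho]; exact (hq.coprime_iff_not_dvd.2 hg).symm
  obtain ⟨a, ha⟩ := Cfsg.Agent.S1508.result W₁ W₂ hW hodd χ hχ φ₀ g hco
  refine ⟨a, fun φ hφ hne => ?_⟩
  obtain ⟨i, hi, rfl⟩ : ∃ i < q, φ₀ ^ i = φ := by
    have hsub : (Finset.range q).image (φ₀ ^ ·) ⊆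
        Finset.univ.filter fun φ : ↥(W₁ ⊔ W₂) →* ℂˣ => ∀ w : ↥(W₁ ⊔ W₂), (w : G) ∈ W₂ → φ w = 1 := by
      intro x hx
      obtain ⟨i, -, rfl⟩ := Finset.mem_image.1 hx
      exact Finset.mem_filter.2 ⟨Finset.mem_univ _, fun w hw => by simp [h0 w hw]⟩
    have hcard : (Finset.univ.filter fun φ : ↥(W₁ ⊔ W₂) →* ℂˣ =>
        ∀ w : ↥(W₁ ⊔ W₂), (w : G) ∈ W₂ → φ w = 1).card = q := by
      rw [← Fintype.card_subtype, ← Nat.card_eq_fintype_card, card_lin_factor₁ hP hc, hW₁]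
    have himg : ((Finset.range q).image (φ₀ ^ ·)).card = q := by
      rw [Finset.card_image_of_injOn, Finset.card_range]
      intro a ha b hb e
      rw [← ho] at ha hb
      exact pow_injOn_Iio_orderOf (by simpa using ha) (by simpa using hb) e
    have heq := Finset.eq_of_subset_of_card_le hsub (by omega)
    have : φ ∈ (Finset.range q).image (φ₀ ^ ·) := heq ▸ Finset.mem_filter.2 ⟨Finset.mem_univ _, hφ⟩
    obtain ⟨i, hi, e⟩ := Finset.mem_image.1 this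
    exact ⟨i, Finset.mem_range.1 hi, e⟩
  have hi0 : i ≠ 0 := fun e => hne (MonoidHom.ext fun w => by rw [e, MonoidHom.pow_apply, pow_zero, MonoidHom.one_apply])
  rw [value_galois hW hodd hχ φ₀ hco, ha]
  rw [ho]
  exact (hq.coprime_iff_not_dvd.2 fun hd => absurd (Nat.le_of_dvd (Nat.pos_of_ne_zero hi0) hd) (not_le.2 hi)).symm

include hW hodd hχ in
/-- A column sum at an element where all the `Ind ((1 - φ)(1 - ψ))` vanish. -/
theorem col_sum_eq {q : ℕ} (hW₁ : Nat.card W₁ = q) {g : G} {a : ℤ}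
    (ha : ∀ φ : ↥(W₁ ⊔ W₂) →* ℂˣ, (∀ w : ↥(W₁ ⊔ W₂), (w : G) ∈ W₂ → φ w = 1) → φ ≠ 1 → χ φ g = a)
    (hvan : ∀ f : ↥(W₁ ⊔ W₂) → ℂ, (∀ w : ↥(W₁ ⊔ W₂), (w : G) ∈ W₁ ∨ (w : G) ∈ W₂ → f w = 0) →
      indFun (W₁ ⊔ W₂) f g = 0)
    {ψ : ↥(W₁ ⊔ W₂) →* ℂˣ} (hψ : ¬ SameCol ψ 1) :
    (∑ π ∈ colClass ψ, χ π g) =
      (q : ℂ) * χ ((isPair_of_selfNormalizing hW).lsnd ψ) g + ((q : ℂ) - 1) * ((a : ℂ) - 1) := by
  classical
  have hP := isPair_of_selfNormalizing hW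
  have hc := comm_of_selfNormalizing hW
  haveI : Finite (↥(W₁ ⊔ W₂) →* ℂˣ) := finite_lin _
  haveI : Fintype (↥(W₁ ⊔ W₂) →* ℂˣ) := Fintype.ofFinite _
  set ψ₁ := hP.lsnd ψ
  have hψ₁ : ∀ w : ↥(W₁ ⊔ W₂), (w : G) ∈ W₁ → ψ₁ w = 1 := fun w hw => hP.lsnd_apply_of_mem₁ ψ hw
  have hψne : ψ₁ ≠ 1 := fun e => hψ fun w hw => by
    rw [← hP.lsnd_apply_of_mem₂ ψ hw]; exact DFunLike.congr_fun e w
  set I := Finset.univ.filter fun φ : ↥(W₁ ⊔ W₂) →* ℂˣ => ∀ w : ↥(W₁ ⊔ W₂), (w : G) ∈ W₂ → φ w = 1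
    with hI
  have hcardI : I.card = q := by
    rw [hI, ← Fintype.card_subtype, ← Nat.card_eq_fintype_card, card_lin_factor₁ hP hc, hW₁]
  have h1 : (1 : ↥(W₁ ⊔ W₂) →* ℂˣ) ∈ I := Finset.mem_filter.2 ⟨Finset.mem_univ _, fun w _ => rfl⟩
  have hsum : (∑ π ∈ colClass ψ, χ π g) = ∑ φ ∈ I, χ (φ * ψ₁) g := by
    refine Finset.sum_nbij' hP.lfst (· * ψ₁) (fun π _ => Finset.mem_filter.2
      ⟨Finset.mem_univ _, fun w hw => hP.lfst_apply_of_mem₂ π hw⟩) (fun φ hφ => ?_) (fun π hπ => ?_)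
      (fun φ hφ => (hP.split_mul (Finset.mem_filter.1 hφ).2 hψ₁).1) (fun π hπ => ?_)
    · refine mem_colClass.2 fun w hw => ?_
      rw [MonoidHom.mul_apply, (Finset.mem_filter.1 hφ).2 w hw, one_mul]
      exact hP.lsnd_apply_of_mem₂ ψ hw
    · show hP.lfst π * hP.lsnd ψ = π
      rw [← (sameCol_lsnd hP).1 (mem_colClass.1 hπ), hP.lfst_mul_lsnd]
    · show χ π g = χ (hP.lfst π * hP.lsnd ψ) g
      rw [← (sameCol_lsnd hP).1 (mem_colClass.1 hπ), hP.lfst_mul_lsnd]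
  have hterm : ∀ φ ∈ I.erase 1, χ (φ * ψ₁) g = (a : ℂ) + χ ψ₁ g - 1 := by
    intro φ hφ
    obtain ⟨hne, hφ⟩ := Finset.mem_erase.1 hφ
    have hφ' := (Finset.mem_filter.1 hφ).2
    have := hχ.induced_eq φ ψ₁ hne hψne hφ' hψ₁
    have h2 := congrFun this g
    rw [hvan _ (fun w hw => by
      rcases hw with hw | hw
      · simp [hψ₁ w hw]
      · simp [hφ' w hw])] at h2
    simp only [Pi.add_apply, Pi.sub_apply, Pi.one_apply, ha φ hφ' hne] at h2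
    linear_combination -h2
  have e1 : (1 : ↥(W₁ ⊔ W₂) →* ℂˣ) * ψ₁ = ψ₁ := MonoidHom.ext fun w => one_mul _
  rw [hsum, ← Finset.add_sum_erase I _ h1, e1, Finset.sum_congr rfl hterm, Finset.sum_const,
    Finset.card_erase_of_mem h1, hcardI, nsmul_eq_mul]
  rw [Nat.cast_sub (by have := Finset.card_pos.2 ⟨_, h1⟩; omega)]
  push_cast
  ring

include hW hodd hχ in
/-- If `f` agrees up to sign with a column sum at the `q'`-part of `g`, then `f g` or the row value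
`χ φ g` is nonzero. -/
theorem ne_zero_or_ne_zero {q : ℕ} (hq : q.Prime) (hW₁ : Nat.card W₁ = q) {g g' : G} {k : ℕ}
    (hg' : ¬ q ∣ orderOf g') (hk : g ^ q ^ k = g' ^ q ^ k)
    (hvan : ∀ f : ↥(W₁ ⊔ W₂) → ℂ, (∀ w : ↥(W₁ ⊔ W₂), (w : G) ∈ W₁ ∨ (w : G) ∈ W₂ → f w = 0) →
      indFun (W₁ ⊔ W₂) f g' = 0)
    {ψ : ↥(W₁ ⊔ W₂) →* ℂˣ} (hψ : ¬ SameCol ψ 1) {f : G → ℂ} (hf : IsSignedIrr G f) {ε : ℂ}
    (hε : ε = 1 ∨ ε = -1) (hfg : f g' = ε * ∑ π ∈ colClass ψ, χ π g')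
    {φ : ↥(W₁ ⊔ W₂) →* ℂˣ} (hφ : ∀ w : ↥(W₁ ⊔ W₂), (w : G) ∈ W₂ → φ w = 1) (hφ1 : φ ≠ 1) :
    f g ≠ 0 ∨ χ φ g ≠ 0 := by
  classical
  obtain ⟨M, hM⟩ := Blocks.exists_isPModular hq
  obtain ⟨a, ha⟩ := exists_row_value hW hodd hχ hq hW₁ hg'
  have hcong : ∀ x : G → ℂ, IsSignedIrr G x → MemLocalIdeal M (x g - x g') := by
    intro x hx
    rcases hx with h | h
    · exact CentralChar.memI_sub_of_pow_eq hM (IsIrrCharacter.isCharacter h) hk
    · have := CentralChar.memI_sub_of_pow_eq hM (IsIrrCharacter.isCharacter h) hk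
      have h' := Blocks.memI_mul_left hM (Blocks.memR_intCast hM (-1)) this
      convert h' using 1
      simp only [Pi.neg_apply]
      push_cast
      ring
  by_contra hno
  push Not at hno
  have hε2 : ε * ε = 1 := by rcases hε with rfl | rfl <;> norm_num
  have hεR : MemLocalRing M ε := by
    rcases hε with rfl | rfl
    · exact Blocks.memR_one hM
    · exact Blocks.memR_neg (Blocks.memR_one hM)
  have h1 := hcong f hf
  have h2 := hcong (χ φ) (hχ.irr_or_neg φ)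
  rw [hno.1, hfg, col_sum_eq hW hodd hχ hW₁ ha hvan hψ, zero_sub] at h1
  rw [hno.2, ha φ hφ hφ1, zero_sub] at h2
  set c := χ ((isPair_of_selfNormalizing hW).lsnd ψ) g'
  have hcR : MemLocalRing M c := by
    refine Blocks.memR_of_isIntegral hM ?_
    rcases hχ.irr_or_neg ((isPair_of_selfNormalizing hW).lsnd ψ) with h | h
    · exact Char.IsCharacter.isIntegral (IsIrrCharacter.isCharacter h) _
    · have := Char.IsCharacter.isIntegral (IsIrrCharacter.isCharacter h) g'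
      simpa using this.neg
  refine Blocks.not_memI_one hM ?_
  have h3 := Blocks.memI_mul_left hM hεR h1
  have hqI := Blocks.memI_p hM
  have h4 : MemLocalIdeal M ((q : ℂ) * (c + (a : ℂ) - 1)) :=
    Blocks.memI_mul_right hM hqI (Blocks.memR_sub hM (Blocks.memR_add hM hcR (Blocks.memR_intCast hM a))
      (Blocks.memR_one hM))
  have e : (1 : ℂ) = ((-1 : ℤ) : ℂ) * (ε * (-(ε * ((q : ℂ) * c + ((q : ℂ) - 1) * ((a : ℂ) - 1)))) +
      ((q : ℂ) * (c + (a : ℂ) - 1)) + (-(a : ℂ))) := by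
    push_cast
    linear_combination -((q : ℂ) * c + ((q : ℂ) - 1) * ((a : ℂ) - 1)) * hε2
  rw [e]
  exact Blocks.memI_mul_left hM (Blocks.memR_intCast hM (-1))
    (Blocks.memI_add hM (Blocks.memI_add hM h3 h4) h2)

end Cfsg.Agent.Peterfalvi.Sec13
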