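import Cfsg.Agent.Lib.Peterfalvi.Sec13.Theta

/-!
# Peterfalvi section 13: the average over `C` of a row character (owner: helper38)

* `memI_sum_free` : an invariant sum over a free action of a group of order `q`
* `Side.avg_bound` : `(p ^ q - 1) |C|` bounds the sum of `‖η‖ ^ 2` over `H ∖ 1` from below
-/

set_option autoImplicit false

namespace Cfsg.Agent.Peterfalvi.Sec13

open scoped Pointwise commutatorElement ComplexConjugate
open Cfsg Cfsg.Agent OddMax CyclicTI Cfsg.Agent.Char Cfsg.Agent.Coherence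

theorem memI_sum_free {q : ℕ} {M : Ideal AlgInt} (hM : IsPModular q M) {Γ X : Type*} [Group Γ]
    [Finite Γ] [Fintype X] [MulAction Γ X] (hcard : Nat.card Γ = q)
    (hfree : ∀ (γ : Γ) (x : X), γ • x = x → γ = 1) (F : X → ℂ) (hF : ∀ (γ : Γ) (x : X), F (γ • x) = F x)
    (hR : ∀ x, MemLocalRing M (F x)) : MemLocalIdeal M (∑ x, F x) := by
  classical
  haveI := Fintype.ofFinite Γ
  haveI := Fintype.ofFinite (MulAction.orbitRel.Quotient Γ X)
  let π : X → MulAction.orbitRel.Quotient Γ X := Quotient.mk''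
  rw [← Finset.sum_fiberwise Finset.univ π]
  refine Blocks.memI_sum hM _ fun o _ => ?_
  induction o using Quotient.inductionOn' with
  | h x₀ =>
    have hset : (Finset.univ.filter fun x => π x = Quotient.mk'' x₀) =
        Finset.univ.image (fun γ : Γ => γ • x₀) := by
      ext x
      simp only [π, Finset.mem_filter, Finset.mem_univ, true_and, Finset.mem_image]
      rw [Quotient.eq'', MulAction.orbitRel_apply]
      exact Iff.rfl
    rw [hset, Finset.sum_image fun a _ b _ e => ?_]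
    · rw [Finset.sum_congr rfl fun γ _ => hF γ x₀, Finset.sum_const, Finset.card_univ,
        ← Nat.card_eq_fintype_card, hcard, nsmul_eq_mul]
      exact Blocks.memI_mul_right hM (Blocks.memI_p hM) (hR x₀)
    · have h2 : b⁻¹ * a = 1 := hfree _ x₀ (by rw [mul_smul, e, inv_smul_smul])
      exact (inv_mul_eq_one.1 h2).symm

universe u

variable {G : Type u} [Group G] [Fintype G]

theorem memR_signed {q : ℕ} {M : Ideal AlgInt} (hM : IsPModular q M) {η : G → ℂ}
    (hη : IsSignedIrr G η) (g : G) : MemLocalRing M (η g) := by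
  rcases hη with h | h
  · exact Blocks.memR_of_isIntegral hM (Char.IsCharacter.isIntegral (IsIrrCharacter.isCharacter h) g)
  · have := Blocks.memR_neg (Blocks.memR_of_isIntegral hM
      (Char.IsCharacter.isIntegral (IsIrrCharacter.isCharacter h) g))
    simpa using this

theorem memI_signed_sub {q : ℕ} {M : Ideal AlgInt} (hM : IsPModular q M) {η : G → ℂ}
    (hη : IsSignedIrr G η) {g s : G} {k : ℕ} (hk : g ^ q ^ k = s ^ q ^ k) :
    MemLocalIdeal M (η g - η s) := by
  rcases hη with h | h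
  · exact CentralChar.memI_sub_of_pow_eq hM (IsIrrCharacter.isCharacter h) hk
  · have := CentralChar.memI_sub_of_pow_eq hM (IsIrrCharacter.isCharacter h) hk
    have h' := Blocks.memI_mul_left hM (Blocks.memR_intCast hM (-1)) this
    convert h' using 1
    simp only [Pi.neg_apply]
    push_cast
    ring

open Classical in
theorem Side.avg_bound {S W₁ U W₂ : Subgroup G} {p q : ℕ} (h : Side S W₁ U W₂ p q) [Fintype ↥S] {η : G → ℂ}
    (hη : IsSignedIrr G η)
    (horth : ∀ θ ∈ thetaSet S U, ∀ θ' ∈ thetaSet S U,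
      classInner η (indFun S (indFun (hSub S U) θ - indFun (hSub S U) θ')) = 0)
    (hW : ∀ a ∈ W₂, a ≠ 1 → ∀ b ∈ W₁, b ≠ 1 → (η (a * b)) ^ q = 1) :
    ((p : ℝ) ^ q - 1) / ((p : ℝ) ^ q * Nat.card U * q) * Nat.card (cU S U) ≤
      pieceSq ((hS S U : Set G) \ {1}) S η := by
  classical
  haveI := h.hSub_normal
  haveI := Fintype.ofFinite ↥(hSub S U)
  set P := fittingHallOf S with hP
  set C := cU S U with hC
  haveI := Fintype.ofFinite ↥P
  haveI := Fintype.ofFinite ↥C
  haveI := finite_lin ↥P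
  haveI := Fintype.ofFinite (↥P →* ℂˣ)
  let mul' : ↥P × ↥C ≃* ↥(hSub S U) :=
    h.isPair.prodEquiv.trans (Subgroup.subgroupOfEquivOfLe h.H_le).symm
  have hval : ∀ x : ↥P × ↥C, (((mul' x : ↥(hSub S U)) : ↥S) : G) = (x.1 : G) * x.2 := fun x => rfl
  let ext' : (↥P →* ℂˣ) → (↥(hSub S U) →* ℂˣ) := fun φ =>
    φ.comp ((MonoidHom.fst ↥P ↥C).comp mul'.symm.toMonoidHom)
  set η' : ↥(hSub S U) → ℂ := fun a => η ((a : ↥S) : G) with hη'
  set m : (↥P →* ℂˣ) → ℂ := fun φ => classInner η' (lin (ext' φ)) with hm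
  set c : ℂ := (Nat.card ↥C : ℂ) with hc
  have hc0 : c ≠ 0 := Nat.cast_ne_zero.2 Nat.card_pos.ne'
  set A : ↥P → ℂ := fun x => c⁻¹ * ∑ y : ↥C, η ((x : G) * y) with hA
  -- the coefficients of the average
  have hcoef : ∀ φ, classInner A (lin φ) = m φ := by
    intro φ
    rw [hm]
    simp only [classInner]
    rw [← Fintype.sum_equiv mul'.toEquiv (fun x => η' (mul' x) * conj (lin (ext' φ) (mul' x))) _
      (fun x => rfl), Fintype.sum_prod_type, Nat.card_congr mul'.symm.toEquiv, Nat.card_prod,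
      Nat.cast_mul, mul_inv, mul_assoc, Finset.mul_sum (a := (Nat.card ↥C : ℂ)⁻¹)]
    congr 1
    refine Finset.sum_congr rfl fun x _ => ?_
    rw [hA, mul_assoc, Finset.sum_mul, ← hc]
    congr 1
    refine Finset.sum_congr rfl fun y _ => ?_
    simp [η', ext', hval, lin]
  have hint : ∀ φ, ∃ n : ℤ, m φ = n := by
    intro φ
    refine classInner_gc_int ?_ (isGC_of_irr (lin_irr _))
    rcases hη with e | e
    · exact isGC_of_isCharacter (IsCharacter.comp_hom (IsIrrCharacter.isCharacter e)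
        (S.subtype.comp (hSub S U).subtype))
    · have := isGC_neg (isGC_of_isCharacter (IsCharacter.comp_hom (IsIrrCharacter.isCharacter e)
        (S.subtype.comp (hSub S U).subtype)))
      convert this using 1
      funext a
      simp [η']
  have hmem : ∀ φ : ↥P →* ℂˣ, φ ≠ 1 → lin (ext' φ) ∈ thetaSet S U := by
    intro φ hφ
    refine mem_thetaSet.2 ⟨ext' φ, ⟨fun a ha => ?_, ?_⟩, rfl⟩
    · have hCa : ((a : ↥S) : G) ∈ C := Subgroup.commutator_le_self _ ha
      have : a = mul' (1, ⟨_, hCa⟩) := Subtype.ext (Subtype.ext (by rw [hval]; simp))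
      rw [this]
      simp [ext']
    · obtain ⟨x, hx⟩ : ∃ x, φ x ≠ 1 := by
        by_contra hno
        push Not at hno
        exact hφ (MonoidHom.ext hno)
      exact ⟨mul' (x, 1), by rw [hval]; simp, by simpa [ext'] using hx⟩
  have hconst : ∀ φ φ' : ↥P →* ℂˣ, φ ≠ 1 → φ' ≠ 1 → m φ = m φ' := by
    intro φ φ' hφ hφ'
    have := horth _ (hmem φ hφ) _ (hmem φ' hφ')
    have hcl : IsClassFunction G η := isGC_isClassFunction (isGC_signed hη)
    rw [frobenius_reciprocity' S _ hcl, ← indFun_sub,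
      frobenius_reciprocity' (hSub S U) _ (show IsClassFunction ↥S (fun z : ↥S => η z) from fun a b => by simpa using hcl (a : G) (b : G)), classInner_sub_right,
      sub_eq_zero] at this
    exact this
  obtain ⟨φ₁, hφ₁⟩ : ∃ φ : ↥P →* ℂˣ, φ ≠ 1 := by
    have h1 : 1 < Nat.card (↥P →* ℂˣ) := by
      rw [h.card_linP]
      exact Nat.one_lt_pow h.hq.ne_zero h.hp.one_lt
    haveI := Finite.one_lt_card_iff_nontrivial.1 h1
    exact exists_ne 1
  obtain ⟨n₀, hn₀⟩ := hint 1
  obtain ⟨n₁, hn₁⟩ := hint φ₁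
  have hPc : ∀ a b : ↥P, a * b = b * a := fun a b => Subtype.ext (h.P_comm a.2 b.2)
  have hzero : ∀ x : ↥P, x ≠ 1 → ∑ φ : ↥P →* ℂˣ, (φ x : ℂ) = 0 := by
    intro x hx
    have := congrFun (lin_expansion hPc (fun z : ↥P => if z = 1 then (1 : ℂ) else 0)) x
    simp only [Finset.sum_apply, Pi.smul_apply, lin_apply, smul_eq_mul, if_neg hx] at this
    have hin : ∀ φ : ↥P →* ℂˣ,
        classInner (fun z : ↥P => if z = 1 then (1 : ℂ) else 0) (lin φ) = (Nat.card ↥P : ℂ)⁻¹ := by
      intro φ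
      simp [classInner]
    simp only [hin, ← Finset.mul_sum] at this
    exact (mul_eq_zero.1 this.symm).resolve_left (inv_ne_zero (Nat.cast_ne_zero.2 Nat.card_pos.ne'))
  have hAval : ∀ x : ↥P, x ≠ 1 → A x = ((n₀ - n₁ : ℤ) : ℂ) := by
    intro x hx
    have := congrFun (lin_expansion hPc A) x
    simp only [Finset.sum_apply, Pi.smul_apply, lin_apply, smul_eq_mul, hcoef] at this
    rw [this, ← Finset.add_sum_erase _ _ (Finset.mem_univ 1), Finset.sum_congr rfl fun φ hφ => by
      rw [hconst φ φ₁ (Finset.mem_erase.1 hφ).1 hφ₁], ← Finset.mul_sum,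
      Finset.sum_erase_eq_sub (Finset.mem_univ _), hzero x hx, hn₀, hn₁]
    simp
    ring
  -- it is not zero
  obtain ⟨M, hM⟩ := Blocks.exists_isPModular h.hq
  obtain ⟨a, ha, ha1⟩ := W₂.bot_or_exists_ne_one.resolve_left h.hyp.data.selfNormalizing.2.1
  obtain ⟨b, hb, hb1⟩ := W₁.bot_or_exists_ne_one.resolve_left h.hyp.data.W₁_ne
  have haP : a ∈ P := (h.hyp.data.W₂_le ha).1
  have hab : a * b = b * a := (h.hyp.data.selfNormalizing.2.2.2.1 b hb a ha).symm
  have hconjC : ∀ (w : ↥W₁) (y : G), y ∈ C → (w : G) * y * (w : G)⁻¹ ∈ C := by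
    intro w y hy
    refine ⟨(Subgroup.mem_normalizer_iff.1 (h.hyp.data.U_normal w.2) y).1 hy.1,
      Subgroup.mem_centralizer_iff.2 fun z hz => ?_⟩
    have hwS : (w : G) ∈ S := h.hyp.le_M.2.2.2.1 w.2
    have hz' : (w : G)⁻¹ * z * w ∈ P := by
      have := (Subgroup.mem_normalizer_iff.1 (OddTypeP.normal_of_map S (inv_mem hwS)) z).1 hz
      simpa using this
    have := h.comm_P_C hz' hy
    calc z * ((w : G) * y * (w : G)⁻¹) = (w : G) * ((w : G)⁻¹ * z * w * y) * (w : G)⁻¹ := by group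
      _ = (w : G) * (y * ((w : G)⁻¹ * z * w)) * (w : G)⁻¹ := by rw [this]
      _ = _ := by group
  let X := {y : ↥C // y ≠ 1}
  let act : MulAction ↥W₁ X :=
    { smul := fun w y => ⟨⟨(w : G) * y.1 * (w : G)⁻¹, hconjC w _ y.1.2⟩, fun e => y.2 (Subtype.ext
        (conj_eq_one_iff.1 (congrArg Subtype.val e)))⟩
      one_smul := fun y => Subtype.ext (Subtype.ext (by
        show ((1 : ↥W₁) : G) * y.1 * ((1 : ↥W₁) : G)⁻¹ = _
        simp))
      mul_smul := fun v w y => Subtype.ext (Subtype.ext (by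
        show ((v * w : ↥W₁) : G) * y.1 * ((v * w : ↥W₁) : G)⁻¹ =
          (v : G) * ((w : G) * y.1 * (w : G)⁻¹) * (v : G)⁻¹
        simp [mul_assoc])) }
  have hfree : ∀ (w : ↥W₁) (y : X), w • y = y → w = 1 := by
    intro w y e
    by_contra hw
    have e' : (w : G) * y.1 * (w : G)⁻¹ = y.1 := congrArg (fun z : X => (z.1 : G)) e
    exact y.2 (Subtype.ext (h.hyp.fpf w.2 (fun e1 => hw (Subtype.ext e1)) y.1.2.1
      (mul_inv_eq_iff_eq_mul.1 e')))
  have hinv : ∀ (w : ↥W₁) (y : X), η (a * ((w • y).1 : G)) = η (a * (y.1 : G)) := by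
    intro w y
    have hwa : (w : G) * a = a * w := h.hyp.data.selfNormalizing.2.2.2.1 _ w.2 a ha
    show η (a * ((w : G) * y.1 * (w : G)⁻¹)) = _
    rw [show a * ((w : G) * y.1 * (w : G)⁻¹) = (w : G) * (a * y.1) * (w : G)⁻¹ by
      rw [← mul_assoc, ← mul_assoc, ← hwa]; group]
    exact isGC_isClassFunction (isGC_signed hη) _ _
  have hsum : MemLocalIdeal M (∑ y : X, η (a * (y.1 : G))) :=
    memI_sum_free hM h.card₁ hfree _ hinv fun y => memR_signed hM hη _
  have hA0 : ((n₀ - n₁ : ℤ) : ℂ) ≠ 0 := by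
    intro e
    have hx1 : (⟨a, haP⟩ : ↥P) ≠ 1 := fun e' => ha1 (congrArg Subtype.val e')
    have h0 : ∑ y : ↥C, η (a * (y : G)) = 0 := by
      have := hAval ⟨a, haP⟩ hx1
      rw [e, hA] at this
      simpa [hc0] using this
    rw [← Finset.add_sum_erase _ _ (Finset.mem_univ (1 : ↥C)), OneMemClass.coe_one, mul_one,
      Finset.sum_subtype (p := fun y : ↥C => y ≠ 1) (Finset.univ.erase 1) (fun y => by simp)] at h0
    have h1 : MemLocalIdeal M (η a) := by
      have := Blocks.memI_mul_left hM (Blocks.memR_intCast hM (-1)) hsum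
      convert this using 1
      push_cast
      linear_combination h0
    have hbq : b ^ q = 1 := orderOf_dvd_iff_pow_eq_one.1
      (h.card₁ ▸ Subgroup.orderOf_dvd_natCard _ hb)
    have h2 := memI_signed_sub hM hη (g := a * b) (s := a) (k := 1) (by
      rw [pow_one, (show Commute a b from hab).mul_pow, hbq, mul_one])
    have h3 := CentralChar.memI_sub_one_of_pow_eq_one hM (z := η (a * b)) (k := 1)
      (by rw [pow_one]; exact hW a ha ha1 b hb hb1)
    refine Blocks.not_memI_one hM ?_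
    have h4 := Blocks.memI_mul_left hM (Blocks.memR_intCast hM (-1)) h3
    have e : (1 : ℂ) = ((-1 : ℤ) : ℂ) * (η (a * b) - 1) + ((η (a * b) - η a) + η a) := by
      push_cast; ring
    rw [e]
    exact Blocks.memI_add hM h4 (Blocks.memI_add hM h2 h1)
  have hA1 : (1 : ℝ) ≤ ‖((n₀ - n₁ : ℤ) : ℂ)‖ := by
    rw [Complex.norm_intCast, ← Int.cast_abs, ← Int.cast_one]
    exact_mod_cast Int.one_le_abs (fun e => hA0 (by rw [e, Int.cast_zero]))
  -- Cauchy-Schwarz
  have hrow : ∀ x : ↥P, x ≠ 1 → (Nat.card ↥C : ℝ) ≤ ∑ y : ↥C, ‖η ((x : G) * y)‖ ^ 2 := by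
    intro x hx
    have h1 : ‖∑ y : ↥C, η ((x : G) * y)‖ ^ 2 ≤ (Nat.card ↥C : ℝ) * ∑ y : ↥C, ‖η ((x : G) * y)‖ ^ 2 := by
      refine (pow_le_pow_left₀ (norm_nonneg _) (norm_sum_le _ _) 2).trans ?_
      have := sq_sum_le_card_mul_sum_sq (s := Finset.univ) (f := fun y : ↥C => ‖η ((x : G) * y)‖)
      simpa [Nat.card_eq_fintype_card] using this
    have h2 : ∑ y : ↥C, η ((x : G) * y) = c * A x := by
      rw [hA]; field_simp
    rw [h2, hAval x hx, norm_mul, mul_pow, hc, Complex.norm_natCast] at h1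
    have hpos : (0 : ℝ) < Nat.card ↥C := Nat.cast_pos.2 Nat.card_pos
    have h3 : (1 : ℝ) ≤ ‖((n₀ - n₁ : ℤ) : ℂ)‖ ^ 2 := one_le_pow₀ hA1
    nlinarith
  rw [pieceSq, h.card_S]
  set s := (Finset.univ.erase (1 : ↥P)) ×ˢ (Finset.univ : Finset ↥C)
  have hle : (((p : ℝ) ^ q - 1) * Nat.card ↥C) ≤
      ∑ a ∈ (Finset.univ : Finset ↥S).filter (fun a : ↥S => (a : G) ∈ (hS S U : Set G) \ {1}),
        ‖η a‖ ^ 2 := by
    have hsub : s.image (fun x => ((mul' x : ↥(hSub S U)) : ↥S)) ⊆
        (Finset.univ : Finset ↥S).filter (fun a : ↥S => (a : G) ∈ (hS S U : Set G) \ {1}) := by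
      intro z hz
      obtain ⟨x, hx, rfl⟩ := Finset.mem_image.1 hz
      refine Finset.mem_filter.2 ⟨Finset.mem_univ _, (mul' x).2, fun e => ?_⟩
      have h1 : mul' x = 1 := Subtype.ext (Subtype.ext e)
      have h2 : x = 1 := mul'.injective (h1.trans (map_one _).symm)
      exact (Finset.mem_erase.1 (Finset.mem_product.1 hx).1).1 (by rw [h2]; rfl)
    refine le_trans ?_ (Finset.sum_le_sum_of_subset_of_nonneg hsub fun _ _ _ => sq_nonneg _)
    rw [Finset.sum_image fun x _ y _ e => mul'.injective (Subtype.ext e), Finset.sum_product]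
    refine le_trans (le_of_eq ?_) (Finset.sum_le_sum (f := fun _ => (Nat.card ↥C : ℝ))
      fun x hx => hrow x (Finset.mem_erase.1 hx).1)
    rw [Finset.sum_const, Finset.card_erase_of_mem (Finset.mem_univ _), Finset.card_univ,
      ← Nat.card_eq_fintype_card, h.card_P, nsmul_eq_mul,
      Nat.cast_sub (Nat.one_le_pow _ _ h.hp.pos)]
    push_cast
    rfl
  rw [div_mul_eq_mul_div, div_eq_inv_mul]
  push_cast
  convert mul_le_mul_of_nonneg_left hle (show (0 : ℝ) ≤ ((p : ℝ) ^ q * Nat.card U * q)⁻¹ by positivity) using 3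
  congr 1
  ext; simp

end Cfsg.Agent.Peterfalvi.Sec13
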