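import Cfsg.Agent.Lib.Peterfalvi.Sec7Rho
import Cfsg.Agent.Lib.Peterfalvi.Sec13.Values

/-!
# Peterfalvi section 13: counting over three TI pieces and the remaining elements (owner: helper38)

* `TIPiece A L` : `A` is a TI set of `G` inside `L` and `L` normalises it
* `pieceSq A L χ` : `|L|⁻¹ ∑_{a ∈ A} ‖χ a‖ ^ 2`
* `three_piece_bound` : the inequality for two class functions of norm one not vanishing together
  off the three pieces
-/

set_option autoImplicit false

namespace Cfsg.Agent.Peterfalvi.Sec13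

open Cfsg Cfsg.Agent Cfsg.Agent.Char Cfsg.Agent.Coherence

universe u

variable {G : Type u} [Group G] [Fintype G]

/-- `A` is a TI set inside `L` normalised by `L`. -/
structure TIPiece (A : Set G) (L : Subgroup G) : Prop where
  one_not_mem : (1 : G) ∉ A
  subset : A ⊆ (L : Set G)
  conj_mem : ∀ x ∈ L, ∀ a ∈ A, x * a * x⁻¹ ∈ A
  ti : ∀ a ∈ A, ∀ g : G, g * a * g⁻¹ ∈ A → g ∈ L
  pow_mem : ∀ a ∈ A, ∀ l : ℕ, l.Coprime (orderOf a) → a ^ l ∈ A

variable {A B C : Set G} {L M N : Subgroup G}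

omit [Fintype G] in
theorem TIPiece.centralizer_le (h : TIPiece A L) {a : G} (ha : a ∈ A) :
    Subgroup.centralizer ({a} : Set G) ≤ L := fun g hg =>
  h.ti a ha g (by rwa [Subgroup.mem_centralizer_singleton_iff.1 hg, mul_inv_cancel_right])

omit [Fintype G] in
theorem TIPiece.dade [Finite G] (h : TIPiece A L) : DadeHypothesis A L (fun _ => ⊥) where
  one_not_mem := h.one_not_mem
  subset := h.subset
  conj_mem := h.conj_mem
  fusion a ha g hg := ⟨g, h.ti a ha g hg, rfl⟩
  le_centralizer a _ := bot_le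
  conj_mem_H a _ c _ u hu := by simp [Subgroup.mem_bot.1 hu]
  inf_eq_bot a _ := bot_inf_eq _
  sup_eq a ha := by rw [bot_sup_eq]; exact inf_eq_right.2 (h.centralizer_le ha)
  coprime a _ b _ := by simp

omit [Fintype G] in
theorem mem_support_bot {g : G} :
    g ∈ Dade.support A (fun _ => (⊥ : Subgroup G)) ↔ ∃ x : G, x * g * x⁻¹ ∈ A := by
  constructor
  · rintro ⟨a, ha, u, hu, x, hx⟩
    rw [Subgroup.mem_bot] at hu
    rw [hu, mul_one] at hx
    exact ⟨x, hx ▸ ha⟩
  · rintro ⟨x, hx⟩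
    exact ⟨_, hx, 1, one_mem _, x, by simp⟩

open Classical in
/-- `|L|⁻¹ ∑_{a ∈ A} ‖χ a‖ ^ 2`. -/
noncomputable def pieceSq (A : Set G) (L : Subgroup G) (χ : G → ℂ) : ℝ :=
  (Nat.card ↥L : ℝ)⁻¹ * ∑ a ∈ (Finset.univ : Finset ↥L).filter (fun a : ↥L => (a : G) ∈ A), ‖χ a‖ ^ 2

theorem pieceSq_nonneg (A : Set G) (L : Subgroup G) (χ : G → ℂ) : 0 ≤ pieceSq A L χ := by
  unfold pieceSq; positivity

open Classical in
theorem pieceSq_one (A : Set G) (L : Subgroup G) :
    pieceSq A L (fun _ => 1) =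
      (((Finset.univ : Finset ↥L).filter (fun a : ↥L => (a : G) ∈ A)).card : ℝ) / Nat.card ↥L := by
  simp [pieceSq, div_eq_inv_mul]

theorem rhoSq_bot [Fintype ↥L] (χ : G → ℂ) :
    rhoSq A L (fun _ => ⊥) χ = pieceSq A L χ := by
  classical
  rw [rhoSq, pieceSq, Finset.sum_filter]
  congr 1
  refine Finset.sum_congr (by ext; simp) fun a _ => ?_
  split_ifs with ha
  · rw [dadeRho_of_bot ha rfl]
  · rw [dadeRho_of_not_mem ha, norm_zero, zero_pow two_ne_zero]

theorem exists_coprime_inverse (g : G) {k : ℕ} (hk : k.Coprime (Nat.card G)) :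
    ∃ l : ℕ, l.Coprime (Nat.card G) ∧ (g ^ k) ^ l = g := by
  haveI : NeZero (Nat.card G) := ⟨Nat.card_pos.ne'⟩
  set u := ZMod.unitOfCoprime k hk
  refine ⟨((u⁻¹ : (ZMod (Nat.card G))ˣ) : ZMod (Nat.card G)).val, ZMod.val_coe_unit_coprime _, ?_⟩
  rw [← pow_mul]
  conv_rhs => rw [← pow_one g]
  refine pow_eq_pow_iff_modEq.2 (Nat.ModEq.of_dvd (orderOf_dvd_natCard g) ?_)
  rw [← ZMod.natCast_eq_natCast_iff, Nat.cast_mul, ZMod.natCast_val, ZMod.cast_id, Nat.cast_one]
  exact Units.mul_inv u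

theorem cycloValued_signed {f : G → ℂ} (hf : IsSignedIrr G f) : GaloisAvg.CycloValued f := by
  rcases hf with h | h
  · exact GaloisAvg.cycloValued_character (IsIrrCharacter.isCharacter h)
  · intro g
    obtain ⟨P, hP⟩ := GaloisAvg.cycloValued_character (IsIrrCharacter.isCharacter h) g
    exact ⟨-P, fun k => by rw [map_neg, ← hP k]; simp⟩

theorem classInner_signed_self {f : G → ℂ} (hf : IsSignedIrr G f) : classInner f f = 1 := by
  rcases hf with h | h
  · exact classInner_irr_self h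
  · have := classInner_irr_self h
    rwa [classInner_neg_left, classInner_neg_right, neg_neg] at this

/-- The inequality over three TI pieces. -/
theorem three_piece_bound (hA : TIPiece A L) (hB : TIPiece B M) (hC : TIPiece C N)
    (hAB : ∀ g : G, ∀ a ∈ A, g * a * g⁻¹ ∉ B) (hAC : ∀ g : G, ∀ a ∈ A, g * a * g⁻¹ ∉ C)
    (hBC : ∀ g : G, ∀ b ∈ B, g * b * g⁻¹ ∉ C) {f h : G → ℂ} (hf : IsSignedIrr G f)
    (hh : IsSignedIrr G h)
    (h0 : ∀ g : G, g ≠ 1 → (∀ x : G, x * g * x⁻¹ ∉ A ∧ x * g * x⁻¹ ∉ B ∧ x * g * x⁻¹ ∉ C) →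
      f g ≠ 0 ∨ h g ≠ 0) :
    pieceSq A L f + pieceSq A L h + pieceSq B M h + pieceSq C N h ≤
      1 + pieceSq A L (fun _ => 1) + pieceSq B M (fun _ => 1) + pieceSq C N (fun _ => 1) := by
  classical
  let As : Fin 3 → Set G := ![A, B, C]
  let Ls : Fin 3 → Subgroup G := ![L, M, N]
  let Rs : Fin 3 → G → Subgroup G := fun _ _ => ⊥
  haveI : ∀ i, Fintype ↥(Ls i) := fun i => Fintype.ofFinite _
  have hDs : ∀ i, DadeHypothesis (As i) (Ls i) (Rs i) := by
    intro i
    fin_cases i
    exacts [hA.dade, hB.dade, hC.dade]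
  have hpow : ∀ i, ∀ a ∈ As i, ∀ l : ℕ, l.Coprime (orderOf a) → a ^ l ∈ As i := by
    intro i
    fin_cases i
    exacts [hA.pow_mem, hB.pow_mem, hC.pow_mem]
  have sym : ∀ {X Y : Set G}, (∀ g : G, ∀ a ∈ X, g * a * g⁻¹ ∉ Y) →
      Disjoint (Dade.support X (fun _ => (⊥ : Subgroup G))) (Dade.support Y (fun _ => ⊥)) := by
    intro X Y hXY
    rw [Set.disjoint_left]
    intro g hg hg'
    obtain ⟨x, hx⟩ := mem_support_bot.1 hg
    obtain ⟨y, hy⟩ := mem_support_bot.1 hg'
    exact hXY (y * x⁻¹) _ hx (by simpa [mul_assoc] using hy)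
  have hdis : ∀ i j, i ≠ j →
      Disjoint (Dade.support (As i) (Rs i)) (Dade.support (As j) (Rs j)) := by
    intro i j hij
    fin_cases i <;> fin_cases j
    all_goals first
      | exact absurd rfl hij
      | exact sym hAB
      | exact sym hAC
      | exact sym hBC
      | exact (sym hAB).symm
      | exact (sym hAC).symm
      | exact (sym hBC).symm
  have hG : (0 : ℝ) < Nat.card G := by exact_mod_cast Nat.card_pos
  have bf := family_bound hDs hdis (isGC_isClassFunction (isGC_signed hf))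
  have bh := family_bound hDs hdis (isGC_isClassFunction (isGC_signed hh))
  have b1 := family_one hDs hdis
  rw [classInner_signed_self hf, Complex.one_re] at bf
  rw [classInner_signed_self hh, Complex.one_re] at bh
  simp only [Fin.sum_univ_three, As, Ls, Rs, Matrix.cons_val_zero, Matrix.cons_val_one, Matrix.cons_val, rhoSq_bot] at bf bh b1
  set O := offSupports As Rs
  have hkey : (O.card : ℝ) ≤ ∑ g ∈ O, (‖f g‖ ^ 2 + ‖h g‖ ^ 2) := by
    refine card_le_sum_sq_add (cycloValued_signed hf) (cycloValued_signed hh) O (fun g hg k hk => ?_)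
      fun g hg => ?_
    · rw [mem_offSupports] at hg ⊢
      intro i hm
      obtain ⟨x, hx⟩ := mem_support_bot.1 hm
      obtain ⟨l, hl1, hl2⟩ := exists_coprime_inverse g hk
      refine hg i (mem_support_bot.2 ⟨x, ?_⟩)
      have hco : l.Coprime (orderOf (x * g ^ k * x⁻¹)) :=
        hl1.coprime_dvd_right (orderOf_dvd_natCard _)
      have hp := hpow i _ hx l hco
      rwa [conj_pow, hl2] at hp
    · rw [mem_offSupports] at hg
      by_cases h1 : g = 1
      · subst h1
        left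
        rcases hf with e | e
        · exact IsIrrCharacter.apply_one_ne_zero e
        · have := IsIrrCharacter.apply_one_ne_zero e
          simpa using this
      · refine h0 g h1 fun x => ⟨fun e => hg 0 (mem_support_bot.2 ⟨x, e⟩),
          fun e => hg 1 (mem_support_bot.2 ⟨x, e⟩), fun e => hg 2 (mem_support_bot.2 ⟨x, e⟩)⟩
  rw [Finset.sum_add_distrib] at hkey
  have hkey' := mul_le_mul_of_nonneg_left hkey (inv_nonneg.2 hG.le)
  rw [mul_add] at hkey'
  have := pieceSq_nonneg B M f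
  have := pieceSq_nonneg C N f
  linarith

end Cfsg.Agent.Peterfalvi.Sec13
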