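import Cfsg.Agent.Lib.Peterfalvi.Sec9Struct
import Cfsg.Agent.Lib.Peterfalvi.Sec4PrimeTI
import Cfsg.Agent.Lib.Peterfalvi.Sec5TypeP
import Cfsg.Agent.Lib.Peterfalvi.Sec13.Count

/-!
# Peterfalvi section 13: one side `S` of the pair (owner: helper38)

* `cU S U` : `C = C_U(S_F)`; `hS S U` : `H = S_F C`
* `Side S W₁ U W₂ p q` : the hypotheses on one side, and their elementary consequences
* `Side.piece` : `H ∖ 1` is a TI piece; `Side.sylow` : every `p`-element is conjugate into `S_F`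
* `Pair` : the two sides; the three pieces are pairwise disjoint; `Pair.regular_part_mem`
-/

set_option autoImplicit false

namespace Cfsg.Agent.Peterfalvi.Sec13

open scoped Pointwise commutatorElement
open Cfsg Cfsg.Agent OddMax CyclicTI

universe u

variable {G : Type u} [Group G]

/-- `C = C_U(S_F)`. -/
def cU (S U : Subgroup G) : Subgroup G :=
  U ⊓ Subgroup.centralizer ((fittingHallOf S : Subgroup G) : Set G)

/-- `H = S_F C`. -/
def hS (S U : Subgroup G) : Subgroup G := fittingHallOf S ⊔ cU S U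

/-- The hypotheses of section 13 on one side. -/
structure Side [Finite G] (S W₁ U W₂ : Subgroup G) (p q : ℕ) : Prop where
  hG : IsMinSimpleOddOrder G
  hyp : Hyp9 S W₁ U W₂
  hp : p.Prime
  hq : q.Prime
  card₂ : Nat.card W₂ = p
  card₁ : Nat.card W₁ = q
  elem : IsElementaryAbelian p (fittingHallOf S)
  card_P : Nat.card (fittingHallOf S) = p ^ q
  ti : IsTISubset (fittingOf S : Set G)

namespace Side

variable [Finite G] {S W₁ U W₂ : Subgroup G} {p q : ℕ} (h : Side S W₁ U W₂ p q)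
include h

theorem P_le : fittingHallOf S ≤ S := OddTypeP.fittingHallOf_le S

theorem P_ne : fittingHallOf S ≠ ⊥ := fun e => by
  have := h.card_P
  rw [e, Subgroup.card_bot] at this
  exact absurd this.symm (Nat.one_lt_pow h.hq.ne_zero h.hp.one_lt).ne'

theorem p_ne_two : p ≠ 2 := by
  have hd : p ∣ Nat.card (fittingHallOf S) := h.card_P ▸ dvd_pow_self p h.hq.ne_zero
  exact OddSigma.prime_ne_two h.hG hd

theorem q_ne_two : q ≠ 2 := OddSigma.prime_ne_two h.hG (H := W₁) (by rw [h.card₁])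

theorem ne : p ≠ q := by
  rintro rfl
  have := h.hyp.coprime_W.coprime_dvd_right (Subgroup.card_dvd_of_le (typeP_W₂_le h.hyp.data))
  rw [h.card₁, h.card₂] at this
  exact h.hp.ne_one (Nat.coprime_self p |>.1 this)

theorem P_comm {a b : G} (ha : a ∈ fittingHallOf S) (hb : b ∈ fittingHallOf S) : a * b = b * a := by
  haveI := h.elem.1
  exact congrArg Subtype.val (mul_comm' (⟨a, ha⟩ : fittingHallOf S) ⟨b, hb⟩)

theorem C_le : cU S U ≤ U ∧ cU S U ≤ S := ⟨inf_le_left, inf_le_left.trans h.hyp.le_M.2.2.2.2⟩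

theorem comm_P_C {a b : G} (ha : a ∈ fittingHallOf S) (hb : b ∈ cU S U) : a * b = b * a :=
  Subgroup.mem_centralizer_iff.1 hb.2 a ha

theorem P_inf_C : fittingHallOf S ⊓ cU S U = ⊥ :=
  le_bot_iff.1 ((inf_le_inf_left _ h.C_le.1).trans h.hyp.H_U_inf.le)

theorem isPair : IsPair (fittingHallOf S) (cU S U) :=
  ⟨h.P_inf_C, fun _ ha _ hb => h.comm_P_C ha hb⟩

theorem card_H : Nat.card (hS S U) = p ^ q * Nat.card (cU S U) := by
  rw [hS, ← Nat.card_congr h.isPair.prodEquiv.toEquiv, Nat.card_prod, h.card_P]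

theorem H_le : hS S U ≤ S := sup_le h.P_le h.C_le.2

theorem H_le_derived : hS S U ≤ ⁅S, S⁆ :=
  sup_le h.hyp.le_M.1 (h.C_le.1.trans h.hyp.le_M.2.1)

theorem H_cent_P {a : G} (ha : a ∈ hS S U) {b : G} (hb : b ∈ fittingHallOf S) : a * b = b * a := by
  obtain ⟨x, hx, y, hy, rfl⟩ := h.isPair.exists_mul ha
  rw [mul_assoc, ← h.comm_P_C hb hy, ← mul_assoc, h.P_comm hx hb, mul_assoc]

theorem H_eq : fittingOf S = hS S U := by
  rw [← h.hyp.data.fitting_eq]
  refine le_antisymm (sup_le le_sup_left fun x hx => ?_)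
    (sup_le le_sup_left fun x hx => Subgroup.mem_sup_right ⟨h.C_le.2 hx, hx.2⟩)
  have hx' : x ∈ ⁅S, S⁆ := h.hyp.data.fitting_le (by
    rw [← h.hyp.data.fitting_eq]; exact Subgroup.mem_sup_right hx)
  obtain ⟨a, ha, u, hu, rfl⟩ := h.hyp.data.U_compl.2.2.2 x hx'
  refine mul_mem (Subgroup.mem_sup_left ha) (Subgroup.mem_sup_right ⟨hu, ?_⟩)
  have hac : a ∈ Subgroup.centralizer ((fittingHallOf S : Subgroup G) : Set G) :=
    Subgroup.mem_centralizer_iff.2 fun b hb => h.P_comm hb ha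
  have := mul_mem (inv_mem hac) hx.2
  rwa [inv_mul_cancel_left] at this

theorem normalizer_H : Subgroup.normalizer (hS S U : Set G) = S := by
  refine ((show S ≤ _ from ?_).eq_or_lt).elim Eq.symm fun hlt => absurd (h.hyp.coatom.2 _ hlt) ?_
  · rw [← h.H_eq]; exact OddMax.le_normalizer_fittingOf S
  · refine OddSigma.normalizer_ne_top h.hG (fun e => h.P_ne (le_bot_iff.1 (e ▸ le_sup_left))) ?_
    exact fun e => h.hyp.coatom.1 (top_le_iff.1 (e ▸ h.H_le))

theorem ti_mem {a g : G} (ha : a ∈ hS S U) (ha1 : a ≠ 1) (hg : g * a * g⁻¹ ∈ hS S U) : g ∈ S := by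
  by_contra hgS
  refine ha1 (h.ti g ?_ a (h.H_eq ▸ ha) (h.H_eq ▸ hg))
  rwa [h.H_eq, h.normalizer_H]

theorem H_conj {x a : G} (hx : x ∈ S) (ha : a ∈ hS S U) : x * a * x⁻¹ ∈ hS S U := by
  rw [← h.normalizer_H] at hx
  exact (Subgroup.mem_normalizer_iff.1 hx a).1 ha

theorem piece : TIPiece ((hS S U : Set G) \ {1}) S where
  one_not_mem e := e.2 rfl
  subset a ha := h.H_le ha.1
  conj_mem x hx a ha := ⟨h.H_conj hx ha.1, fun e => ha.2 (conj_eq_one_iff.1 e)⟩
  ti a ha g hg := h.ti_mem ha.1 ha.2 hg.1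
  pow_mem a ha l hl := ⟨pow_mem ha.1 l, fun e => ha.2 (by
    obtain ⟨m, hm⟩ := exists_pow_eq_self_of_coprime hl
    rw [Set.mem_singleton_iff.1 e, one_pow] at hm
    exact hm.symm)⟩

theorem cent_le {a : G} (ha : a ∈ hS S U) (ha1 : a ≠ 1) :
    Subgroup.centralizer ({a} : Set G) ≤ S := h.piece.centralizer_le ⟨ha, ha1⟩

theorem card_derived : Nat.card ↥⁅S, S⁆ = p ^ q * Nat.card U := by
  rw [← compl_card h.hyp.data.U_compl, h.card_P]

theorem card_S : Nat.card S = p ^ q * Nat.card U * q := by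
  rw [← compl_card h.hyp.data.W₁_compl, h.card_derived, h.card₁]

theorem not_dvd_U : ¬ p ∣ Nat.card U ∧ ¬ q ∣ Nat.card U := by
  refine ⟨fun hd => ?_, fun hd => ?_⟩
  · have := h.hyp.coprime_U
    rw [h.card_P] at this
    exact h.hp.ne_one (Nat.eq_one_of_dvd_coprimes this hd (dvd_pow_self p h.hq.ne_zero))
  · have := h.hyp.coprime_W
    rw [h.card₁, h.card_derived] at this
    exact h.hq.ne_one (Nat.eq_one_of_dvd_coprimes this dvd_rfl (hd.mul_left _))

/-- A subgroup of `S` of `p`-power order lies in `S_F`. -/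
theorem le_P_of_pGroup {X : Subgroup G} (hXS : X ≤ S) {n : ℕ} (hX : Nat.card X = p ^ n) :
    X ≤ fittingHallOf S := by
  haveI := Fact.mk h.hp
  intro x hx
  by_contra hxP
  have hn : X ≤ Subgroup.normalizer ((fittingHallOf S : Subgroup G) : Set G) :=
    hXS.trans (OddTypeP.normal_of_map S)
  have hp' : IsPGroup p ↥(fittingHallOf S ⊔ X) := by
    rw [sup_comm]
    exact IsPGroup.to_sup_of_normal_right' (IsPGroup.of_card hX) (IsPGroup.of_card h.card_P) hn
  obtain ⟨m, hm⟩ := hp'.exists_card_eq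
  have hd : p ^ m ∣ p ^ q := by
    have h1 := Subgroup.card_dvd_of_le (sup_le h.P_le hXS : fittingHallOf S ⊔ X ≤ S)
    rw [hm, h.card_S, mul_assoc] at h1
    refine (Nat.Coprime.pow_left m ?_).dvd_of_dvd_mul_right h1
    rw [h.hp.coprime_iff_not_dvd, h.hp.dvd_mul]
    exact fun e => e.elim h.not_dvd_U.1 fun e' =>
      h.ne ((Nat.prime_dvd_prime_iff_eq h.hp h.hq).1 e')
  have he : fittingHallOf S = fittingHallOf S ⊔ X :=
    Subgroup.eq_of_le_of_card_ge le_sup_left (by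
      rw [hm, h.card_P]; exact Nat.le_of_dvd (Nat.pow_pos h.hp.pos) hd)
  exact hxP (he ▸ Subgroup.mem_sup_right hx)

/-- `S_F` is a Sylow subgroup of `G`. -/
theorem sylow {g : G} {k : ℕ} (hg : g ^ p ^ k = 1) : ∃ x : G, x * g * x⁻¹ ∈ fittingHallOf S := by
  haveI := Fact.mk h.hp
  obtain ⟨R, hR⟩ := (IsPGroup.of_card h.card_P : IsPGroup p (fittingHallOf S)).exists_le_sylow
  have hRP : (R : Subgroup G) ≤ fittingHallOf S := by
    haveI : Group.IsNilpotent (R : Subgroup G) := R.2.isNilpotent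
    by_contra hne
    have hlt : (fittingHallOf S).subgroupOf (R : Subgroup G) < ⊤ := by
      rw [lt_top_iff_ne_top, Ne, Subgroup.subgroupOf_eq_top]
      exact hne
    have hlt' := normalizerCondition_of_isNilpotent _ hlt
    obtain ⟨x, hx, hxn⟩ := SetLike.exists_of_lt hlt'
    have hxS : (x : G) ∈ S := by
      have hN : Subgroup.normalizer ((fittingHallOf S : Subgroup G) : Set G) = S := by
        refine ((OddTypeP.normal_of_map S).eq_or_lt).elim Eq.symm fun hl =>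
          absurd (h.hyp.coatom.2 _ hl) (OddSigma.normalizer_ne_top h.hG h.P_ne
            fun e => h.hyp.coatom.1 (top_le_iff.1 (e ▸ h.P_le)))
      rw [← hN, Subgroup.mem_normalizer_iff]
      intro z
      have hx' := Subgroup.mem_normalizer_iff.1 hx
      constructor
      · intro hz
        exact (hx' ⟨z, hR hz⟩).1 hz
      · intro hz
        have hzR : z ∈ (R : Subgroup G) := by
          have := R.1.mul_mem (R.1.mul_mem (R.1.inv_mem x.2) (hR hz)) x.2
          simpa [mul_assoc] using this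
        exact (hx' ⟨z, hzR⟩).2 hz
    obtain ⟨n, hn⟩ := (R.2.to_le (Subgroup.zpowers_le.2 x.2)).exists_card_eq
    exact hxn (h.le_P_of_pGroup (Subgroup.zpowers_le.2 hxS) hn (Subgroup.mem_zpowers (x : G)))
  obtain ⟨R', hR'⟩ := (IsPGroup.of_card (n := ((Nat.dvd_prime_pow h.hp).1
    (orderOf_dvd_of_pow_eq_one hg)).choose) (by
      rw [Nat.card_zpowers]
      exact ((Nat.dvd_prime_pow h.hp).1 (orderOf_dvd_of_pow_eq_one hg)).choose_spec.2) :
        IsPGroup p (Subgroup.zpowers g)).exists_le_sylow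
  obtain ⟨y, hy⟩ := MulAction.exists_smul_eq G R' R
  refine ⟨y, hRP ?_⟩
  rw [← hy]
  show y * g * y⁻¹ ∈ MulAut.conj y • (R' : Subgroup G)
  exact Coprime.conj_mem_conj.2 (hR' (Subgroup.mem_zpowers g))

theorem pow_le_of_mem {a : G} (ha : a ∈ hS S U) {X : Subgroup G}
    (hX : Subgroup.centralizer ({a} : Set G) ≤ X) : p ^ q ∣ Nat.card X := by
  rw [← h.card_P]
  exact Subgroup.card_dvd_of_le (le_trans (fun b hb =>
    Subgroup.mem_centralizer_singleton_iff.2 (h.H_cent_P ha hb).symm) hX)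

end Side

/-- The two sides. -/
structure Pair [Finite G] (S T W₁ W₂ U V : Subgroup G) (p q : ℕ) : Prop where
  left : Side S W₁ U W₂ p q
  right : Side T W₂ V W₁ q p

namespace Pair

variable [Finite G] {S T W₁ W₂ U V : Subgroup G} {p q : ℕ} (h : Pair S T W₁ W₂ U V p q)
include h

theorem symm : Pair T S W₂ W₁ V U q p := ⟨h.right, h.left⟩

theorem hW : IsSelfNormalizingCyclic W₁ W₂ := h.left.hyp.data.selfNormalizing

theorem card_W : Nat.card ↥(W₁ ⊔ W₂) = q * p := by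
  rw [← Nat.card_congr (isPair_of_selfNormalizing h.hW).prodEquiv.toEquiv, Nat.card_prod,
    h.left.card₁, h.left.card₂]

theorem pieceW : TIPiece {w | w ∈ W₁ ⊔ W₂ ∧ w ∉ W₁ ∧ w ∉ W₂} (W₁ ⊔ W₂) where
  one_not_mem e := e.2.1 (one_mem _)
  subset a ha := ha.1
  conj_mem x hx a ha := by
    have := comm_of_selfNormalizing h.hW ⟨x, hx⟩ ⟨a, ha.1⟩
    rwa [show x * a = a * x from congrArg Subtype.val this, mul_inv_cancel_right]
  ti a ha g hg := mem_of_conj_mem h.hW ha.1 ha.2.1 ha.2.2 hg.1 hg.2.1 hg.2.2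
  pow_mem a ha l hl := by
    obtain ⟨m, hm⟩ := exists_pow_eq_self_of_coprime hl
    exact ⟨pow_mem ha.1 l, fun e => ha.2.1 (hm ▸ pow_mem e m), fun e => ha.2.2 (hm ▸ pow_mem e m)⟩

theorem disjoint_W {g a : G} (ha : a ∈ hS S U) :
    ¬ (g * a * g⁻¹ ∈ W₁ ⊔ W₂ ∧ g * a * g⁻¹ ∉ W₁ ∧ g * a * g⁻¹ ∉ W₂) := by
  rintro ⟨h0, h1, h2⟩
  have hc := CyclicTI.centralizer_eq h.hW h0 h1 h2
  have hd := h.left.pow_le_of_mem ha
    (X := MulAut.conj g⁻¹ • (W₁ ⊔ W₂)) (fun z hz => by
      have hz' := Subgroup.mem_centralizer_singleton_iff.1 hz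
      have : g * z * g⁻¹ ∈ W₁ ⊔ W₂ := by
        rw [← hc, Subgroup.mem_centralizer_singleton_iff]
        calc g * z * g⁻¹ * (g * a * g⁻¹) = g * (z * a) * g⁻¹ := by group
          _ = g * (a * z) * g⁻¹ := by rw [hz']
          _ = _ := by group
      rw [Coprime.mem_conj, inv_inv]
      exact this)
  rw [Coprime.card_conj, h.card_W] at hd
  have hp := h.left.hp
  have h2 : p ^ 2 ∣ q * p := (pow_dvd_pow p h.left.hq.two_le).trans hd
  rw [pow_two] at h2
  exact h.left.ne ((Nat.prime_dvd_prime_iff_eq hp h.left.hq).1 (Nat.dvd_of_mul_dvd_mul_right hp.pos h2))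

theorem disjoint_T {g a : G} (ha : a ∈ hS S U) (ha1 : a ≠ 1) : g * a * g⁻¹ ∉ hS T V := by
  intro hb
  have hd := h.left.pow_le_of_mem ha (X := MulAut.conj g⁻¹ • T) (fun z hz => by
    have hz' := Subgroup.mem_centralizer_singleton_iff.1 hz
    rw [Coprime.mem_conj, inv_inv]
    refine h.right.cent_le hb (fun e => ha1 (conj_eq_one_iff.1 e)) ?_
    rw [Subgroup.mem_centralizer_singleton_iff]
    calc g * z * g⁻¹ * (g * a * g⁻¹) = g * (z * a) * g⁻¹ := by group
      _ = g * (a * z) * g⁻¹ := by rw [hz']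
      _ = _ := by group)
  rw [Coprime.card_conj, h.right.card_S] at hd
  have hp := h.left.hp
  have h2 : p ^ 2 ∣ q ^ p * Nat.card V * p := (pow_dvd_pow p h.left.hq.two_le).trans hd
  rw [pow_two] at h2
  rcases hp.dvd_mul.1 (Nat.dvd_of_mul_dvd_mul_right hp.pos h2) with e | e
  · exact h.left.ne ((Nat.prime_dvd_prime_iff_eq hp h.left.hq).1 (hp.dvd_of_dvd_pow e))
  · exact h.right.not_dvd_U.2 e

/-- Outside the three pieces the `q'`-part is neither trivial nor conjugate into a piece at `S`. -/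
theorem regular_part {g g' : G} (hg1 : g ≠ 1) {k : ℕ} (hk : g ^ q ^ k = g' ^ q ^ k)
    (hzp : g' ∈ Subgroup.zpowers g) (hg' : ¬ q ∣ orderOf g')
    (hS' : ∀ x : G, x * g * x⁻¹ ∉ (hS S U : Set G) \ {1})
    (hT' : ∀ x : G, x * g * x⁻¹ ∉ (hS T V : Set G) \ {1})
    (hW' : ∀ x : G, ¬ (x * g * x⁻¹ ∈ W₁ ⊔ W₂ ∧ x * g * x⁻¹ ∉ W₁ ∧ x * g * x⁻¹ ∉ W₂)) :
    g' ≠ 1 ∧ ∀ x : G, x * g' * x⁻¹ ∉ hS S U := by
  have hne : g' ≠ 1 := fun e => by
    rw [e, one_pow] at hk
    obtain ⟨x, hx⟩ := h.right.sylow hk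
    exact hT' x ⟨Subgroup.mem_sup_left hx, fun e' => hg1 (conj_eq_one_iff.1 e')⟩
  refine ⟨hne, fun x ha => ?_⟩
  set γ := x * g * x⁻¹
  set a := x * g' * x⁻¹
  have ha1 : a ≠ 1 := fun e => hne (conj_eq_one_iff.1 e)
  have hγa : γ * a = a * γ := by
    obtain ⟨j, hj⟩ := Subgroup.mem_zpowers_iff.1 hzp
    have : g * g' = g' * g := by rw [← hj]; exact (Commute.self_zpow g j).eq
    calc γ * a = x * (g * g') * x⁻¹ := by simp only [γ, a]; group
      _ = x * (g' * g) * x⁻¹ := by rw [this]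
      _ = a * γ := by simp only [γ, a]; group
  have hγS : γ ∈ S := h.left.cent_le ha ha1 (Subgroup.mem_centralizer_singleton_iff.2 hγa)
  set z := γ * a⁻¹
  have hz : z ^ q ^ k = 1 := by
    rw [(Commute.inv_right (show Commute γ a from hγa)).mul_pow, inv_pow]
    simp only [γ, a, conj_pow, hk, mul_inv_cancel]
  have haS : a ∈ ⁅S, S⁆ := h.left.H_le_derived ha
  have hzS : z ∈ S := mul_mem hγS (inv_mem (h.left.H_le ha))
  have hcop : (q ^ k).Coprime (Nat.card ↥⁅S, S⁆) := by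
    refine Nat.Coprime.pow_left k ?_
    have := h.left.hyp.coprime_W
    rwa [h.left.card₁] at this
  have hout : γ ∉ ⁅S, S⁆ := fun hin => by
    have hz' : z ∈ ⁅S, S⁆ := mul_mem hin (inv_mem haS)
    have hz1 : z = 1 := orderOf_eq_one_iff.1 (Nat.eq_one_of_dvd_coprimes hcop
      (orderOf_dvd_of_pow_eq_one hz) (Subgroup.orderOf_dvd_natCard _ hz'))
    have hγ : γ = a := mul_inv_eq_one.1 hz1
    have hγ' : x * g * x⁻¹ = a := hγ
    exact hS' x ⟨hγ'.symm ▸ ha, fun e => ha1 (hγ'.symm.trans e)⟩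
  obtain ⟨y, w, hw, hyw⟩ := (primeTI_of_typeP h.left.hG h.left.hyp.coatom h.left.hyp.data).exists_conj_W
    (x := (⟨γ, hγS⟩ : ↥S)) hout
  have hyw' : γ = (y : G) * w * (y : G)⁻¹ := congrArg Subtype.val hyw
  by_cases hw1 : (w : G) ∈ W₁
  · -- then `γ` is a `q`-element and `a` is trivial
    have hwq : (w : G) ^ q = 1 := orderOf_dvd_iff_pow_eq_one.1
      (h.left.card₁ ▸ Subgroup.orderOf_dvd_natCard _ hw1)
    have hγq : γ ^ q = 1 := by rw [hyw', conj_pow, hwq]; group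
    have hgq : g ^ q = 1 := by
      rw [show γ ^ q = x * g ^ q * x⁻¹ from conj_pow] at hγq
      exact conj_eq_one_iff.1 hγq
    have hd : orderOf g' ∣ q := by
      refine dvd_trans ?_ (orderOf_dvd_of_pow_eq_one hgq)
      obtain ⟨j, hj⟩ := Subgroup.mem_zpowers_iff.1 hzp
      rw [← hj]
      exact orderOf_dvd_of_mem_zpowers (Subgroup.zpow_mem_zpowers g j)
    rcases (Nat.dvd_prime h.left.hq).1 hd with e | e
    · exact hne (orderOf_eq_one_iff.1 e)
    · exact hg' (e ▸ dvd_rfl)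
  · refine hW' ((y : G)⁻¹ * x) ?_
    have : (y : G)⁻¹ * x * g * ((y : G)⁻¹ * x)⁻¹ = w := by
      rw [show (y : G)⁻¹ * x * g * ((y : G)⁻¹ * x)⁻¹ = (y : G)⁻¹ * γ * y by simp only [γ]; group,
        hyw']
      group
    rw [this]
    exact ⟨w.2, hw1, hw⟩

end Pair

end Cfsg.Agent.Peterfalvi.Sec13
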