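import Cfsg.Agent.EqLemmas
import Mathlib.Data.Real.Basic
import Mathlib.Data.Nat.Prime.Basic
import Mathlib.Tactic.Linarith
import Mathlib.Tactic.Ring
import Mathlib.Tactic.NormNum
import Mathlib.Tactic.NormNum.Prime
import Mathlib.Tactic.FieldSimp
import Mathlib.Tactic.IntervalCases
import Mathlib.Tactic.Positivity

/-!
# Peterfalvi section 13: the numerical contradiction (owner: helper38)

* `X_bound`, `numeric` : with `c₁ = |C : C'| > 1` the test function inequality is impossible.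
-/

set_option autoImplicit false

namespace Cfsg.Agent.Peterfalvi.Sec13

theorem sub_one_cast {n : ℕ} (h : 1 ≤ n) : ((n - 1 : ℕ) : ℝ) = (n : ℝ) - 1 := by
  rw [Nat.cast_sub h, Nat.cast_one]

theorem succ_prime_bound {n : ℕ} (hn : n.Prime) (h2 : n ≠ 2) : 3 ≤ n := by
  have := hn.two_le
  omega

theorem odd_prime_five {n : ℕ} (hn : n.Prime) (h2 : n ≠ 2) (h3 : n ≠ 3) : 5 ≤ n := hn.five_le_of_ne_two_of_ne_three h2 h3

/-- `v / (Q - 1) + 1 / v` is small. -/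
theorem X_bound {p q v : ℕ} (hp : p.Prime) (hq : q.Prime) (hp2 : p ≠ 2) (hq2 : q ≠ 2) (hne : p ≠ q)
    (hv : v * (q - 1) ≤ q ^ p - 1) (hv2 : 2 * p + 1 ≤ v) :
    (5 ≤ q ∧ 5 ≤ p → (v : ℝ) / ((q : ℝ) ^ p - 1) + 1 / v ≤ 1 / 4 + 1 / 11) ∧
    (q = 3 → 11 ≤ p → (v : ℝ) / ((q : ℝ) ^ p - 1) + 1 / v ≤ 5251 / 10000) ∧
    (q = 3 → p = 5 → (v : ℝ) / ((q : ℝ) ^ p - 1) + 1 / v ≤ 5083 / 10000) ∧
    (q = 3 → p = 7 → (v : ℝ) / ((q : ℝ) ^ p - 1) + 1 / v ≤ 51 / 100) ∧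
    (p = 3 → q = 5 → (v : ℝ) / ((q : ℝ) ^ p - 1) + 1 / v ≤ 283 / 1000) ∧
    (p = 3 → 7 ≤ q → (v : ℝ) / ((q : ℝ) ^ p - 1) + 1 / v ≤ 1 / 4) := by
  have hv0 : (0 : ℝ) < v := by
    have : 0 < v := by omega
    exact_mod_cast this
  have hQ : (1 : ℝ) < (q : ℝ) ^ p := one_lt_pow₀ (by exact_mod_cast hq.one_lt) hp.ne_zero
  have hvr : (v : ℝ) * ((q : ℝ) - 1) ≤ (q : ℝ) ^ p - 1 := by
    have h : ((v * (q - 1) : ℕ) : ℝ) ≤ ((q ^ p - 1 : ℕ) : ℝ) := by exact_mod_cast hv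
    rwa [Nat.cast_mul, sub_one_cast hq.one_le, sub_one_cast (Nat.one_le_pow _ _ hq.pos), Nat.cast_pow] at h
  have hfrac : ∀ m : ℝ, 0 < m → m ≤ (q : ℝ) - 1 → (v : ℝ) / ((q : ℝ) ^ p - 1) ≤ 1 / m := fun m hm hmq => by
    rw [div_le_div_iff₀ (by linarith) hm]
    nlinarith
  have hinv : ∀ m : ℕ, 0 < m → m ≤ v → (1 : ℝ) / v ≤ 1 / m := fun m hm hmv =>
    one_div_le_one_div_of_le (by exact_mod_cast hm) (by exact_mod_cast hmv)
  have hsmall : ∀ m B : ℝ, (v : ℝ) ≤ m → 0 < B → B ≤ (q : ℝ) ^ p - 1 → (v : ℝ) / ((q : ℝ) ^ p - 1) ≤ m / B :=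
    fun m B h1 h2 h3 => div_le_div₀ (le_trans hv0.le h1) h1 h2 h3
  refine ⟨fun ⟨h5, h5'⟩ => ?_, fun h3 h11 => ?_, fun h3 h5 => ?_, fun h3 h7 => ?_, fun h3 h5 => ?_, fun h3 h7 => ?_⟩
  · have h1 := hfrac 4 (by norm_num) (by
      have : (5 : ℝ) ≤ q := by exact_mod_cast h5
      linarith)
    have h2 := hinv 11 (by norm_num) (by omega)
    push_cast at h2
    linarith
  · subst h3
    by_cases h : 40 ≤ v
    · have h1 := hfrac 2 (by norm_num) (by norm_num)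
      have h2 := hinv 40 (by norm_num) h
      push_cast at h2 h1 ⊢
      linarith
    · have hQ' : (177146 : ℝ) ≤ (3 : ℝ) ^ p - 1 := by
        have : (3 : ℝ) ^ 11 ≤ (3 : ℝ) ^ p := pow_le_pow_right₀ (by norm_num) h11
        norm_num at this
        linarith
      have h1 := hsmall 40 177146 (by exact_mod_cast (not_le.1 h).le) (by norm_num) (by exact_mod_cast hQ')
      have h2 := hinv 23 (by norm_num) (by omega)
      push_cast at h2 h1 ⊢
      linarith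
  · subst h3; subst h5
    norm_num at hvr hv2 ⊢
    have h11 : (11 : ℝ) ≤ v := by exact_mod_cast hv2
    rw [inv_eq_one_div, div_add_div _ _ (by norm_num) hv0.ne', div_le_div_iff₀ (by positivity) (by norm_num)]
    nlinarith [mul_nonneg (sub_nonneg.2 h11) (show (0 : ℝ) ≤ 121 - v by linarith)]
  · subst h3; subst h7
    norm_num at hvr hv2 ⊢
    have h11 : (15 : ℝ) ≤ v := by exact_mod_cast hv2
    rw [inv_eq_one_div, div_add_div _ _ (by norm_num) hv0.ne', div_le_div_iff₀ (by positivity) (by norm_num)]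
    nlinarith [mul_nonneg (sub_nonneg.2 h11) (show (0 : ℝ) ≤ 1093 - v by linarith)]
  · subst h3; subst h5
    norm_num at hvr hv2 ⊢
    have h11 : (7 : ℝ) ≤ v := by exact_mod_cast hv2
    rw [inv_eq_one_div, div_add_div _ _ (by norm_num) hv0.ne', div_le_div_iff₀ (by positivity) (by norm_num)]
    nlinarith [mul_nonneg (sub_nonneg.2 h11) (show (0 : ℝ) ≤ 31 - v by linarith)]
  · subst h3
    by_cases h : 12 ≤ v
    · have h1 := hfrac 6 (by norm_num) (by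
        have : (7 : ℝ) ≤ q := by exact_mod_cast h7
        linarith)
      have h2 := hinv 12 (by norm_num) h
      push_cast at h2
      linarith
    · have hQ' : (342 : ℝ) ≤ (q : ℝ) ^ 3 - 1 := by
        have : (7 : ℝ) ^ 3 ≤ (q : ℝ) ^ 3 := pow_le_pow_left₀ (by norm_num) (by exact_mod_cast h7) 3
        norm_num at this
        linarith
      have h1 := hsmall 12 342 (by exact_mod_cast (not_le.1 h).le) (by norm_num) hQ'
      have h2 := hinv 7 (by norm_num) (by omega)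
      push_cast at h2
      linarith

/-- The `c₁` term. -/
theorem term_le {p q k B : ℝ} (hp : 1 < p) (hk : 0 < k) (hc : k * B ≥ p * q / (p - 1)) {c : ℝ} (hkc : k ≤ c)
    (hq : 0 ≤ q) (hB : 0 ≤ B) : p * q / ((p - 1) * c) ≤ B := by
  rw [← div_div, div_le_iff₀ (lt_of_lt_of_le hk hkc)]
  nlinarith [mul_le_mul_of_nonneg_left hkc hB]

/-- The error term. -/
theorem err_le {p q : ℕ} (hp : 3 ≤ p) {m : ℕ} (hm : m + 1 ≤ q) (hq : 3 ≤ q) :
    (p : ℝ) / ((p : ℝ) ^ q * q) ≤ 1 / ((p : ℝ) ^ m * q) := by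
  have hp0 : (0 : ℝ) < p := by
    have : 0 < p := by omega
    exact_mod_cast this
  have hq0 : (0 : ℝ) < q := by
    have : 0 < q := by omega
    exact_mod_cast this
  rw [div_le_div_iff₀ (by positivity) (by positivity), one_mul]
  have h : (p : ℝ) ^ (m + 1) ≤ (p : ℝ) ^ q := pow_le_pow_right₀ (by exact_mod_cast le_trans (by norm_num) hp) hm
  have := mul_le_mul_of_nonneg_right h hq0.le
  rw [pow_succ] at this
  linarith

theorem numeric_five_five {p q : ℕ} {c X : ℝ} (hp : 5 ≤ p) (hq : 5 ≤ q) (hc : 2 * (q : ℝ) + 1 ≤ c)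
    (hX : X ≤ 1 / 4 + 1 / 11) :
    (p : ℝ) * q / (((p : ℝ) - 1) * c) + (p : ℝ) / ((p : ℝ) ^ q * q) < 1 - X := by
  have hpR : (5 : ℝ) ≤ p := by exact_mod_cast hp
  have hqR : (5 : ℝ) ≤ q := by exact_mod_cast hq
  have h1 := term_le (p := (p : ℝ)) (q := q) (B := 625 / 1000) (by linarith) (show (0 : ℝ) < 2 * q + 1 by positivity)
    (by rw [ge_iff_le, div_le_iff₀ (by linarith)]; nlinarith) hc (by positivity) (by norm_num)
  have h2 := err_le (p := p) (q := q) (m := 4) (by omega) (by omega) (by omega)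
  have h3 : 1 / ((p : ℝ) ^ 4 * q) ≤ 1 / 3125 := by
    refine one_div_le_one_div_of_le (by norm_num) ?_
    have : (5 : ℝ) ^ 4 ≤ (p : ℝ) ^ 4 := pow_le_pow_left₀ (by norm_num) hpR 4
    norm_num at this
    nlinarith
  linarith

theorem numeric_three_five {c X : ℝ} (hc : (11 : ℝ) ≤ c) (hX : X ≤ 283 / 1000) :
    (3 : ℝ) * 5 / ((3 - 1) * c) + (3 : ℝ) / (3 ^ 5 * 5) < 1 - X := by
  have h1 := term_le (p := (3 : ℝ)) (q := 5) (k := 11) (B := 682 / 1000) (by norm_num) (by norm_num) (by norm_num)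
    hc (by norm_num) (by norm_num)
  norm_num at h1 ⊢
  linarith

theorem numeric_three_seven {q : ℕ} {c X : ℝ} (hq : 7 ≤ q) (hc : 2 * (q : ℝ) + 1 ≤ c) (hX : X ≤ 1 / 4) :
    (3 : ℝ) * q / ((3 - 1) * c) + (3 : ℝ) / (3 ^ q * q) < 1 - X := by
  have hqR : (7 : ℝ) ≤ q := by exact_mod_cast hq
  have h1 := term_le (p := (3 : ℝ)) (q := q) (B := 3 / 4 - 3 / (4 * (2 * q + 1))) (by norm_num)
    (show (0 : ℝ) < 2 * q + 1 by positivity) (by
      rw [ge_iff_le, mul_sub, show (2 * (q : ℝ) + 1) * (3 / (4 * (2 * q + 1))) = 3 / 4 by field_simp]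
      linarith) hc (by positivity) (by
      rw [sub_nonneg, div_le_div_iff₀ (by positivity) (by norm_num)]
      nlinarith)
  have h2 : (3 : ℝ) / (3 ^ q * q) < 3 / (4 * (2 * q + 1)) := by
    refine div_lt_div_of_pos_left (by norm_num) (by positivity) ?_
    have : (3 : ℝ) ^ 7 ≤ (3 : ℝ) ^ q := pow_le_pow_right₀ (by norm_num) hq
    norm_num at this
    nlinarith
  linarith

theorem numeric_five_three {c u X : ℝ} (hu : 1 ≤ u) (hu31 : u ≤ 31) (hc : 7 ≤ c)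
    (hc7 : c = 7 → 7 ≤ u ∧ u ≤ 28) (hc8 : c ≠ 7 → 8 ≤ c) (hX : X ≤ 5083 / 10000) :
    (5 : ℝ) * (3 * u / ((5 ^ 3 - 1) * c) + 1 / (5 ^ 3 * u * 3)) < 1 - X := by
  norm_num
  by_cases h : c = 7
  · subst h
    obtain ⟨h1, h2⟩ := hc7 rfl
    have h3 : u⁻¹ ≤ (7 : ℝ)⁻¹ := inv_anti₀ (by norm_num) h1
    have e1 : 5 * (3 * u / (124 * 7)) = 15 * u / 868 := by ring
    rw [mul_add, e1]
    nlinarith
  · have h8 := hc8 h
    have h3 : u⁻¹ ≤ (1 : ℝ)⁻¹ := inv_anti₀ (by norm_num) hu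
    have h4 : 3 * u / (124 * c) ≤ 93 / 992 := by
      rw [div_le_div_iff₀ (by positivity) (by norm_num)]
      nlinarith
    rw [mul_add]
    nlinarith

/-- The numerical contradiction for `c₁ = |C : C'| > 1`. -/
theorem numeric {p q u v c₁ : ℕ} (hp : p.Prime) (hq : q.Prime) (hp2 : p ≠ 2) (hq2 : q ≠ 2) (hne : p ≠ q)
    (hu0 : 0 < u) (hu : u * (p - 1) ≤ p ^ q - 1) (hv : v * (q - 1) ≤ q ^ p - 1) (hv2 : 2 * p + 1 ≤ v)
    (hc : 2 * q + 1 ≤ c₁) (hcp : ¬ p ∣ c₁) (hru : p = 5 → q = 3 → c₁ = 7 → 7 ∣ u) :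
    (p : ℝ) * ((q : ℝ) * u / (((p : ℝ) ^ q - 1) * c₁) + 1 / ((p : ℝ) ^ q * u * q)) <
      1 - ((v : ℝ) / ((q : ℝ) ^ p - 1) + 1 / v) := by
  obtain ⟨X1, X2, X3, X4, X5, X6⟩ := X_bound hp hq hp2 hq2 hne hv hv2
  generalize (v : ℝ) / ((q : ℝ) ^ p - 1) + 1 / (v : ℝ) = X at X1 X2 X3 X4 X5 X6
  have hp3 := succ_prime_bound hp hp2
  have hq3 := succ_prime_bound hq hq2
  have hpR : (3 : ℝ) ≤ p := by exact_mod_cast hp3
  have hqR : (3 : ℝ) ≤ q := by exact_mod_cast hq3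
  have huR : (1 : ℝ) ≤ u := by exact_mod_cast hu0
  have hcR : (2 : ℝ) * q + 1 ≤ c₁ := by exact_mod_cast hc
  have hc0 : (0 : ℝ) < c₁ := by linarith
  have hP : (1 : ℝ) < (p : ℝ) ^ q := one_lt_pow₀ (by linarith) hq.ne_zero
  have hur : (u : ℝ) * ((p : ℝ) - 1) ≤ (p : ℝ) ^ q - 1 := by
    have h : ((u * (p - 1) : ℕ) : ℝ) ≤ ((p ^ q - 1 : ℕ) : ℝ) := by exact_mod_cast hu
    rwa [Nat.cast_mul, sub_one_cast hp.one_le, sub_one_cast (Nat.one_le_pow _ _ hp.pos), Nat.cast_pow] at h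
  by_cases hspec : p = 5 ∧ q = 3
  · obtain ⟨rfl, rfl⟩ := hspec
    have hu31 : u ≤ 31 := by norm_num at hu; omega
    have h7 : c₁ = 7 → 7 ≤ u ∧ u ≤ 28 := fun e => by
      have := hru rfl rfl e
      omega
    push_cast
    refine numeric_five_three huR (by exact_mod_cast hu31) (by exact_mod_cast hc) (fun e => ?_) (fun e => ?_)
      (X3 rfl rfl)
    · obtain ⟨a, b⟩ := h7 (by exact_mod_cast e)
      exact ⟨by exact_mod_cast a, by exact_mod_cast b⟩
    · have : 8 ≤ c₁ := by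
        have : c₁ ≠ 7 := fun h => e (by exact_mod_cast h)
        omega
      exact_mod_cast this
  have ht : (p : ℝ) * ((q : ℝ) * u / (((p : ℝ) ^ q - 1) * c₁)) ≤ (p : ℝ) * q / (((p : ℝ) - 1) * c₁) := by
    rw [← mul_div_assoc, div_le_div_iff₀ (mul_pos (by linarith) hc0) (mul_pos (by linarith) hc0)]
    nlinarith [mul_le_mul_of_nonneg_left hur (show (0 : ℝ) ≤ (p : ℝ) * q * c₁ by positivity)]
  have hd : (p : ℝ) * (1 / ((p : ℝ) ^ q * u * q)) ≤ p / ((p : ℝ) ^ q * q) := by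
    rw [← mul_div_assoc, mul_one]
    refine div_le_div_of_nonneg_left (by linarith) (by positivity) ?_
    nlinarith [show (0 : ℝ) ≤ (p : ℝ) ^ q * q by positivity]
  rw [mul_add]
  refine lt_of_le_of_lt (add_le_add ht hd) ?_
  rcases (show (5 ≤ q ∧ 5 ≤ p) ∨ (p = 3 ∧ q = 5) ∨ (p = 3 ∧ 7 ≤ q) ∨ (q = 3 ∧ p = 7) ∨ (q = 3 ∧ 11 ≤ p) by
    by_cases hp3' : p = 3
    · subst hp3'
      have h5 := odd_prime_five hq hq2 (Ne.symm hne)
      by_cases h : q = 5
      · exact Or.inr (Or.inl ⟨rfl, h⟩)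
      · refine Or.inr (Or.inr (Or.inl ⟨rfl, ?_⟩))
        rcases Nat.lt_or_ge q 7 with h' | h'
        · interval_cases q <;> simp_all (config := { decide := true })
        · exact h'
    · have h5 := odd_prime_five hp hp2 hp3'
      by_cases hq3' : q = 3
      · subst hq3'
        by_cases h : p = 7
        · exact Or.inr (Or.inr (Or.inr (Or.inl ⟨rfl, h⟩)))
        · refine Or.inr (Or.inr (Or.inr (Or.inr ⟨rfl, ?_⟩)))
          rcases Nat.lt_or_ge p 11 with h' | h'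
          · interval_cases p <;> simp_all (config := { decide := true })
          · exact h'
      · exact Or.inl ⟨odd_prime_five hq hq2 hq3', h5⟩) with
    ⟨h5, h5'⟩ | ⟨h, h'⟩ | ⟨h, h'⟩ | ⟨h, h'⟩ | ⟨h, h'⟩
  · exact numeric_five_five h5' h5 hcR (X1 ⟨h5, h5'⟩)
  · subst h; subst h'
    push_cast at hcR ⊢
    exact numeric_three_five (by linarith) (X5 rfl rfl)
  · subst h
    push_cast
    exact numeric_three_seven h' hcR (X6 rfl h')
  · subst h; subst h'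
    have h8 : (8 : ℝ) ≤ c₁ := by
      have : 8 ≤ c₁ := by
        rcases Nat.lt_or_ge c₁ 8 with h | h
        · exact absurd (by omega : c₁ = 7) (fun e => hcp (e ▸ dvd_rfl))
        · exact h
      exact_mod_cast this
    have h1 := term_le (p := (7 : ℝ)) (q := 3) (k := 8) (B := 7 / 16) (by norm_num) (by norm_num) (by norm_num) h8
      (by norm_num) (by norm_num)
    have hX := X4 rfl rfl
    norm_num at h1 hX ⊢
    linarith
  · subst h
    have hp11 : (11 : ℝ) ≤ p := by exact_mod_cast h'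
    push_cast at hcR ⊢
    have h1 := term_le (p := (p : ℝ)) (q := 3) (k := 7) (B := 4715 / 10000) (by linarith) (by norm_num)
      (by rw [ge_iff_le, div_le_iff₀ (by linarith)]; nlinarith) (by linarith : (7 : ℝ) ≤ c₁) (by norm_num)
      (by norm_num)
    have h2 := err_le (p := p) (q := 3) (m := 2) hp3 le_rfl le_rfl
    have h3 : 1 / ((p : ℝ) ^ 2 * 3) ≤ 28 / 10000 := by
      rw [div_le_iff₀ (by positivity)]
      nlinarith
    have hX := X2 rfl h'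
    push_cast at h2
    nlinarith

end Cfsg.Agent.Peterfalvi.Sec13
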