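import Cfsg.Agent.Lib.Peterfalvi.Sec13.Chars
import Cfsg.Agent.Lib.Peterfalvi.Sec13.Numeric
import Cfsg.Agent.Lib.Cores.Basic

/-!
# Peterfalvi section 13: `C = 1` (owner: helper38)

* `Side.card_modEq_one` : a `W₁`-invariant subgroup of `U` has order `1` mod `q`
* `Side.uIdx_bound`, `Side.uIdx_ge`, `Side.c1_ge`, `Side.seven_dvd`
* `Pair.inequality`, `Pair.cU_eq_bot`
-/

set_option autoImplicit false

namespace Cfsg.Agent.Peterfalvi.Sec13

open scoped Pointwise commutatorElement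
open Cfsg Cfsg.Agent OddMax CyclicTI Cfsg.Agent.Char Cfsg.Agent.Coherence

universe u

variable {G : Type u} [Group G] [Fintype G]

theorem two_q_dvd {n q : ℕ} (hq : q.Prime) (hq2 : q ≠ 2) (hn : n ≡ 1 [MOD q]) (ho : Odd n)
    (h1 : n ≠ 1) : 2 * q + 1 ≤ n := by
  have hn1 : 1 ≤ n := ho.pos
  have h2 : 2 ∣ n - 1 := by obtain ⟨k, rfl⟩ := ho; exact ⟨k, by omega⟩
  have hq' : q ∣ n - 1 := (Nat.modEq_iff_dvd' hn1).1 hn.symm
  have hd : 2 * q ∣ n - 1 :=
    ((Nat.coprime_primes Nat.prime_two hq).2 (Ne.symm hq2)).mul_dvd_of_dvd_of_dvd h2 hq'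
  have := Nat.le_of_dvd (by omega) hd
  omega

namespace Side

variable {S W₁ U W₂ : Subgroup G} {p q : ℕ} (h : Side S W₁ U W₂ p q)
include h

theorem card_modEq_one {X : Subgroup G} (hX : X ≤ U)
    (hn : W₁ ≤ Subgroup.normalizer (X : Set G)) : Nat.card X ≡ 1 [MOD q] := by
  haveI := Fact.mk h.hq
  let act : MulAction ↥W₁ ↥X :=
    { smul := fun w x => ⟨(w : G) * x * (w : G)⁻¹, (Subgroup.mem_normalizer_iff.1 (hn w.2) x).1 x.2⟩
      one_smul := fun x => Subtype.ext (by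
        show ((1 : ↥W₁) : G) * x * ((1 : ↥W₁) : G)⁻¹ = _
        simp)
      mul_smul := fun v w x => Subtype.ext (by
        show ((v * w : ↥W₁) : G) * x * ((v * w : ↥W₁) : G)⁻¹ =
          (v : G) * ((w : G) * x * (w : G)⁻¹) * (v : G)⁻¹
        simp [mul_assoc]) }
  have hm := (IsPGroup.of_card (n := 1) (by rw [pow_one, h.card₁]) :
    IsPGroup q ↥W₁).card_modEq_card_fixedPoints ↥X
  refine hm.trans ((?_ : Nat.card (MulAction.fixedPoints ↥W₁ ↥X) = 1) ▸ Nat.ModEq.refl _)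
  rw [Nat.card_eq_one_iff_unique]
  refine ⟨⟨fun a b => Subtype.ext ?_⟩, ⟨⟨1, fun w => Subtype.ext (by
    show (w : G) * (1 : ↥X) * (w : G)⁻¹ = _
    simp)⟩⟩⟩
  have key : ∀ a : MulAction.fixedPoints ↥W₁ ↥X, (a : ↥X) = 1 := fun a => by
    obtain ⟨e, he, he1⟩ := W₁.bot_or_exists_ne_one.resolve_left h.hyp.data.W₁_ne
    have h1 : e * ((a : ↥X) : G) * e⁻¹ = ((a : ↥X) : G) := congrArg Subtype.val (a.2 ⟨e, he⟩)
    exact Subtype.ext (h.hyp.fpf he he1 (hX (a : ↥X).2) (mul_inv_eq_iff_eq_mul.1 h1))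
  rw [key a, key b]

theorem W₁_normalizes_C : W₁ ≤ Subgroup.normalizer (cU S U : Set G) := by
  intro w hw
  refine Coprime.mem_normalizer_of_forall fun c hc =>
    ⟨(Subgroup.mem_normalizer_iff.1 (h.hyp.data.U_normal hw) c).1 hc.1,
      Subgroup.mem_centralizer_iff.2 fun z hz => ?_⟩
  have hz' : w⁻¹ * z * w ∈ fittingHallOf S := by
    have := (Subgroup.mem_normalizer_iff.1
      (OddTypeP.normal_of_map S (inv_mem (h.hyp.le_M.2.2.2.1 hw))) z).1 hz
    simpa using this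
  have := h.comm_P_C hz' hc
  calc z * (w * c * w⁻¹) = w * (w⁻¹ * z * w * c) * w⁻¹ := by group
    _ = w * (c * (w⁻¹ * z * w)) * w⁻¹ := by rw [this]
    _ = _ := by group

theorem uIdx_modEq : uIdx S U ≡ 1 [MOD q] := by
  have h1 := h.card_modEq_one le_rfl h.hyp.data.U_normal
  have h2 := h.card_modEq_one h.C_le.1 h.W₁_normalizes_C
  rw [← h.card_U] at h1
  have := (h2.mul_right (uIdx S U)).symm.trans h1
  rwa [one_mul] at this

theorem uIdx_ne_one : uIdx S U ≠ 1 := fun e => by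
  have hU : cU S U = U := Subgroup.eq_of_le_of_card_ge h.C_le.1 (by
    rw [← h.card_U, e, mul_one])
  refine h.hyp.not_centralizes fun x hx => Subgroup.mem_centralizer_iff.2 fun u hu => ?_
  exact (h.comm_P_C hx (hU.symm ▸ hu)).symm

theorem uIdx_ge : 2 * q + 1 ≤ uIdx S U := by
  refine two_q_dvd h.hq h.q_ne_two h.uIdx_modEq ?_ h.uIdx_ne_one
  exact (OddSigma.odd_card h.hG U).of_dvd_nat ⟨Nat.card (cU S U), by rw [mul_comm]; exact h.card_U.symm⟩

omit h in
theorem c1_dvd : c1 S U ∣ Nat.card (cU S U) := Subgroup.index_dvd_card _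

theorem not_dvd_c1 : ¬ p ∣ c1 S U := fun hd =>
  h.not_dvd_U.1 ((hd.trans c1_dvd).trans (Subgroup.card_dvd_of_le h.C_le.1))

theorem c1_ge (hC : cU S U ≠ ⊥) : 2 * q + 1 ≤ c1 S U := by
  have hodd : Odd (c1 S U) := (OddSigma.odd_card h.hG _).of_dvd_nat c1_dvd
  refine two_q_dvd h.hq h.q_ne_two ?_ hodd ?_
  · have h2 := h.card_modEq_one h.C_le.1 h.W₁_normalizes_C
    have h3 := h.card_modEq_one (X := (_root_.commutator ↥(cU S U)).map (cU S U).subtype)
      ((Subgroup.map_subtype_le _).trans h.C_le.1)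
      (h.W₁_normalizes_C.trans (Cores.normalizer_le_normalizer_map _))
    rw [Subgroup.card_map_of_injective (cU S U).subtype_injective] at h3
    rw [← Subgroup.card_mul_index (_root_.commutator ↥(cU S U))] at h2
    have := (h3.mul_right (c1 S U)).symm.trans h2
    rwa [one_mul] at this
  · intro e
    haveI := h.hyp.data.U_nilpotent
    haveI : Group.IsNilpotent ↥(cU S U) := Cores.isNilpotent_of_le h.C_le.1 inferInstance
    haveI : Group.IsSolvable ↥(cU S U) := inferInstance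
    haveI : Nontrivial ↥(cU S U) := (Subgroup.nontrivial_iff_ne_bot _).2 hC
    exact (Group.IsSolvable.commutator_lt_top_of_nontrivial ↥(cU S U)).ne (Subgroup.index_eq_one.1 e)

theorem uIdx_bound (F9 : Sec9Facts G) : uIdx S U * (p - 1) ≤ p ^ q - 1 := by
  obtain ⟨hK, hfp⟩ := h.chiefKernel F9
  have hpos : 0 < p ^ q - 1 := Nat.sub_pos_of_lt (Nat.one_lt_pow h.hq.ne_zero h.hp.one_lt)
  by_cases hg : IsGaloisPair S U (⊥ : Subgroup G)
  · obtain ⟨K, _, _, f, ψ, σ, -, -, -, -, -, -, -, -, -, hdvd, -⟩ :=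
      F9.galois_field S W₁ U W₂ ⊥ h.hyp hK hg
    rw [hfp, h.stab_eq, h.card₁] at hdvd
    exact Nat.le_of_dvd hpos hdvd
  · obtain ⟨H₁, -, -, -, hm, -, hu⟩ := F9.nonGalois_line S W₁ U W₂ ⊥ h.hyp hK hg
    rw [h.stab_eq, h.card₁] at hu
    rw [hfp] at hm
    have hp1 : 0 < p - 1 := Nat.sub_pos_of_lt h.hp.one_lt
    set m := (U ⊓ quotStab H₁ (⊥ : Subgroup G)).relIndex U
    have hm' : m ≤ p - 1 := Nat.le_of_dvd hp1 hm
    have hm0 : m ≠ 0 := fun e => hp1.ne' (zero_dvd_iff.1 (e ▸ hm))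
    have h1 : uIdx S U ≤ (p - 1) ^ (q - 1) :=
      (Nat.le_of_dvd (Nat.pow_pos (Nat.pos_of_ne_zero hm0)) hu).trans (Nat.pow_le_pow_left hm' _)
    refine (Nat.mul_le_mul_right _ h1).trans ?_
    rw [← pow_succ, Nat.sub_add_cancel h.hq.one_le]
    have := Nat.pow_lt_pow_left (Nat.sub_lt h.hp.pos one_pos) h.hq.ne_zero
    omega

/-- The special case `p = 5`, `q = 3`, `|C : C'| = 7`. -/
theorem seven_dvd (h11 : ¬ IsOfTypeII S → p < q) (hp5 : p = 5) (hq3 : q = 3) (hc : c1 S U = 7) :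
    7 ∣ uIdx S U := by
  by_contra hu
  have hII : IsOfTypeII S := by
    by_contra hn
    have := h11 hn
    omega
  haveI : Fact (Nat.Prime 7) := ⟨by norm_num⟩
  have F := OddOrder14.sec16 h.hG
  set C := cU S U
  haveI := h.hyp.data.U_nilpotent
  haveI : Group.IsNilpotent ↥C := Cores.isNilpotent_of_le h.C_le.1 inferInstance
  obtain ⟨R⟩ : Nonempty (Sylow 7 ↥C) := inferInstance
  haveI hchar : (R : Subgroup ↥C).Characteristic := R.characteristic_of_normal inferInstance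
  set R' := (R : Subgroup ↥C).map C.subtype
  have hR'C : R' ≤ C := Subgroup.map_subtype_le _
  have hR'S : R' ≤ S := hR'C.trans h.C_le.2
  have hnC : S ≤ Subgroup.normalizer (C : Set G) := by
    rw [← compl_eq_sup h.hyp.data.W₁_compl, ← compl_eq_sup h.hyp.data.U_compl]
    refine sup_le (sup_le ?_ ?_) h.W₁_normalizes_C
    · intro x hx
      refine Coprime.mem_normalizer_of_forall fun c hc => ?_
      rwa [h.comm_P_C hx hc, mul_inv_cancel_right]
    · intro x hx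
      refine Coprime.mem_normalizer_of_forall fun c hc => ⟨U.mul_mem (U.mul_mem hx hc.1) (U.inv_mem hx),
        Subgroup.mem_centralizer_iff.2 fun z hz => ?_⟩
      have hz' : x⁻¹ * z * x ∈ fittingHallOf S := by
        have := (Subgroup.mem_normalizer_iff.1
          (OddTypeP.normal_of_map S (inv_mem (h.hyp.le_M.2.2.2.2 hx))) z).1 hz
        simpa using this
      have := h.comm_P_C hz' hc
      calc z * (x * c * x⁻¹) = x * (x⁻¹ * z * x * c) * x⁻¹ := by group
        _ = x * (c * (x⁻¹ * z * x)) * x⁻¹ := by rw [this]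
        _ = _ := by group
  have hn : S ≤ Subgroup.normalizer (R' : Set G) := hnC.trans (Cores.normalizer_le_normalizer_map _)
  have hne : R' ≠ ⊥ := by
    intro e
    have h7 : 7 ∣ Nat.card ↥C := hc ▸ c1_dvd
    have h1 : Nat.card (R : Subgroup ↥C) = 1 := by
      rw [← Subgroup.card_subtype C (R : Subgroup ↥C)]
      show Nat.card R' = 1
      rw [e, Subgroup.card_bot]
    have := R.dvd_card_of_dvd_card h7
    rw [h1] at this
    norm_num at this
  have hpg : IsPGroup 7 R' := R.2.map _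
  have hidx : ¬ 7 ∣ R'.relIndex S := by
    rw [← Subgroup.relIndex_mul_relIndex R' C S hR'C h.C_le.2]
    intro hd
    rcases (Fact.out : Nat.Prime 7).dvd_mul.1 hd with hd | hd
    · exact sylow_relIndex R hd
    · have e1 : Nat.card C * C.relIndex S = Nat.card C * (5 ^ 3 * uIdx S U * 3) := by
        rw [card_mul_relIndex h.C_le.2, h.card_S, ← h.card_U, hp5, hq3]
        ring
      rw [Nat.eq_of_mul_eq_mul_left Nat.card_pos e1] at hd
      rcases (Fact.out : Nat.Prime 7).dvd_mul.1 hd with hd | hd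
      · rcases (Fact.out : Nat.Prime 7).dvd_mul.1 hd with hd | hd
        · norm_num at hd
        · exact hu hd
      · norm_num at hd
  have hN : Subgroup.normalizer (R' : Set G) ≤ S := by
    rcases hn.eq_or_lt with e | e
    · exact e.ge
    · exact absurd (h.hyp.coatom.2 _ e) (OddSigma.normalizer_ne_top h.hG hne
        fun e' => h.hyp.coatom.1 (top_le_iff.1 (e' ▸ hR'S)))
  have h7S : 7 ∈ sigma S :=
    mem_sigma_iff.2 ⟨(hc ▸ c1_dvd (S := S) (U := U)).trans (Subgroup.card_dvd_of_le h.C_le.2),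
      R', hR'S, hpg, hidx, hN⟩
  have hle : R' ≤ sigmaCore S := le_sigmaCore hR'S hn fun r hr hd => by
    obtain ⟨n, hn'⟩ := hpg.exists_card_eq
    rw [hn'] at hd
    rwa [(Nat.prime_dvd_prime_iff_eq hr Fact.out).1 (hr.dvd_of_dvd_pow hd)]
  have hcore : sigmaCore S = fittingHallOf S := by
    rw [← typeCore_eq h.hG F h.hyp.coatom, typeCore, if_neg]
    intro hIII
    obtain ⟨K, V, hKV⟩ := exists_decomp F.toSec15Facts h.hyp.coatom
    exact ((typeII_iff h.hG F h.hyp.coatom hKV).1 hII).2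
      ((typeIII_IV_iff h.hG F h.hyp.coatom hKV).1 hIII).2.1
  rw [hcore] at hle
  exact hne (le_bot_iff.1 (h.P_inf_C.le.trans' (le_inf hle hR'C)))

end Side

namespace Pair

variable {S T W₁ W₂ U V : Subgroup G} {p q : ℕ} (h : Pair S T W₁ W₂ U V p q)
include h

/-- The inequality, for a side with an irreducible member of degree `u q` induced from `Θ`. -/
theorem inequality (F9 : Sec9Facts G) [Fintype ↥S]
    (hex : ∃ ξ ∈ thetaSet S U, indFun (hSub S U) ξ ∈ calC S U ∧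
      IsIrrCharacter ↥S (indFun (hSub S U) ξ)) :
    (1 / (p : ℝ)) * (1 - ((uIdx T V : ℝ) / ((q : ℝ) ^ p - 1) + 1 / (uIdx T V : ℝ))) ≤
      (q : ℝ) * (uIdx S U : ℝ) / (((p : ℝ) ^ q - 1) * (c1 S U : ℝ)) +
        ((Nat.card (cU S U) : ℝ) - 1) /
          ((p : ℝ) ^ q * (Nat.card (cU S U) : ℝ) * (uIdx S U : ℝ) * q) := by
  classical
  haveI := Fintype.ofFinite ↥T
  obtain ⟨μ, δ, η, R, hC⟩ := exists_typePChars h.left.hG h.left.hyp.coatom h.left.hyp.data
  obtain ⟨μ', δ', η', R', hC'⟩ := exists_typePChars h.right.hG h.right.hyp.coatom h.right.hyp.data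
  obtain ⟨ξ, hξ, hm, hi⟩ := hex
  obtain ⟨f, hf⟩ := h.left.exists_lambda hC F9 hξ hm hi
  have hflip : flipFam η = η' :=
    flipFam_eq h.hW (OddSigma.odd_card h.left.hG _) hC.eta hC'.eta
  exact main_inequality h hC.eta (h.left.sideEta hC F9) (hflip ▸ h.right.sideEta hC' F9) hf

theorem exists_irr_of_ne (F9 : Sec9Facts G) [Fintype ↥S] (hC : cU S U ≠ ⊥) :
    ∃ ξ ∈ thetaSet S U, indFun (hSub S U) ξ ∈ calC S U ∧
      IsIrrCharacter ↥S (indFun (hSub S U) ξ) := by
  obtain ⟨hK, -⟩ := h.left.chiefKernel F9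
  rcases F9.reducible_core_cases S W₁ U W₂ ⊥ h.left.hyp hK with ⟨χ, hχ, hi, -, hind⟩ | ⟨-, hb, -⟩
  · rw [h.left.ker_eq] at hχ
    obtain ⟨ξ, hξ, hξ1, he⟩ : ∃ ξ : ↥(hSub S U) → ℂ, IsIrrCharacter _ ξ ∧ ξ 1 = 1 ∧
        χ = indFun _ ξ := by
      unfold IsIndHC at hind
      rwa [h.left.hSub_eq] at hind
    subst he
    exact ⟨ξ, h.left.mem_theta hχ hξ hξ1 rfl, hχ, hi⟩
  · exact absurd (h.left.stab_eq ▸ hb) hC

/-- `C = 1`. -/
theorem cU_eq_bot (F9 : Sec9Facts G) (h11 : ¬ IsOfTypeII S → p < q) : cU S U = ⊥ := by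
  by_contra hC
  haveI := Fintype.ofFinite ↥S
  have hineq := h.inequality F9 (h.exists_irr_of_ne F9 hC)
  have hnum := numeric h.left.hp h.left.hq h.left.p_ne_two h.left.q_ne_two h.left.ne
    h.left.uIdx_pos (h.left.uIdx_bound F9) (h.right.uIdx_bound F9) h.right.uIdx_ge
    (h.left.c1_ge hC) h.left.not_dvd_c1 (h.left.seven_dvd h11)
  have hpR : (0 : ℝ) < p := Nat.cast_pos.2 h.left.hp.pos
  have hqR : (0 : ℝ) < q := Nat.cast_pos.2 h.left.hq.pos
  have hu : (0 : ℝ) < uIdx S U := Nat.cast_pos.2 h.left.uIdx_pos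
  have hcR : (0 : ℝ) < Nat.card (cU S U) := Nat.cast_pos.2 Nat.card_pos
  have herr : ((Nat.card (cU S U) : ℝ) - 1) /
      ((p : ℝ) ^ q * (Nat.card (cU S U) : ℝ) * (uIdx S U : ℝ) * q) ≤
      1 / ((p : ℝ) ^ q * (uIdx S U : ℝ) * q) := by
    rw [show 1 / ((p : ℝ) ^ q * (uIdx S U : ℝ) * q) = (Nat.card (cU S U) : ℝ) /
      ((p : ℝ) ^ q * (Nat.card (cU S U) : ℝ) * (uIdx S U : ℝ) * q) by field_simp]
    exact div_le_div_of_nonneg_right (by linarith) (by positivity)
  have := mul_le_mul_of_nonneg_left (hineq.trans (add_le_add le_rfl herr)) hpR.le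
  rw [← mul_assoc, mul_one_div, div_self hpR.ne', one_mul] at this
  linarith

end Pair

end Cfsg.Agent.Peterfalvi.Sec13
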