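import Cfsg.Agent.Lib.Peterfalvi.Sec13.Main
import Cfsg.Agent.Lib.Peterfalvi.TypeIFrobenius

/-!
# Peterfalvi section 13: coherence on one side gives the inputs of the inequality (owner: helper38)

* `Side.chiefKernel`, `Side.stab_eq`, `Side.dade_eq` : `H₀ = ⊥`, `C`, the Dade map is induction
* `Side.sideEta`, `Side.exists_lambda` : `SideEta` and `SideLambda` from section 9
-/

set_option autoImplicit false

namespace Cfsg.Agent.Peterfalvi.Sec13

open scoped Pointwise commutatorElement ComplexConjugate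
open Cfsg Cfsg.Agent OddMax CyclicTI Cfsg.Agent.Char Cfsg.Agent.Coherence

universe u

variable {G : Type u} [Group G] [Fintype G]

theorem family_unique {W₁ W₂ : Subgroup G} (hW : IsSelfNormalizingCyclic W₁ W₂)
    (hodd : Odd (Nat.card ↥(W₁ ⊔ W₂))) {η η' : (↥(W₁ ⊔ W₂) →* ℂˣ) → G → ℂ}
    (hη : IsCyclicTIFamily W₁ W₂ η) (hη' : IsCyclicTIFamily W₁ W₂ η') : η' = η :=
  funext fun ω => eq_of_eq_on hW hodd hη (hη'.irr_or_neg ω) ω fun w h1 h2 => hη'.eq_on ω w h1 h2

theorem selfNormalizing_symm {W₁ W₂ : Subgroup G} (hW : IsSelfNormalizingCyclic W₁ W₂) :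
    IsSelfNormalizingCyclic W₂ W₁ := by
  obtain ⟨h1, h2, h3, h4, h5, h6⟩ := hW
  refine ⟨h2, h1, by rw [inf_comm]; exact h3, fun a ha b hb => (h4 b hb a ha).symm,
    by rw [sup_comm]; exact h5, fun X hX hne => ?_⟩
  rw [sup_comm]
  refine h6 X (fun x hx => ?_) hne
  obtain ⟨a, b⟩ := hX hx
  refine ⟨by rw [sup_comm]; exact a, fun e => b ?_⟩
  exact e.elim Or.inr Or.inl

theorem flipFam_eq {W₁ W₂ : Subgroup G} (hW : IsSelfNormalizingCyclic W₁ W₂)
    (hodd : Odd (Nat.card ↥(W₂ ⊔ W₁))) {η : (↥(W₁ ⊔ W₂) →* ℂˣ) → G → ℂ}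
    (hη : IsCyclicTIFamily W₁ W₂ η) {η' : (↥(W₂ ⊔ W₁) →* ℂˣ) → G → ℂ}
    (hη' : IsCyclicTIFamily W₂ W₁ η') : flipFam η = η' :=
  funext fun ω => eq_of_eq_on (selfNormalizing_symm hW) hodd hη' (hη.irr_or_neg _) ω
    fun w h1 h2 => by
      exact hη.eq_on (ω.comp (flipHom W₁ W₂)) ⟨w, by rw [sup_comm]; exact w.2⟩ h2 h1

namespace Side

variable {S W₁ U W₂ : Subgroup G} {p q : ℕ} (h : Side S W₁ U W₂ p q)
include h

theorem chiefKernel (F9 : Sec9Facts G) :
    IsChiefKernel S U ⊥ ∧ factorPrime W₂ (⊥ : Subgroup G) = p := by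
  obtain ⟨H₀, hK⟩ := F9.exists_kernel S W₁ U W₂ h.hyp
  obtain ⟨hp', hrel, -⟩ := F9.factor S W₁ U W₂ H₀ h.hyp hK
  have hcard := card_mul_relIndex hK.le
  rw [hrel, h.card₁, h.card_P] at hcard
  have hpp : factorPrime W₂ H₀ = p :=
    (Nat.prime_dvd_prime_iff_eq hp' h.hp).1 (hp'.dvd_of_dvd_pow
      (hcard ▸ Dvd.dvd.mul_left (dvd_pow_self _ h.hq.ne_zero) _))
  rw [hpp] at hcard
  have h1 : Nat.card H₀ = 1 :=
    Nat.eq_of_mul_eq_mul_right (Nat.pow_pos h.hp.pos) (hcard.trans (one_mul _).symm)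
  have h0 : H₀ = ⊥ := Subgroup.eq_bot_of_card_eq _ h1
  subst h0
  exact ⟨hK, hpp⟩

theorem stab_eq : stabC S U (⊥ : Subgroup G) = cU S U := by
  ext g
  refine ⟨fun ⟨hg, _, _, hc⟩ => ⟨hg, Subgroup.mem_centralizer_iff.2 fun z hz => ?_⟩,
    fun ⟨hg, hc⟩ => ⟨hg, OddTypeP.normal_of_map S (h.hyp.le_M.2.2.2.2 hg), ?_, fun z hz => ?_⟩⟩
  · have := Subgroup.mem_bot.1 (hc z hz)
    rw [inv_mul_eq_one, eq_mul_inv_iff_mul_eq] at this
    exact this
  · exact (Subgroup.mem_normalizer_iff).2 fun z => by simp [Subgroup.mem_bot]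
  · rw [Subgroup.mem_bot, inv_mul_eq_one, eq_mul_inv_iff_mul_eq]
    exact Subgroup.mem_centralizer_iff.1 hc z hz

theorem ker_eq : (⊥ : Subgroup G) ⊔ ⁅stabC S U ⊥, stabC S U ⊥⁆ = ⁅cU S U, cU S U⁆ := by
  rw [h.stab_eq, bot_sup_eq]

theorem hSub_eq : (fittingHallOf S ⊔ stabC S U (⊥ : Subgroup G)).subgroupOf S = hSub S U := by
  rw [h.stab_eq]; rfl

theorem hSub_subset_coreA {a : G} (ha : a ∈ hS S U) (ha1 : a ≠ 1) : a ∈ coreA S := by
  have hD := primeDade_of_typeP h.hG h.hyp.coatom h.hyp.data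
  obtain ⟨y, hy, hy1⟩ := (fittingHallOf S).bot_or_exists_ne_one.resolve_left h.P_ne
  exact hD.A_cent a (h.H_le_derived ha) ha1 y
    (OddMax.fittingHallOf_le_sigmaCore h.hG h.hyp.coatom hy) hy1 (h.H_cent_P ha hy)

theorem dade_eq [Fintype ↥S] {α : ↥S → ℂ} (hα : IsClassFunction ↥S α)
    (hs : ∀ s : ↥S, s ∉ hSub S U → α s = 0) (h1 : α 1 = 0) :
    dadeIsometry (coreA0 S) S (supportR S) α = indFun S α := by
  classical
  have F := OddOrder14.sec16 h.hG
  have hD := dade_hypothesis h.hG F h.hyp.coatom (A := coreA0 S) (Or.inr (Or.inr rfl))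
  set A' : Set G := (hS S U : Set G) \ {1}
  have hout : ∀ s : ↥S, (s : G) ∉ A' → α s = 0 := fun s hs' => by
    by_cases hm : s ∈ hSub S U
    · have : (s : G) = 1 := by
        by_contra e
        exact hs' ⟨hm, e⟩
      rw [show s = 1 from Subtype.ext this, h1]
    · exact hs s hm
  have hR : ∀ a ∈ A', supportR S a = ⊥ := fun a ha =>
    OddMax.supportR_eq_bot (h.cent_le ha.1 ha.2)
  have hsub : ∀ a ∈ A', a ∈ coreA0 S := fun a ha => Or.inl (h.hSub_subset_coreA ha.1 ha.2)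
  have hne : A'.Nonempty := by
    obtain ⟨y, hy, hy1⟩ := (fittingHallOf S).bot_or_exists_ne_one.resolve_left h.P_ne
    exact ⟨y, Subgroup.mem_sup_left hy, hy1⟩
  obtain ⟨hTI, hN⟩ := (S1497.result A' hne h.piece.one_not_mem S).2 h.piece.dade
  rw [← dade_eq_indFun h.piece.dade hTI hN subset_rfl (fun _ _ => rfl) hα hout]
  funext g
  by_cases hg : g ∈ Dade.support A' (fun _ => (⊥ : Subgroup G))
  · obtain ⟨a, ha, u, hu, x, hx⟩ := hg
    rw [Dade.dadeIsometry_apply h.piece.dade hα ⟨a, h.piece.subset ha⟩ ha hu hx]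
    rw [Subgroup.mem_bot] at hu
    subst hu
    exact Dade.dadeIsometry_apply hD hα ⟨a, h.piece.subset ha⟩ (hsub a ha) (Subgroup.one_mem _) hx
  · rw [Dade.dadeIsometry_eq_zero h.piece.dade hg]
    by_cases hg' : g ∈ Dade.support (coreA0 S) (supportR S)
    · obtain ⟨a, ha, u, hu, x, hx⟩ := hg'
      rw [Dade.dadeIsometry_apply hD hα ⟨a, hD.subset ha⟩ ha hu hx]
      refine hout _ fun ha' => hg ?_
      rw [hR a ha', Subgroup.mem_bot] at hu
      exact mem_support_bot.2 ⟨x, by rw [hx, hu, mul_one]; exact ha'⟩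
    · exact Dade.dadeIsometry_eq_zero hD hg'

theorem calC_subset [Fintype ↥S] : calC S U ⊆ seqIndD S (sigmaCore S) ⊥ :=
  seqIndD_mono (OddMax.fittingHallOf_le_sigmaCore h.hG h.hyp.coatom) bot_le

/-- A member of `S(Y)` induced from a linear character of `H` is induced from `Θ`. -/
theorem mem_theta [Fintype ↥S] {Y : Subgroup G} {χ : ↥S → ℂ} (hχ : χ ∈ calS S Y)
    {ξ : ↥(hSub S U) → ℂ} (hξ : IsIrrCharacter _ ξ) (hξ1 : ξ 1 = 1) (he : χ = indFun (hSub S U) ξ) :
    ξ ∈ thetaSet S U := by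
  classical
  obtain ⟨l₀, hl₀⟩ := exists_hom_of_degree_one (IsIrrCharacter.isCharacter hξ) hξ1
  refine mem_thetaSet.2 ⟨l₀.toHomUnits, ⟨fun a ha => ?_, ?_⟩, by
    funext y; rw [← hl₀]; rfl⟩
  · have hab : a ∈ _root_.commutator ↥(hSub S U) := by
      have hle : ⁅cU S U, cU S U⁆ ≤
          ((_root_.commutator ↥(hSub S U)).map (hSub S U).subtype).map S.subtype := by
        rw [Subgroup.map_subtype_commutator, Subgroup.map_commutator,
          Subgroup.map_subgroupOf_eq_of_le h.H_le]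
        exact Subgroup.commutator_mono le_sup_right le_sup_right
      obtain ⟨y, ⟨z, hz, rfl⟩, hy⟩ := hle ha
      rwa [show a = z from Subtype.ext (Subtype.ext hy.symm)]
    exact Abelianization.commutator_subset_ker l₀.toHomUnits hab
  · by_contra hno
    push Not at hno
    -- then `S_F` is in the kernel of the column
    haveI : ((fittingHallOf S).subgroupOf S).Normal :=
      ⟨fun n hn g => (Subgroup.mem_normalizer_iff.1 (OddTypeP.normal_of_map S g.2) _).1 hn⟩
    haveI := h.hSub_normal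
    obtain ⟨θ, ⟨hθ, -, a, ha, hane⟩, hθe⟩ := hχ
    refine hane ((S1487.result ((fittingHallOf S).subgroupOf S) (derivedIn S)
      (fun x hx => h.hyp.le_M.1 hx) θ hθ).2 (fun b hb => ?_) a ha)
    rw [hθe, he]
    refine (S1487.result ((fittingHallOf S).subgroupOf S) (hSub S U)
      (fun x hx => Subgroup.mem_sup_left hx) ξ hξ).1 (fun c hc => ?_) b hb
    rw [← hl₀]
    show l₀ c = l₀ 1
    rw [map_one, ← MonoidHom.coe_toHomUnits l₀ c, hno c hc, Units.val_one]

section chars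

variable [Fintype ↥S] {μ : (↥(W₁ ⊔ W₂) →* ℂˣ) → ↥S → ℂ} {δ : (↥(W₁ ⊔ W₂) →* ℂˣ) → ℂ}
  {η : (↥(W₁ ⊔ W₂) →* ℂˣ) → G → ℂ} {R : (↥S → ℂ) → Finset (G → ℂ)}
  (hC : TypePChars S W₁ W₂ μ δ η R) (F9 : Sec9Facts G)
include hC F9

/-- The nonprincipal column sums are in `S(C')`, of degree `u q`, induced from `Θ`. -/
theorem colSum_facts {ω : ↥(W₁ ⊔ W₂) →* ℂˣ} (hω : ¬ SameCol ω 1) :
    colSum μ ω ∈ calC S U ∧ colSum μ ω 1 = ((q * uIdx S U : ℕ) : ℂ) ∧
      ∃ ξ ∈ thetaSet S U, colSum μ ω = indFun (hSub S U) ξ := by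
  classical
  obtain ⟨hK, hfp⟩ := h.chiefKernel F9
  have hD := hC.dade
  haveI := hD.normal
  -- `W₂` already shows that the column is nontrivial on `S_F`
  have hP0 : colSum μ ω ∈ calS S (⊥ : Subgroup G) := by
    refine ⟨_, ⟨(hC.mu.resK_facts ω).1, fun a ha => ?_, ?_⟩, (hC.mu.resK_facts ω).2⟩
    · rw [show a = 1 from Subtype.ext (Subtype.ext (Subgroup.mem_bot.1 ha))]
    · by_contra hall
      push Not at hall
      have hker : HasInKer S ⁅S, S⁆ W₂ (resK S ⁅S, S⁆ (μ ω)) := fun k hk =>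
        hall k (h.hyp.data.W₂_le hk).1
      refine hω fun u hu => ?_
      obtain ⟨a, -, -, ha2⟩ := hD.exists_off
      have hu' : μ ω (hD.emb u) = μ ω 1 := hker ⟨hD.emb u, hD.W₂_le hu⟩ hu
      have h1 : μ ω (hD.emb u * hD.emb a) = μ ω (hD.emb a) :=
        TwoClassChar.ker_mul (hC.mu.irr ω) hu' _
      have hn : ((u * a : ↥(W₁ ⊔ W₂)) : G) ∉ W₂ := fun e => ha2 (by
        simpa using W₂.mul_mem (W₂.inv_mem hu) e)
      rw [← map_mul, hC.mu.apply_W ω _ hn, hC.mu.apply_W ω a ha2, map_mul, Units.val_mul] at h1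
      have h2 : (ω u : ℂ) * (ω a : ℂ) = ω a := mul_left_cancel₀ (hC.mu.sign_ne ω) h1
      refine Units.ext ?_
      rw [MonoidHom.one_apply, Units.val_one]
      exact mul_left_eq_self₀.1 h2 |>.resolve_right (Units.ne_zero _)
  obtain ⟨-, hred⟩ := F9.reducible_core_ind S W₁ U W₂ ⊥ h.hyp hK
  obtain ⟨hm, hd, hind⟩ := hred _ hP0 (hD.colSum_not_irr hC.mu ω)
  rw [h.card₁, h.stab_eq] at hd
  refine ⟨seqIndD_mono le_rfl ?_ hm, hd, ?_⟩
  · rw [bot_sup_eq, h.stab_eq]
    exact Subgroup.commutator_le_self _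
  obtain ⟨ξ, hξ, hξ1, he⟩ : ∃ ξ : ↥(hSub S U) → ℂ, IsIrrCharacter _ ξ ∧ ξ 1 = 1 ∧
      colSum μ ω = indFun _ ξ := by
    unfold IsIndHC at hind
    rwa [h.hSub_eq] at hind
  exact ⟨ξ, h.mem_theta hP0 hξ hξ1 he, he⟩

theorem coherent_tau : ∃ τ₁ : (↥S → ℂ) → (G → ℂ), IsLinearIsometryOn (zspan (calC S U)) τ₁ ∧
    ∀ α ∈ zspanOn (calC S U) {1}ᶜ, τ₁ α = dadeIsometry (coreA0 S) S (supportR S) α := by
  obtain ⟨hK, -⟩ := h.chiefKernel F9
  obtain ⟨-, τ₁, h1, h2⟩ := F9.coherence S W₁ U W₂ ⊥ h.hyp hK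
  rw [h.ker_eq] at h1 h2
  exact ⟨τ₁, h1, h2⟩


omit F9 in
theorem isGC_calC {α : ↥S → ℂ} (hα : α ∈ zspan (calC S U)) : IsClassFunction ↥S α :=
  isGC_isClassFunction (isGC_of_mem_zspan (fun ψ hψ => isGC_of_isCharacter (by
    have := h.calC_subset hψ
    rw [← pdCalS_eq_seqIndD] at this
    exact hC.dade.calS_isCharacter this)) hα)

/-- With an irreducible member of degree `u q`: `SideLambda`, and the images of the others. -/
theorem lambda_facts {χ : ↥S → ℂ} (hχ : χ ∈ calC S U) (hi : IsIrrCharacter ↥S χ) :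
    ∃ τ₁ : (↥S → ℂ) → (G → ℂ), IsLinearIsometryOn (zspan (calC S U)) τ₁ ∧
      (∀ α ∈ zspanOn (calC S U) {1}ᶜ, (∀ s : ↥S, s ∉ hSub S U → α s = 0) →
        τ₁ α = indFun S α) ∧
      (∀ φ ∈ calC S U, IsIrrCharacter ↥S φ → ∀ π, classInner (τ₁ φ) (η π) = 0) ∧
      ∀ ω, ¬ SameCol ω 1 → τ₁ (colSum μ ω) = δ ω • ∑ π ∈ colClass ω, η π ∨
        τ₁ (colSum μ ω) = -(δ ω • ∑ π ∈ colClass ω⁻¹, η π) := by
  obtain ⟨τ₁, h1, h2⟩ := h.coherent_tau hC F9
  have hconj : ∀ φ ∈ calC S U, conjFun φ ∈ calC S U := fun φ hφ => seqIndD_conj_mem hφ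
  refine ⟨τ₁, h1, fun α hα hs => ?_, fun φ hφ hφi π =>
    hC.coherent_irr_orth h.calC_subset h1 h2 hφ (hconj φ hφ) hφi π, fun ω hω => ?_⟩
  · obtain ⟨ha, h0⟩ := mem_zspanOn_one.1 hα
    rw [h2 α hα, h.dade_eq (h.isGC_calC hC ha) hs h0]
  · obtain ⟨hm, -⟩ := h.colSum_facts hC F9 hω
    refine hC.coherent_colSum h.calC_subset h1 h2 hω hm (hconj _ hm) hχ (hconj χ hχ)
      (fun e => hC.dade.colSum_not_irr hC.mu ω (e ▸ hi)) fun e => ?_
    rw [← hC.mu.colSum_inv] at e
    exact hC.dade.colSum_not_irr hC.mu ω⁻¹ (e ▸ hi)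

omit F9 in
theorem eta_colSum_zero {φ ω : ↥(W₁ ⊔ W₂) →* ℂˣ}
    (hne : ¬ SameCol φ ω) : classInner (η φ) (∑ π ∈ colClass ω, η π) = 0 := by
  rw [classInner_sum_right]
  refine Finset.sum_eq_zero fun π hπ => ?_
  rw [hC.eta.orthonormal, if_neg]
  rintro rfl
  exact hne (mem_colClass.1 hπ)

omit F9 in
theorem eta_colSum_one {φ ω : ↥(W₁ ⊔ W₂) →* ℂˣ}
    (he : SameCol φ ω) : classInner (η φ) (∑ π ∈ colClass ω, η π) = 1 := by
  classical
  rw [classInner_sum_right, Finset.sum_eq_single φ]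
  · rw [hC.eta.orthonormal, if_pos rfl]
  · intro π _ hπ
    rw [hC.eta.orthonormal, if_neg (Ne.symm hπ)]
  · exact fun hn => absurd (mem_colClass.2 he) hn

theorem calC_cases {φ : ↥S → ℂ} (hφ : φ ∈ calC S U) :
    (∃ ω, ¬ SameCol ω 1 ∧ φ = colSum μ ω) ∨ IsIrrCharacter ↥S φ :=
  (hC.cases (h.calC_subset hφ)).imp id And.left

/-- The column at which a nonprincipal column index is read. -/
theorem col_row {ψ : ↥(W₁ ⊔ W₂) →* ℂˣ} (hψ : ¬ SameCol ψ 1) :
    ∃ ω, ¬ SameCol ω 1 ∧ ∃ ε : ℂ, (ε = 1 ∨ ε = -1) ∧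
      ∀ α ∈ zspanOn (calC S U) {1}ᶜ, (∀ s : ↥S, s ∉ hSub S U → α s = 0) →
        classInner (η ψ) (indFun S α) = ε / q * classInner (colSum μ ω) α := by
  classical
  have hq0 : (q : ℂ) ≠ 0 := Nat.cast_ne_zero.2 h.hq.ne_zero
  have hnorm : ∀ ω, classInner (colSum μ ω) (colSum μ ω) = (q : ℂ) := fun ω => by
    rw [hC.mu.inner_colSum, if_pos (sameCol_refl ω), h.card₁]
  have hδ : ∀ ω, conj (δ ω) = δ ω := hC.mu.sign_conj
  by_cases hex : ∃ χ ∈ calC S U, IsIrrCharacter ↥S χ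
  · obtain ⟨χ, hχ, hi⟩ := hex
    obtain ⟨τ₁, h1, h2, h3, h4⟩ := h.lambda_facts hC F9 hχ hi
    -- the column carried to the one of `ψ`
    obtain ⟨ω, hω, ε, hε, hω'⟩ : ∃ ω, ¬ SameCol ω 1 ∧ ∃ ε : ℂ, (ε = 1 ∨ ε = -1) ∧
        classInner (η ψ) (τ₁ (colSum μ ω)) = ε := by
      rcases h4 ψ hψ with e | e
      · refine ⟨ψ, hψ, δ ψ, hC.mu.sign ψ, ?_⟩
        rw [e, classInner_smul_right, hδ, h.eta_colSum_one hC (sameCol_refl ψ), mul_one]
      · have hψ' : ¬ SameCol ψ⁻¹ 1 := hC.dade.not_sameCol_one_inv hψ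
        rcases h4 ψ⁻¹ hψ' with e' | e'
        · exfalso
          have hm := (h.colSum_facts hC F9 hψ).1
          have hm' := (h.colSum_facts hC F9 hψ').1
          have h0 := h1.2.2.1 _ (subset_zspan hm) _ (subset_zspan hm')
          rw [e, e', hC.mu.inner_colSum, if_neg fun e'' => hC.dade.not_sameCol_inv hψ e'',
            classInner_neg_left, classInner_smul_left, classInner_smul_right, hδ,
            classInner_sum_left, Finset.sum_congr rfl (g := fun _ => (1 : ℂ))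
              (fun π hπ => h.eta_colSum_one hC (mem_colClass.1 hπ))] at h0
          rw [Finset.sum_const, MuFamily.card_colClass (h := hC.dade.toPrimeTI), h.card₁,
            nsmul_eq_mul, mul_one, neg_eq_zero] at h0
          rcases hC.mu.sign ψ with a | a <;> rcases hC.mu.sign ψ⁻¹ with b | b <;>
            rw [a, b] at h0 <;> simp [h.hq.ne_zero] at h0
        · refine ⟨ψ⁻¹, hψ', -δ ψ⁻¹, ?_, ?_⟩
          · rcases hC.mu.sign ψ⁻¹ with a | a <;> simp [a]
          · rw [e', classInner_neg_right, classInner_smul_right, hδ,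
              h.eta_colSum_one hC (show SameCol ψ ψ⁻¹⁻¹ from fun w _ => by simp), mul_one]
    have hm := (h.colSum_facts hC F9 hω).1
    have hpair : ∀ φ ∈ calC S U,
        classInner (η ψ) (τ₁ φ) = ε / q * classInner (colSum μ ω) φ := by
      intro φ hφ
      rcases h.calC_cases hC F9 hφ with ⟨ν, hν, rfl⟩ | hφi
      · by_cases he : SameCol ν ω
        · rw [show colSum μ ν = colSum μ ω by rw [colSum, colSum, colClass_eq he], hω', hnorm,
            div_mul_cancel₀ _ hq0]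
        · rw [hC.mu.inner_colSum, if_neg fun e => he e.symm, mul_zero]
          have hm' := (h.colSum_facts hC F9 hν).1
          by_contra hne
          -- the images of `ν` and `ω` would share the column of `ψ`
          have key : ∀ π, ¬ SameCol π 1 → classInner (η ψ) (τ₁ (colSum μ π)) ≠ 0 →
              ∃ s : ℂ, s ≠ 0 ∧ τ₁ (colSum μ π) = s • ∑ a ∈ colClass ψ, η a := by
            intro π hπ hne'
            rcases h4 π hπ with e | e
            · refine ⟨δ π, hC.mu.sign_ne π, ?_⟩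
              have : SameCol ψ π := by
                by_contra hn
                exact hne' (by rw [e, classInner_smul_right, h.eta_colSum_zero hC hn, mul_zero])
              rw [e, colClass_eq this]
            · refine ⟨-δ π, neg_ne_zero.2 (hC.mu.sign_ne π), ?_⟩
              have : SameCol ψ π⁻¹ := by
                by_contra hn
                exact hne' (by rw [e, classInner_neg_right, classInner_smul_right,
                  h.eta_colSum_zero hC hn, mul_zero, neg_zero])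
              rw [e, colClass_eq this, neg_smul]
          obtain ⟨s, hs, es⟩ := key ν hν hne
          obtain ⟨t, ht, et⟩ := key ω hω (by
            rw [hω']; rcases hε with a | a <;> simp [a])
          have h0 := h1.2.2.1 _ (subset_zspan hm') _ (subset_zspan hm)
          rw [es, et, hC.mu.inner_colSum, if_neg he, classInner_smul_left, classInner_smul_right,
            classInner_sum_left, Finset.sum_congr rfl (g := fun _ => (1 : ℂ))
              (fun π hπ => h.eta_colSum_one hC (mem_colClass.1 hπ)), Finset.sum_const,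
            MuFamily.card_colClass (h := hC.dade.toPrimeTI), h.card₁, nsmul_eq_mul, mul_one,
            mul_eq_zero, mul_eq_zero, map_eq_zero] at h0
          rcases h0 with a | a | a
          exacts [hs a, ht a, hq0 a]
      · rw [← classInner_conj_symm, h3 φ hφ hφi, map_zero]
        rcases hC.cases (h.calC_subset hφ) with ⟨ν, -, rfl⟩ | ⟨-, ho⟩
        · exact absurd hφi (hC.dade.colSum_not_irr hC.mu ν)
        · rw [← classInner_conj_symm, colSum, classInner_sum_right,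
            Finset.sum_eq_zero fun π _ => ho π, map_zero, mul_zero]
    refine ⟨ω, hω, ε, hε, fun α hα hs => ?_⟩
    rw [← h2 α hα hs]
    have hz := (mem_zspanOn_one.1 hα).1
    refine (zspan_induction (P := fun a => a ∈ zspan (calC S U) ∧
      classInner (η ψ) (τ₁ a) = ε / q * classInner (colSum μ ω) a) (fun φ hφ => ⟨subset_zspan hφ, hpair φ hφ⟩)
      ⟨zspan_zero, ?_⟩ (fun a _ b _ ha hb => ⟨zspan_add ha.1 hb.1, ?_⟩)
      (fun n a _ ha => ⟨zspan_zsmul n ha.1, ?_⟩) hz).2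
    · rw [lin_zero h1 zspan_zero, classInner_zero_right, classInner_zero_right, mul_zero]
    · rw [h1.1 a ha.1 b hb.1, classInner_add_right, classInner_add_right, ha.2, hb.2, mul_add]
    · rw [h1.2.1 a ha.1 n, classInner_zsmul_right, classInner_zsmul_right, ha.2, mul_left_comm]
  · -- every member is a column sum of the same degree
    push Not at hex
    refine ⟨ψ, hψ, δ ψ, hC.mu.sign ψ, fun α hα hs => ?_⟩
    obtain ⟨hz, h0⟩ := mem_zspanOn_one.1 hα
    rw [← h.dade_eq (h.isGC_calC hC hz) hs h0]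
    set τ := dadeIsometry (coreA0 S) S (supportR S)
    suffices key : ∀ a ∈ zspan (calC S U), classInner (η ψ) (τ (a - (a 1 / colSum μ ψ 1) • colSum μ ψ)) =
        δ ψ / q * classInner (colSum μ ψ) (a - (a 1 / colSum μ ψ 1) • colSum μ ψ) by
      have := key α hz
      rw [h0, zero_div, zero_smul, sub_zero] at this
      exact this
    intro a ha
    refine zspan_induction (P := fun a => classInner (η ψ) (τ (a - (a 1 / colSum μ ψ 1) • colSum μ ψ)) =
        δ ψ / q * classInner (colSum μ ψ) (a - (a 1 / colSum μ ψ 1) • colSum μ ψ))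
      (fun φ hφ => ?_) ?_ (fun a _ b _ ha hb => ?_) (fun n a _ ha => ?_) ha
    · rcases h.calC_cases hC F9 hφ with ⟨ν, hν, rfl⟩ | hφi
      swap
      · exact absurd hφi (hex φ hφ)
      obtain ⟨-, hd1, -⟩ := h.colSum_facts hC F9 hν
      obtain ⟨-, hd2, -⟩ := h.colSum_facts hC F9 hψ
      have hpos : ((q * uIdx S U : ℕ) : ℂ) ≠ 0 :=
        Nat.cast_ne_zero.2 (Nat.mul_ne_zero h.hq.ne_zero h.uIdx_pos.ne')
      have hdeg : μ ν 1 = μ ψ 1 := by
        have a1 := hC.mu.colSum_apply_K ν (x := 1) (one_mem _)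
        have a2 := hC.mu.colSum_apply_K ψ (x := 1) (one_mem _)
        rw [hd1] at a1
        rw [hd2, a1] at a2
        exact mul_left_cancel₀ (Nat.cast_ne_zero.2 Nat.card_pos.ne') a2
      rw [hd1, hd2, div_self hpos, one_smul]
      simp only [τ]
      rw [hC.tau_colSum_sub hν hψ hdeg, hC.mu.sign_eq_of_degree hdeg, classInner_smul_right, hδ,
        classInner_sub_right, h.eta_colSum_one hC (sameCol_refl ψ), classInner_sub_right, hnorm]
      by_cases he : SameCol ψ ν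
      · rw [h.eta_colSum_one hC he, hC.mu.inner_colSum, if_pos he, h.card₁]; ring
      · rw [h.eta_colSum_zero hC he, hC.mu.inner_colSum, if_neg he]
        field_simp
        ring
    · simp only [Pi.zero_apply, zero_div, zero_smul, sub_zero, τ]
      rw [← sub_self (0 : ↥S → ℂ), dadeIsometry_sub, sub_self, sub_self, classInner_zero_right,
        classInner_zero_right, mul_zero]
    · have e : a + b - ((a + b) 1 / colSum μ ψ 1) • colSum μ ψ =
          (a - (a 1 / colSum μ ψ 1) • colSum μ ψ) + (b - (b 1 / colSum μ ψ 1) • colSum μ ψ) := by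
        rw [Pi.add_apply, add_div, add_smul]; abel
      simp only [τ] at ha hb ⊢
      rw [e, dadeIsometry_add, classInner_add_right, classInner_add_right, ha, hb, mul_add]
    · have e : n • a - ((n • a) 1 / colSum μ ψ 1) • colSum μ ψ =
          n • (a - (a 1 / colSum μ ψ 1) • colSum μ ψ) := by
        funext x
        simp only [Pi.sub_apply, Pi.smul_apply, smul_eq_mul, zsmul_eq_mul, Pi.mul_apply, Pi.intCast_apply]
        ring
      simp only [τ] at ha ⊢
      rw [e, dadeIsometry_zsmul, classInner_zsmul_right, classInner_zsmul_right, ha, mul_left_comm]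

theorem sideEta : SideEta S W₁ U W₂ q η := by
  classical
  have hP := isPair_of_selfNormalizing h.hyp.data.selfNormalizing
  haveI := h.hSub_normal
  refine ⟨fun φ hφ hφ1 θ hθ θ' hθ' => ?_, fun ψ hψ hψ1 => ?_⟩
  · have hmem := zspan_sub (h.ind_theta_mem θ hθ) (h.ind_theta_mem θ' hθ')
    have h0 : (indFun (hSub S U) θ - indFun (hSub S U) θ' : ↥S → ℂ) 1 = 0 := by
      rw [Pi.sub_apply, indFun_one_apply, indFun_one_apply, (h.theta_irr θ hθ).2,
        (h.theta_irr θ' hθ').2, sub_self]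
    have hs : ∀ s : ↥S, s ∉ hSub S U →
        (indFun (hSub S U) θ - indFun (hSub S U) θ' : ↥S → ℂ) s = 0 := fun s hs => by
      rw [Pi.sub_apply, indFun_apply_of_notMem _ _ hs, indFun_apply_of_notMem _ _ hs, sub_zero]
    have hφc : ∀ ω, ¬ SameCol ω 1 → classInner (η φ) (∑ π ∈ colClass ω, η π) = 0 := fun ω hω =>
      h.eta_colSum_zero hC fun e => hω fun w hw => by
        rw [← e w hw, hφ w hw, MonoidHom.one_apply]
    have hα := mem_zspanOn_one.2 ⟨hmem, h0⟩
    by_cases hex : ∃ χ ∈ calC S U, IsIrrCharacter ↥S χ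
    · obtain ⟨χ, hχ, hi⟩ := hex
      obtain ⟨τ₁, h1, h2, h3, h4⟩ := h.lambda_facts hC F9 hχ hi
      rw [← h2 _ hα hs]
      refine (zspan_induction (P := fun a => a ∈ zspan (calC S U) ∧ classInner (η φ) (τ₁ a) = 0)
        (fun χ' hχ' => ⟨subset_zspan hχ', ?_⟩) ⟨zspan_zero, ?_⟩
        (fun a _ b _ ha hb => ⟨zspan_add ha.1 hb.1, ?_⟩)
        (fun n a _ ha => ⟨zspan_zsmul n ha.1, ?_⟩) hmem).2
      · rcases h.calC_cases hC F9 hχ' with ⟨ν, hν, rfl⟩ | hi'
        · rcases h4 ν hν with e | e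
          · rw [e, classInner_smul_right, hφc ν hν, mul_zero]
          · rw [e, classInner_neg_right, classInner_smul_right,
              hφc ν⁻¹ (hC.dade.not_sameCol_one_inv hν), mul_zero, neg_zero]
        · rw [← classInner_conj_symm, h3 χ' hχ' hi', map_zero]
      · rw [lin_zero h1 zspan_zero, classInner_zero_right]
      · rw [h1.1 a ha.1 b hb.1, classInner_add_right, ha.2, hb.2, add_zero]
      · rw [h1.2.1 a ha.1 n, classInner_zsmul_right, ha.2, mul_zero]
    · push Not at hex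
      obtain ⟨ω₀, hω₀⟩ := hC.dade.exists_not_sameCol_one
      obtain ⟨-, hd0, -⟩ := h.colSum_facts hC F9 hω₀
      rw [← h.dade_eq (h.isGC_calC hC hmem) hs h0]
      set τ := dadeIsometry (coreA0 S) S (supportR S)
      suffices key : ∀ a ∈ zspan (calC S U),
          classInner (η φ) (τ (a - (a 1 / colSum μ ω₀ 1) • colSum μ ω₀)) = 0 by
        have := key _ hmem
        rw [h0, zero_div, zero_smul, sub_zero] at this
        exact this
      intro a ha
      refine zspan_induction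
        (P := fun a => classInner (η φ) (τ (a - (a 1 / colSum μ ω₀ 1) • colSum μ ω₀)) = 0)
        (fun χ' hχ' => ?_) ?_ (fun a _ b _ ha hb => ?_) (fun n a _ ha => ?_) ha
      · rcases h.calC_cases hC F9 hχ' with ⟨ν, hν, rfl⟩ | hi'
        swap
        · exact absurd hi' (hex χ' hχ')
        obtain ⟨-, hd1, -⟩ := h.colSum_facts hC F9 hν
        have hpos : ((q * uIdx S U : ℕ) : ℂ) ≠ 0 :=
          Nat.cast_ne_zero.2 (Nat.mul_ne_zero h.hq.ne_zero h.uIdx_pos.ne')
        have hdeg : μ ν 1 = μ ω₀ 1 := by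
          have a1 := hC.mu.colSum_apply_K ν (x := 1) (one_mem _)
          have a2 := hC.mu.colSum_apply_K ω₀ (x := 1) (one_mem _)
          rw [hd1] at a1
          rw [hd0, a1] at a2
          exact mul_left_cancel₀ (Nat.cast_ne_zero.2 Nat.card_pos.ne') a2
        rw [hd1, hd0, div_self hpos, one_smul]
        simp only [τ]
        rw [hC.tau_colSum_sub hν hω₀ hdeg, classInner_smul_right, classInner_sub_right, hφc ν hν,
          hφc ω₀ hω₀, sub_zero, mul_zero]
      · simp only [Pi.zero_apply, zero_div, zero_smul, sub_zero, τ]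
        rw [← sub_self (0 : ↥S → ℂ), dadeIsometry_sub, sub_self, classInner_zero_right]
      · have e : a + b - ((a + b) 1 / colSum μ ω₀ 1) • colSum μ ω₀ =
            (a - (a 1 / colSum μ ω₀ 1) • colSum μ ω₀) + (b - (b 1 / colSum μ ω₀ 1) • colSum μ ω₀) := by
          rw [Pi.add_apply, add_div, add_smul]; abel
        simp only [τ] at ha hb ⊢
        rw [e, dadeIsometry_add, classInner_add_right, ha, hb, add_zero]
      · have e : n • a - ((n • a) 1 / colSum μ ω₀ 1) • colSum μ ω₀ =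
            n • (a - (a 1 / colSum μ ω₀ 1) • colSum μ ω₀) := by
          funext x
          simp only [Pi.sub_apply, Pi.smul_apply, smul_eq_mul, zsmul_eq_mul, Pi.mul_apply, Pi.intCast_apply]
          ring
        simp only [τ] at ha ⊢
        rw [e, dadeIsometry_zsmul, classInner_zsmul_right, ha, mul_zero]
  · have hψ' : ¬ SameCol ψ 1 := fun e => hψ1 (hP.lin_ext (fun w hw => by
      rw [hψ w hw, MonoidHom.one_apply]) e)
    obtain ⟨ω, hω, ε, hε, hsee⟩ := h.col_row hC F9 hψ'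
    obtain ⟨-, -, ξ, hξ, he⟩ := h.colSum_facts hC F9 hω
    refine ⟨ξ, hξ, ε, hε, ?_, fun α hα hs => by rw [← he]; exact hsee α hα hs⟩
    rw [← he, hC.mu.inner_colSum, if_pos (sameCol_refl ω), h.card₁]

/-- An irreducible member induced from `Θ` gives `SideLambda`. -/
theorem exists_lambda {ξ : ↥(hSub S U) → ℂ} (hξ : ξ ∈ thetaSet S U)
    (hm : indFun (hSub S U) ξ ∈ calC S U) (hi : IsIrrCharacter ↥S (indFun (hSub S U) ξ)) :
    ∃ f, SideLambda S W₁ U W₂ η f := by
  classical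
  haveI := h.hSub_normal
  obtain ⟨τ₁, h1, h2, -, h4⟩ := h.lambda_facts hC F9 hm hi
  set χ := indFun (hSub S U) ξ
  have hn : classInner χ χ = 1 := classInner_irr_self hi
  have hf : IsSignedIrr G (τ₁ χ) :=
    gc_norm_one (h1.2.2.2 _ (subset_zspan hm)) (by rw [h1.2.2.1 _ (subset_zspan hm) _ (subset_zspan hm), hn])
  refine ⟨τ₁ χ, hf, ⟨ξ, hξ, hn, fun α hα hs => ?_⟩, ?_⟩
  · rw [← h2 α hα hs]
    exact h1.2.2.1 _ (subset_zspan hm) _ (mem_zspanOn_one.1 hα).1
  obtain ⟨ω, hω⟩ := hC.dade.exists_not_sameCol_one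
  obtain ⟨hm', hd, ξ', hξ', he⟩ := h.colSum_facts hC F9 hω
  have hdχ : χ 1 = ((q * uIdx S U : ℕ) : ℂ) := by
    show indFun (hSub S U) ξ 1 = _
    rw [indFun_one_apply, h.index_hSub, (h.theta_irr ξ hξ).2, mul_one, mul_comm q]
  have hα : χ - colSum μ ω ∈ zspanOn (calC S U) {1}ᶜ :=
    mem_zspanOn_one.2 ⟨zspan_sub (subset_zspan hm) (subset_zspan hm'), by
      rw [Pi.sub_apply, hdχ, hd, sub_self]⟩
  have hs : ∀ s : ↥S, s ∉ hSub S U → (χ - colSum μ ω) s = 0 := fun s hs => by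
    show indFun (hSub S U) ξ s - colSum μ ω s = 0
    rw [he, indFun_apply_of_notMem _ _ hs, indFun_apply_of_notMem _ _ hs, sub_zero]
  have hval : ∀ g : G, (∀ x : G, x * g * x⁻¹ ∉ hS S U) → τ₁ χ g = τ₁ (colSum μ ω) g := by
    intro g hg
    have h3 := congrFun (h2 _ hα hs) g
    rw [sub_eq_add_neg, h1.1 _ (subset_zspan hm) _ (zspan_neg (subset_zspan hm')),
      lin_neg h1 (subset_zspan hm'), ← sub_eq_add_neg, ← sub_eq_add_neg, Pi.sub_apply,
      show indFun S (χ - colSum μ ω) g = 0 from ?_] at h3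
    · exact sub_eq_zero.1 h3
    rw [indFun, Finset.sum_eq_zero (fun y _ => ?_), mul_zero]
    rw [extendByZero_eq]
    split_ifs with hy
    · refine hs _ fun e => hg y⁻¹ ?_
      simpa [hSub, Subgroup.mem_subgroupOf] using e
    · rfl
  rcases h4 ω hω with e | e
  · refine ⟨ω, hω, δ ω, hC.mu.sign ω, fun g hg => ?_⟩
    rw [hval g hg, e, Pi.smul_apply, Finset.sum_apply, smul_eq_mul]
  · refine ⟨ω⁻¹, hC.dade.not_sameCol_one_inv hω, -δ ω, ?_, fun g hg => ?_⟩
    · rcases hC.mu.sign ω with a | a <;> simp [a]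
    · rw [hval g hg, e, Pi.neg_apply, Pi.smul_apply, Finset.sum_apply, smul_eq_mul, neg_mul]

end chars

end Side

end Cfsg.Agent.Peterfalvi.Sec13
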