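import Cfsg.Agent.Lib.Peterfalvi.Sec13.Numeric
import Cfsg.Agent.S1546

/-!
# Peterfalvi section 13: numbers for `q < p` when both sides are irreducible (owner: helper38)

* `small_side_exact` : `v (q - 1) = q ^ p - 1`
* `large_side_exact` : `u (p - 1)` or `u q (p - 1)` is `p ^ q - 1`
-/

set_option autoImplicit false

namespace Cfsg.Agent.Peterfalvi.Sec13

/-- The inequality, with `u (p - 1) k = p ^ q - 1`. -/
theorem ineq_k {p q u k : ℕ} {X : ℝ} (hp : p.Prime) (hq : q.Prime)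
    (hk : u * (p - 1) * k = p ^ q - 1)
    (hineq : (1 / (p : ℝ)) * (1 - X) ≤ (q : ℝ) * (u : ℝ) / ((p : ℝ) ^ q - 1)) :
    ((p : ℝ) - 1) * k * (1 - X) ≤ (p : ℝ) * q := by
  have hp1 : (1 : ℝ) < p := by exact_mod_cast hp.one_lt
  have hP : (0 : ℝ) < (p : ℝ) ^ q - 1 := sub_pos.2 (one_lt_pow₀ hp1 hq.ne_zero)
  have hkR : (u : ℝ) * ((p : ℝ) - 1) * k = (p : ℝ) ^ q - 1 := by
    have h : ((u * (p - 1) * k : ℕ) : ℝ) = ((p ^ q - 1 : ℕ) : ℝ) := by exact_mod_cast hk
    rwa [Nat.cast_mul, Nat.cast_mul, sub_one_cast hp.one_le,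
      sub_one_cast (Nat.one_le_pow _ _ hp.pos), Nat.cast_pow] at h
  have hu : (0 : ℝ) < u := by
    rcases Nat.eq_zero_or_pos u with rfl | h
    · rw [Nat.cast_zero, zero_mul, zero_mul] at hkR
      linarith
    · exact_mod_cast h
  rw [le_div_iff₀ hP, ← hkR] at hineq
  refine le_of_mul_le_mul_left ?_ hu
  calc (u : ℝ) * (((p : ℝ) - 1) * k * (1 - X))
      = (p : ℝ) * (1 / (p : ℝ) * (1 - X) * ((u : ℝ) * ((p : ℝ) - 1) * k)) := by field_simp
    _ ≤ (p : ℝ) * ((q : ℝ) * u) := mul_le_mul_of_nonneg_left hineq (by linarith)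
    _ = _ := by ring

/-- For `q < p` the smaller prime gives an exact order. -/
theorem small_side_exact {p q u v : ℕ} (hp : p.Prime) (hq : q.Prime) (hp2 : p ≠ 2) (hq2 : q ≠ 2)
    (hqp : q < p) (hu : u * (p - 1) ≤ p ^ q - 1) (hu2 : 2 * q + 1 ≤ u)
    (hv : v * (q - 1) ∣ q ^ p - 1)
    (hineq : (1 / (q : ℝ)) * (1 - ((u : ℝ) / ((p : ℝ) ^ q - 1) + 1 / (u : ℝ))) ≤
      (p : ℝ) * (v : ℝ) / ((q : ℝ) ^ p - 1)) :
    v * (q - 1) = q ^ p - 1 := by
  obtain ⟨k, hk⟩ := hv
  by_contra hne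
  have hq3 := succ_prime_bound hq hq2
  have hmod : q % p ≠ 1 := by rw [Nat.mod_eq_of_lt hqp]; omega
  obtain ⟨hodd, -, hdiv⟩ := S1546.result q p hq hp hq2 hp2
  obtain ⟨-, hdiv⟩ := hdiv hmod
  have hN : (q ^ p - 1) / (q - 1) = v * k := by
    rw [hk, mul_right_comm]
    exact Nat.mul_div_cancel _ (by omega)
  rw [hN] at hodd hdiv
  have hk1 : k ≠ 1 := fun e => hne (by rw [hk, e, mul_one])
  have hk2 : 2 * p + 1 ≤ k := by
    obtain ⟨l, hl⟩ := (Nat.odd_mul.1 hodd).2
    have h1 := hdiv k (Dvd.intro_left v rfl)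
    have h2 : p ∣ k - 1 := ⟨k / p, by
      have := Nat.div_add_mod k p
      omega⟩
    have h3 : 2 * p ∣ k - 1 :=
      ((Nat.coprime_primes Nat.prime_two hp).2 (Ne.symm hp2)).mul_dvd_of_dvd_of_dvd ⟨l, by omega⟩ h2
    have := Nat.le_of_dvd (by omega) h3
    omega
  have key := ineq_k hq hp hk.symm hineq
  have hkR : 2 * (p : ℝ) + 1 ≤ k := by exact_mod_cast hk2
  obtain ⟨b1, -, -, -, b5, b6⟩ := X_bound hq hp hq2 hp2 (Nat.ne_of_lt hqp) hu hu2
  generalize (u : ℝ) / ((p : ℝ) ^ q - 1) + 1 / (u : ℝ) = X at key b1 b5 b6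
  have hqR : (3 : ℝ) ≤ q := by exact_mod_cast hq3
  have hpR : (q : ℝ) < p := by exact_mod_cast hqp
  by_cases h3 : q = 3
  · subst h3
    push_cast at key
    by_cases h5 : p = 5
    · subst h5
      have := b5 rfl rfl
      push_cast at key hkR
      nlinarith
    · have h7 : 7 ≤ p := by
        obtain ⟨l, hl⟩ := hp.odd_of_ne_two hp2
        omega
      have := b6 rfl h7
      nlinarith
  · have h5 := odd_prime_five hq hq2 h3
    have h5R : (5 : ℝ) ≤ q := by exact_mod_cast h5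
    have := b1 ⟨by omega, h5⟩
    have h9 : ((q : ℝ) - 1) * (2 * (p : ℝ) + 1) * (65 / 100) ≤ ((q : ℝ) - 1) * k * (1 - X) := by
      refine mul_le_mul (mul_le_mul_of_nonneg_left hkR (by linarith)) (by linarith) (by norm_num) ?_
      exact mul_nonneg (by linarith) (Nat.cast_nonneg k)
    nlinarith

/-- For `q < p` the larger prime gives an exact order up to the factor `q`. -/
theorem large_side_exact {p q u v : ℕ} (hp : p.Prime) (hq : q.Prime) (hp2 : p ≠ 2) (hq2 : q ≠ 2)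
    (hqp : q < p) (hv : v * (q - 1) ≤ q ^ p - 1) (hv2 : 2 * p + 1 ≤ v)
    (hu : u * (p - 1) ∣ p ^ q - 1) (hu2 : 2 * q + 1 ≤ u) (humod : u ≡ 1 [MOD q])
    (hineq : (1 / (p : ℝ)) * (1 - ((v : ℝ) / ((q : ℝ) ^ p - 1) + 1 / (v : ℝ))) ≤
      (q : ℝ) * (u : ℝ) / ((p : ℝ) ^ q - 1)) :
    u * (p - 1) = p ^ q - 1 ∨ u * q * (p - 1) = p ^ q - 1 := by
  obtain ⟨k, hk⟩ := hu
  by_contra hne
  push Not at hne
  obtain ⟨hne1, hne2⟩ := hne
  have hq3 := succ_prime_bound hq hq2
  obtain ⟨hodd, hqd, hdiv⟩ := S1546.result p q hp hq hp2 hq2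
  have hN : (p ^ q - 1) / (p - 1) = u * k := by
    rw [hk, mul_right_comm]
    exact Nat.mul_div_cancel _ (by omega)
  rw [hN] at hodd hdiv hqd
  have hk1 : k ≠ 1 := fun e => hne1 (by rw [hk, e, mul_one])
  have hko := (Nat.odd_mul.1 hodd).2
  have key := ineq_k hp hq hk.symm hineq
  obtain ⟨b1, b2, b3, b4, -, -⟩ := X_bound hp hq hp2 hq2 (Nat.ne_of_gt hqp) hv hv2
  generalize (v : ℝ) / ((q : ℝ) ^ p - 1) + 1 / (v : ℝ) = X at key b1 b2 b3 b4
  have hqR : (3 : ℝ) ≤ q := by exact_mod_cast hq3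
  have hpR : (q : ℝ) < p := by exact_mod_cast hqp
  have hX : X < 53 / 100 := by
    by_cases h3 : q = 3
    · by_cases h5 : p = 5
      · linarith [b3 h3 h5]
      by_cases h7 : p = 7
      · linarith [b4 h3 h7]
      have h11 : 11 ≤ p := by
        subst h3
        by_contra hlt
        interval_cases p <;> first | omega | norm_num at hp
      linarith [b2 h3 h11]
    · have h5 := odd_prime_five hq hq2 h3
      linarith [b1 ⟨h5, by omega⟩]
  by_cases hmod : p % q = 1
  · -- `q ∣ k`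
    have hqk : q ∣ k := by
      refine (hq.dvd_mul.1 (hqd hmod)).resolve_left fun hd => hq.ne_one ?_
      have h1 : u % q = 1 % q := humod
      rw [Nat.mod_eq_zero_of_dvd hd, Nat.one_mod_eq_one.2 hq.ne_one] at h1
      exact absurd h1 zero_ne_one
    obtain ⟨l, rfl⟩ := hqk
    have hl1 : l ≠ 1 := fun e => hne2 (by rw [hk, e, mul_one]; ring)
    obtain ⟨j, rfl⟩ := (Nat.odd_mul.1 hko).2
    have hk3 : 3 * (q : ℝ) ≤ ((q * (2 * j + 1) : ℕ) : ℝ) := by
      have : q * 3 ≤ q * (2 * j + 1) := Nat.mul_le_mul_left q (by omega)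
      have h' : ((q * 3 : ℕ) : ℝ) ≤ ((q * (2 * j + 1) : ℕ) : ℝ) := by exact_mod_cast this
      rw [Nat.cast_mul] at h'
      push_cast at h' ⊢
      linarith
    have hp7 : (7 : ℝ) ≤ p := by
      have : q + 1 ≠ p := fun e => by
        obtain ⟨a, ha⟩ := hp.odd_of_ne_two hp2
        obtain ⟨b, hb⟩ := hq.odd_of_ne_two hq2
        omega
      have h7 : 7 ≤ p := by
        obtain ⟨a, ha⟩ := hp.odd_of_ne_two hp2
        by_contra hlt
        have : p = 5 := by omega
        subst this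
        obtain rfl : q = 3 := by omega
        norm_num at hmod
      exact_mod_cast h7
    have h9 : ((p : ℝ) - 1) * (3 * q) * (47 / 100) ≤ ((p : ℝ) - 1) * ((q * (2 * j + 1) : ℕ) : ℝ) * (1 - X) := by
      refine mul_le_mul (mul_le_mul_of_nonneg_left hk3 (by linarith)) (by linarith) (by norm_num) ?_
      exact mul_nonneg (by linarith) (Nat.cast_nonneg _)
    nlinarith
  · obtain ⟨-, hdiv⟩ := hdiv hmod
    have hk2 : 2 * q + 1 ≤ k := by
      obtain ⟨l, hl⟩ := hko
      have h1 := hdiv k (Dvd.intro_left u rfl)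
      have h2 : q ∣ k - 1 := ⟨k / q, by
        have := Nat.div_add_mod k q
        omega⟩
      have h3 : 2 * q ∣ k - 1 :=
        ((Nat.coprime_primes Nat.prime_two hq).2 (Ne.symm hq2)).mul_dvd_of_dvd_of_dvd ⟨l, by omega⟩ h2
      have := Nat.le_of_dvd (by omega) h3
      omega
    by_cases h3 : q = 3
    · subst h3
      by_cases h5 : p = 5
      · subst h5
        norm_num at hk
        have h31 : u * 4 * k = 124 := hk.symm
        have : u * k = 31 := by nlinarith
        rcases (Nat.dvd_prime (by norm_num : Nat.Prime 31)).1 (Dvd.intro_left u this) with e | e <;>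
          nlinarith
      have h11 : 11 ≤ p := by
        by_contra hlt
        interval_cases p <;> first | omega | norm_num at hp | norm_num at hmod
      have h11R : (11 : ℝ) ≤ p := by exact_mod_cast h11
      have := b2 rfl h11
      have hk7 : (7 : ℝ) ≤ k := by exact_mod_cast hk2
      have h9 : ((p : ℝ) - 1) * 7 * (4749 / 10000) ≤ ((p : ℝ) - 1) * k * (1 - X) := by
        refine mul_le_mul (mul_le_mul_of_nonneg_left hk7 (by linarith)) (by linarith) (by norm_num) ?_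
        exact mul_nonneg (by linarith) (Nat.cast_nonneg k)
      push_cast at key
      nlinarith
    · have h5 := odd_prime_five hq hq2 h3
      have h5R : (5 : ℝ) ≤ q := by exact_mod_cast h5
      have hp7 : (7 : ℝ) ≤ p := by
        have h7 : 7 ≤ p := by
          obtain ⟨a, ha⟩ := hp.odd_of_ne_two hp2
          omega
        exact_mod_cast h7
      have := b1 ⟨h5, by omega⟩
      have hkR : 2 * (q : ℝ) + 1 ≤ k := by exact_mod_cast hk2
      have h9 : ((p : ℝ) - 1) * (2 * q + 1) * (65 / 100) ≤ ((p : ℝ) - 1) * k * (1 - X) := by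
        refine mul_le_mul (mul_le_mul_of_nonneg_left hkR (by linarith)) (by linarith) (by norm_num) ?_
        exact mul_nonneg (by linarith) (Nat.cast_nonneg k)
      nlinarith

end Cfsg.Agent.Peterfalvi.Sec13
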