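import Cfsg.Agent.Lib.Peterfalvi.Sec13.Galois
import Cfsg.Agent.Lib.Peterfalvi.Sec13.NumericExact

/-!
# Peterfalvi section 13: the orders (owner: helper38)

* `Side.galois_facts` : `U` cyclic, free on `S_F`, `|U| (p - 1) ∣ p ^ q - 1`
* `Pair.values` : for `q < p` the order of `V`, and that of `U` up to a factor `q`
-/

set_option autoImplicit false

namespace Cfsg.Agent.Peterfalvi.Sec13

open scoped Pointwise commutatorElement
open Cfsg Cfsg.Agent OddMax

universe u

variable {G : Type u} [Group G] [Fintype G]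

namespace Side

variable {S W₁ U W₂ : Subgroup G} {p q : ℕ} (h : Side S W₁ U W₂ p q)
include h

theorem galois_facts (F9 : Sec9Facts G) (hC : cU S U = ⊥)
    (hg : IsGaloisPair S U (⊥ : Subgroup G)) :
    IsCyclic U ∧ Nat.card U * (p - 1) ∣ p ^ q - 1 ∧
      ∀ v ∈ U, v ≠ 1 → ∀ x ∈ fittingHallOf S, v * x = x * v → x = 1 := by
  obtain ⟨hK, hfp⟩ := h.chiefKernel F9
  obtain ⟨K, _, _, f, ψ, σ, -, -, -, -, -, -, -, -, -, hdvd, hcyc⟩ :=
    F9.galois_field S W₁ U W₂ ⊥ h.hyp hK hg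
  rw [h.stab_eq] at hdvd hcyc
  rw [hfp, h.card₁, hC, Subgroup.relIndex_bot_left] at hdvd
  refine ⟨hcyc hC, hdvd, fun v hv hv1 x hx hvx => by_contra fun hx1 => hv1 ?_⟩
  set N := fittingHallOf S ⊓ Subgroup.centralizer ({v} : Set G)
  have hn : U ≤ Subgroup.normalizer (N : Set G) := fun a ha =>
    Coprime.mem_normalizer_of_forall fun z hz => ⟨conj_mem_of_le_normalizer
      (OddTypeP.normal_of_map S) (h.hyp.le_M.2.2.2.2 ha) hz.1, by
      refine Subgroup.mem_centralizer_singleton_iff.2 ?_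
      have e : z * v = v * z := Subgroup.mem_centralizer_singleton_iff.1 hz.2
      have := comm_conj (m := a) e
      rwa [show a * v * a⁻¹ = v by
        rw [h.U_comm_of_bot F9 hC ha hv, mul_inv_cancel_right]] at this⟩
  rcases hg N bot_le inf_le_left hn with e | e
  · exfalso
    refine hx1 (Subgroup.mem_bot.1 (e ▸ ⟨hx, ?_⟩))
    exact Subgroup.mem_centralizer_singleton_iff.2 hvx.symm
  · rw [← Subgroup.mem_bot, ← hC]
    refine ⟨hv, Subgroup.mem_centralizer_iff.2 fun z hz => ?_⟩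
    exact Subgroup.mem_centralizer_singleton_iff.1 (e.ge hz).2

end Side

namespace Pair

variable {S T W₁ W₂ U V : Subgroup G} {p q : ℕ} (h : Pair S T W₁ W₂ U V p q)
include h

/-- Either the full order or the inequality. -/
theorem exact_or_ineq (F9 : Sec9Facts G) (hC : cU S U = ⊥) :
    Nat.card U * (p - 1) = p ^ q - 1 ∨
      (1 / (p : ℝ)) * (1 - ((uIdx T V : ℝ) / ((q : ℝ) ^ p - 1) + 1 / (uIdx T V : ℝ))) ≤
        (q : ℝ) * (uIdx S U : ℝ) / ((p : ℝ) ^ q - 1) := by
  haveI := Fintype.ofFinite ↥S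
  obtain ⟨hK, hfp⟩ := h.left.chiefKernel F9
  rcases F9.reducible_core_cases S W₁ U W₂ ⊥ h.left.hyp hK with
    ⟨χ, hχ, hi, -, hind⟩ | ⟨-, -, -, -, hfull, -⟩
  · right
    rw [h.left.ker_eq] at hχ
    obtain ⟨ξ, hξ, hξ1, he⟩ : ∃ ξ : ↥(hSub S U) → ℂ, IsIrrCharacter _ ξ ∧ ξ 1 = 1 ∧
        χ = indFun _ ξ := by
      unfold IsIndHC at hind
      rwa [h.left.hSub_eq] at hind
    subst he
    have hineq := h.inequality F9 ⟨ξ, h.left.mem_theta hχ hξ hξ1 rfl, hχ, hi⟩
    have h1 : c1 S U = 1 := Nat.dvd_one.1 (by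
      have := Side.c1_dvd (S := S) (U := U)
      rwa [hC, Subgroup.card_bot] at this)
    rw [h1, hC, Subgroup.card_bot, Nat.cast_one, mul_one, sub_self, zero_div, add_zero] at hineq
    exact hineq
  · rw [hfp, h.left.card₁] at hfull
    exact Or.inl hfull

/-- The orders, for `q < p`. -/
theorem values (F9 : Sec9Facts G)
    (hfrob : ∀ M : Subgroup G, IsCoatom M → kappa M = ∅ → Sec12.FrobSigma M)
    (h11 : ¬ IsOfTypeII S → p < q) (h11' : ¬ IsOfTypeII T → q < p) (hqp : q < p) :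
    Nat.card V * (q - 1) = q ^ p - 1 ∧
      (Nat.card U * (p - 1) = p ^ q - 1 ∨ Nat.card U * q * (p - 1) = p ^ q - 1) := by
  have hC := h.cU_eq_bot F9 h11
  have hD := h.symm.cU_eq_bot F9 h11'
  obtain ⟨-, hu, -⟩ := h.left.galois_facts F9 hC (h.galois F9 hfrob h11 h11')
  obtain ⟨-, hv, -⟩ := h.right.galois_facts F9 hD (h.symm.galois F9 hfrob h11' h11)
  have eU := h.left.card_U_eq hC
  have eV := h.right.card_U_eq hD
  refine ⟨?_, ?_⟩
  · rcases h.symm.exact_or_ineq F9 hD with e | e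
    · exact e
    rw [← eV]
    exact small_side_exact h.left.hp h.left.hq h.left.p_ne_two h.left.q_ne_two hqp
      (h.left.uIdx_bound F9) h.left.uIdx_ge (eV.symm ▸ hv) e
  · rcases h.exact_or_ineq F9 hC with e | e
    · exact Or.inl e
    rw [← eU]
    exact large_side_exact h.left.hp h.left.hq h.left.p_ne_two h.left.q_ne_two hqp
      (h.right.uIdx_bound F9) h.right.uIdx_ge (eU.symm ▸ hu) h.left.uIdx_ge h.left.uIdx_modEq e

end Pair

end Cfsg.Agent.Peterfalvi.Sec13
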