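import Cfsg.Agent.Lib.Peterfalvi.Sec13.Normalizer
import Cfsg.Agent.Lib.Peterfalvi.Sec9Facts
import Cfsg.Agent.Lib.Peterfalvi.Sec11.Main
import Cfsg.Agent.Lib.Peterfalvi.Sec10TypeVCoherent
import Cfsg.Agent.Lib.Peterfalvi.Sec12Main

/-!
# Peterfalvi section 13, unconditional (owner: helper38)

* `pair`, `facts11`, `frob`
* `Pair.hub_coprime` : `|L_F|` is prime to `p q`
* `Pair.field_model` : the field model on `S_F`
-/

set_option autoImplicit false

namespace Cfsg.Agent.Peterfalvi.Sec13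

open scoped Pointwise commutatorElement
open Cfsg Cfsg.Agent OddMax

universe u

variable {G : Type u} [Group G] [Fintype G] (hG : IsMinSimpleOddOrder G)
include hG

theorem facts11 : Sec11Facts G := sec11Facts hG (sec9Facts hG) (nonCoherence hG)

theorem frob : ∀ M : Subgroup G, IsCoatom M → kappa M = ∅ → Sec12.FrobSigma M :=
  fun _ hM hκ => Sec12.frobSigma hG hM hκ

variable {S T W₁ W₂ U V : Subgroup G} (hS : IsCoatom S) (hT : IsCoatom T)
  (hSP : IsTypePWith S W₁ U W₂) (hTP : IsTypePWith T W₂ V W₁)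
include hS hT hSP hTP

theorem pair : Pair S T W₁ W₂ U V (Nat.card W₂) (Nat.card W₁) :=
  pair_of_facts hG (sec9Facts hG) (facts11 hG) (noTypeV hG) hS hT hSP hTP

omit hG hS hT hSP hTP

namespace Pair

variable {p q : ℕ} (h : Pair S T W₁ W₂ U V p q)
include h

/-- `|L_F|` is prime to `p q`. -/
theorem hub_coprime (hfrob : ∀ M : Subgroup G, IsCoatom M → kappa M = ∅ → Sec12.FrobSigma M)
    (hII : IsOfTypeII S) {L : Subgroup G} (hL : IsCoatom L)
    (hNU : Subgroup.normalizer (U : Set G) ≤ L) :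
    (Nat.card (fittingHallOf L)).Coprime (p * q) := by
  have hG := h.left.hG
  have hub := h.hub hfrob hII hL hNU
  have key : ∀ (M : Subgroup G) (r : ℕ), r.Prime → IsCoatom M → r ∣ Nat.card (sigmaCore M) →
      r ∣ Nat.card (fittingHallOf L) →
      ∃ g : G, L = M.map (MulAut.conj g).toMonoidHom := fun M r hr hM h1 h2 => by
    rw [hub.fitting_eq] at h2
    exact (OddOrder14.upstream hG).bg13_9 M L hM hL
      ⟨r, sigmaCore_pi M r hr h1, sigmaCore_pi L r hr h2⟩
  refine Nat.Coprime.mul_right (Nat.Coprime.symm ?_) (Nat.Coprime.symm ?_)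
  · refine h.left.hp.coprime_iff_not_dvd.2 fun hd => ?_
    obtain ⟨g, hg⟩ := key S p h.left.hp h.left.hyp.coatom ((h.left.card_P ▸ dvd_pow_self p h.left.hq.ne_zero).trans
      (Subgroup.card_dvd_of_le (fittingHallOf_le_sigmaCore hG h.left.hyp.coatom))) hd
    subst hg
    exact h.left.not_conj_left (h.left.U_not_normalized hII) g hNU
  · refine h.left.hq.coprime_iff_not_dvd.2 fun hd => ?_
    obtain ⟨g, hg⟩ := key T q h.left.hq h.right.hyp.coatom ((h.right.card_P ▸ dvd_pow_self q h.left.hp.ne_zero).trans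
      (Subgroup.card_dvd_of_le (fittingHallOf_le_sigmaCore hG h.right.hyp.coatom))) hd
    subst hg
    exact h.not_conj_right g hNU

/-- The field model on `S_F`. -/
theorem field_model (F9 : Sec9Facts G) (F11 : Sec11Facts G)
    (hfrob : ∀ M : Subgroup G, IsCoatom M → kappa M = ∅ → Sec12.FrobSigma M) :
    ∃ (F : Type) (_ : Field F) (_ : Fintype F) (f : G → F) (ψ : G → F),
      Fintype.card F = p ^ q ∧ Set.BijOn f (fittingHallOf S : Set G) Set.univ ∧
      (∀ x ∈ fittingHallOf S, ∀ x' ∈ fittingHallOf S, f (x * x') = f x + f x') ∧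
      (∀ v ∈ U, ψ v ≠ 0 ∧ ∀ x ∈ fittingHallOf S, f (v * x * v⁻¹) = ψ v * f x) ∧
      (∀ v ∈ U, ∀ v' ∈ U, ψ (v * v') = ψ v * ψ v') ∧ Set.InjOn ψ (U : Set G) ∧
      ∀ x ∈ fittingHallOf S, x ∈ W₂ ↔ f x ^ p = f x := by
  obtain ⟨hK, hfp⟩ := h.left.chiefKernel F9
  obtain ⟨K, _, _, f, ψ, σ, hcard, hsurj, hadd, hker, hact, hmul, hψ1, hW, -⟩ :=
    F9.galois_field S W₁ U W₂ ⊥ h.left.hyp hK
      (h.galois F9 hfrob (h.left.lt_of_not_typeII F11) (h.right.lt_of_not_typeII F11))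
  rw [hfp, h.left.card₁] at hcard
  rw [h.left.stab_eq, h.C_eq F9 F11] at hψ1
  rw [hfp, bot_sup_eq] at hW
  haveI := Fintype.ofFinite K
  refine ⟨K, inferInstance, inferInstance, f, ψ, by rw [← Nat.card_eq_fintype_card, hcard],
    ⟨Set.mapsTo_univ _ _, fun a ha b hb e => ?_, hsurj⟩, hadd, hact, hmul, fun a ha b hb e => ?_, hW⟩
  · have hb' := (fittingHallOf S).inv_mem hb
    have h0 : f (b * b⁻¹) = f b + f b⁻¹ := hadd b hb _ hb'
    have h1 : f (a * b⁻¹) = 0 := by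
      rw [hadd a ha _ hb', e, ← h0, mul_inv_cancel, (hker 1 (one_mem _)).2 (one_mem _)]
    exact mul_inv_eq_one.1 (Subgroup.mem_bot.1 ((hker _ (mul_mem ha hb')).1 h1))
  · have hb' := U.inv_mem hb
    have h1 : ψ (a * b⁻¹) = 1 := by
      rw [hmul a ha _ hb', e, ← hmul b hb _ hb', mul_inv_cancel, (hψ1 1 (one_mem _)).2 (one_mem _)]
    exact mul_inv_eq_one.1 (Subgroup.mem_bot.1 ((hψ1 _ (mul_mem ha hb')).1 h1))

end Pair

end Cfsg.Agent.Peterfalvi.Sec13
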