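import Cfsg.Agent.Lib.Peterfalvi.Sec13.Numeric
import Cfsg.Agent.S1546

/-!
# Peterfalvi section 13: numbers for the case that `U` fixes lines (owner: helper38)

* `line_numeric` : the inequality leaves only `q = 3`, `u = ((p - 1) / 2) ^ 2`
* `full_of_X` : then the other side has the full order
-/

set_option autoImplicit false

namespace Cfsg.Agent.Peterfalvi.Sec13

/-- `q / 2 ^ (q - 1)` is small. -/
theorem two_pow_bound {q : ℕ} (hq : 5 ≤ q) : q * 16 ≤ 5 * 2 ^ (q - 1) := by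
  have key : ∀ k : ℕ, (k + 5) * 16 ≤ 5 * 2 ^ (k + 4) := by
    intro k
    induction k with
    | zero => norm_num
    | succ k ih =>
      rw [show k + 1 + 4 = (k + 4).succ from rfl, pow_succ]
      nlinarith
  have h := key (q - 5)
  rwa [show q - 5 + 5 = q by omega, show q - 5 + 4 = q - 1 by omega] at h

/-- With `C = 1` and a fixed line, only `q = 3`, `u = ((p - 1) / 2) ^ 2` is left. -/
theorem line_numeric {p q u v m : ℕ} (hp : p.Prime) (hq : q.Prime) (hp2 : p ≠ 2) (hq2 : q ≠ 2)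
    (hne : p ≠ q) (hv : v * (q - 1) ≤ q ^ p - 1) (hv2 : 2 * p + 1 ≤ v) (hm1 : 1 < m) (hmo : Odd m)
    (hmd : m ∣ p - 1) (hu : u ∣ m ^ (q - 1)) (humod : u ≡ 1 [MOD q]) (hu0 : 0 < u)
    (hineq : (1 / (p : ℝ)) * (1 - ((v : ℝ) / ((q : ℝ) ^ p - 1) + 1 / (v : ℝ))) ≤
      (q : ℝ) * (u : ℝ) / ((p : ℝ) ^ q - 1)) :
    q = 3 ∧ 11 ≤ p ∧ m * 2 = p - 1 ∧ u = m ^ 2 ∧
      (1 : ℝ) / 4 < (v : ℝ) / ((q : ℝ) ^ p - 1) + 1 / (v : ℝ) := by
  have hp3 := succ_prime_bound hp hp2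
  have hq3 := succ_prime_bound hq hq2
  have hm2 : m * 2 ≤ p - 1 := by
    obtain ⟨k, hk⟩ := hmd
    have he : Even (p - 1) := Nat.Odd.sub_odd (hp.odd_of_ne_two hp2) odd_one
    rw [hk, Nat.even_mul] at he
    have hk2 : Even k := he.resolve_left (Nat.not_even_iff_odd.2 hmo)
    obtain ⟨l, rfl⟩ := hk2
    rw [hk]
    rcases Nat.eq_zero_or_pos l with rfl | hl
    · simp at hk; omega
    · exact Nat.mul_le_mul_left _ (by omega)
  obtain ⟨b1, b2, b3, b4, b5, b6⟩ := X_bound hp hq hp2 hq2 hne hv hv2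
  set X := (v : ℝ) / ((q : ℝ) ^ p - 1) + 1 / (v : ℝ) with hXdef
  have hpR : (0 : ℝ) < p := by exact_mod_cast hp.pos
  have hP : (0 : ℝ) < (p : ℝ) ^ q - 1 :=
    sub_pos.2 (one_lt_pow₀ (by exact_mod_cast hp.one_lt) hq.ne_zero)
  have h1X : (1 - X) * ((p : ℝ) ^ q - 1) ≤ (q : ℝ) * u * p := by
    rw [le_div_iff₀ hP] at hineq
    calc (1 - X) * ((p : ℝ) ^ q - 1) = 1 / (p : ℝ) * (1 - X) * ((p : ℝ) ^ q - 1) * p := by
          field_simp
      _ ≤ _ := mul_le_mul_of_nonneg_right hineq hpR.le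
  -- the comparison with `(p - 1) ^ (q - 1)`
  have hup : ∀ c : ℕ, u * c ≤ (p - 1) ^ (q - 1) → (1 - X) * (c : ℝ) < (q : ℝ) := fun c hc => by
    have h1 : (p - 1) ^ (q - 1) * p < p ^ q - 1 := by
      have h2 : (p - 1) ^ (q - 1) + 1 ≤ p ^ (q - 1) :=
        Nat.pow_lt_pow_left (Nat.sub_lt hp.pos one_pos) (by omega)
      have h3 := Nat.mul_le_mul_right p h2
      rw [← pow_succ p, Nat.sub_add_cancel hq.one_le, Nat.add_mul, one_mul] at h3
      omega
    have h4 : u * c * p < p ^ q - 1 := lt_of_le_of_lt (Nat.mul_le_mul_right _ hc) h1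
    have h5 : (u : ℝ) * c * p < (p : ℝ) ^ q - 1 := by
      have h6 : ((u * c * p : ℕ) : ℝ) < ((p ^ q - 1 : ℕ) : ℝ) := by exact_mod_cast h4
      rw [Nat.cast_mul, Nat.cast_mul, sub_one_cast (Nat.one_le_pow _ _ hp.pos), Nat.cast_pow] at h6
      exact h6
    refine lt_of_mul_lt_mul_right ?_ hP.le
    calc (1 - X) * (c : ℝ) * ((p : ℝ) ^ q - 1) = (1 - X) * ((p : ℝ) ^ q - 1) * c := by ring
      _ ≤ (q : ℝ) * u * p * c := mul_le_mul_of_nonneg_right h1X (Nat.cast_nonneg c)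
      _ = (q : ℝ) * ((u : ℝ) * c * p) := by ring
      _ < (q : ℝ) * ((p : ℝ) ^ q - 1) :=
          mul_lt_mul_of_pos_left h5 (by exact_mod_cast hq.pos)
  have hub : u * 2 ^ (q - 1) ≤ (p - 1) ^ (q - 1) :=
    (Nat.mul_le_mul_right _ (Nat.le_of_dvd (Nat.pow_pos (by omega)) hu)).trans
      (by rw [← mul_pow]; exact Nat.pow_le_pow_left hm2 _)
  obtain rfl : q = 3 := by
    by_contra hne3
    have hq5 := odd_prime_five hq hq2 hne3
    have h1 := hup _ hub
    have h2 : (q : ℝ) * 16 ≤ 5 * ((2 ^ (q - 1) : ℕ) : ℝ) := by exact_mod_cast two_pow_bound hq5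
    have hX : X ≤ 1 / 4 + 1 / 11 := by
      by_cases hp3' : p = 3
      · by_cases hq5' : q = 5
        · linarith [b5 hp3' hq5']
        · have hq7 : 7 ≤ q := by
            rcases (hq.odd_of_ne_two hq2) with ⟨k, hk⟩
            omega
          linarith [b6 hp3' hq7]
      · exact b1 ⟨hq5, odd_prime_five hp hp2 hp3'⟩
    have hc : (0 : ℝ) ≤ ((2 ^ (q - 1) : ℕ) : ℝ) := Nat.cast_nonneg _
    nlinarith
  have hp5 : 5 ≤ p := odd_prime_five hp hp2 hne
  have hX : X ≤ 53 / 100 := by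
    by_cases h5 : p = 5
    · linarith [b3 rfl h5]
    by_cases h7 : p = 7
    · linarith [b4 rfl h7]
    have h11 : 11 ≤ p := by
      by_contra hlt
      have : p = 6 ∨ p = 8 ∨ p = 9 ∨ p = 10 := by omega
      rcases this with rfl | rfl | rfl | rfl <;> norm_num at hp
    linarith [b2 rfl h11]
  norm_num at hup hu ⊢
  have hueq : u = m ^ 2 := by
    obtain ⟨k, hk⟩ := hu
    by_contra hne2
    have hk1 : k ≠ 1 := fun e => hne2 (by rw [hk, e, mul_one])
    have hko : Odd k := by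
      have : Odd (m ^ 2) := hmo.pow
      rw [hk] at this
      exact (Nat.odd_mul.1 this).2
    obtain ⟨l, rfl⟩ := hko
    have h3 : u * 3 ≤ m ^ 2 := by rw [hk]; exact Nat.mul_le_mul_left _ (by omega)
    have h4 := hup 12 (by nlinarith)
    norm_num at h4
    linarith
  have hmeq : m * 2 = p - 1 := by
    by_contra hne2
    obtain ⟨k, hk⟩ := hmd
    have he : Even (p - 1) := Nat.Odd.sub_odd (hp.odd_of_ne_two hp2) odd_one
    rw [hk, Nat.even_mul] at he
    obtain ⟨l, rfl⟩ := he.resolve_left (Nat.not_even_iff_odd.2 hmo)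
    have hl : 2 ≤ l := by
      by_contra hl
      interval_cases l
      · simp at hk; omega
      · exact hne2 (by rw [hk])
    have h4 : m * 4 ≤ p - 1 := by rw [hk]; exact Nat.mul_le_mul_left _ (by omega)
    have h5 := hup 16 (by rw [hueq]; nlinarith)
    norm_num at h5
    linarith
  have hp11 : 11 ≤ p := by
    by_contra hlt
    have h57 : p = 5 ∨ p = 7 := by
      have hpr := hp
      interval_cases p <;> first | exact Or.inl rfl | exact Or.inr rfl | norm_num at hpr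
    rcases h57 with rfl | rfl
    · obtain rfl : m = 2 := by omega
      exact absurd hmo (by decide)
    · obtain rfl : m = 3 := by omega
      subst hueq
      exact absurd humod (by decide)
  refine ⟨hp11, hmeq, hueq, ?_⟩
  have h5 := hup 4 (by rw [hueq, ← hmeq]; nlinarith)
  norm_num at h5
  linarith

/-- The other side has the full order. -/
theorem full_of_X {p v : ℕ} (hp : p.Prime) (hp11 : 11 ≤ p) (hv2 : 2 * p + 1 ≤ v)
    (hd : v * 2 ∣ 3 ^ p - 1)
    (hX : (1 : ℝ) / 4 < (v : ℝ) / ((3 : ℝ) ^ p - 1) + 1 / (v : ℝ)) : v * 2 = 3 ^ p - 1 := by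
  obtain ⟨hodd, -, -⟩ := S1546.result 3 p Nat.prime_three hp (by norm_num) (by omega)
  obtain ⟨k, hk⟩ := hd
  by_contra hne
  have hk1 : k ≠ 1 := fun e => hne (by rw [hk, e, mul_one])
  have hk0 : k ≠ 0 := fun e => by
    have : 3 ^ 1 ≤ 3 ^ p := Nat.pow_le_pow_right (by norm_num) hp.one_le
    rw [e, mul_zero] at hk
    omega
  have hko : Odd k := by
    rw [show (3 ^ p - 1) / (3 - 1) = v * k by
      rw [hk, mul_right_comm]; exact Nat.mul_div_cancel _ two_pos] at hodd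
    exact (Nat.odd_mul.1 hodd).2
  have hk3 : k ≠ 3 := fun e => by
    have h3 : 3 ∣ 3 ^ p := dvd_pow_self 3 hp.ne_zero
    subst e
    omega
  have hk5 : 5 ≤ k := by
    obtain ⟨l, rfl⟩ := hko
    omega
  have hQ : ((3 ^ p - 1 : ℕ) : ℝ) = (3 : ℝ) ^ p - 1 := by
    rw [sub_one_cast (Nat.one_le_pow _ _ (by norm_num)), Nat.cast_pow, Nat.cast_ofNat]
  have h1 : (v : ℝ) * 10 ≤ (3 : ℝ) ^ p - 1 := by
    rw [← hQ]
    have : v * 10 ≤ 3 ^ p - 1 := by
      rw [hk, mul_assoc]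
      exact Nat.mul_le_mul_left _ (by omega)
    exact_mod_cast this
  have hQ0 : (0 : ℝ) < (3 : ℝ) ^ p - 1 := sub_pos.2 (one_lt_pow₀ (by norm_num) hp.ne_zero)
  have h2 : (v : ℝ) / ((3 : ℝ) ^ p - 1) ≤ 1 / 10 := by
    rw [div_le_div_iff₀ hQ0 (by norm_num)]
    linarith
  have hv23 : (23 : ℝ) ≤ v := by exact_mod_cast (show 23 ≤ v by omega)
  have h3 : (1 : ℝ) / v ≤ 1 / 23 := one_div_le_one_div_of_le (by norm_num) hv23
  linarith

end Cfsg.Agent.Peterfalvi.Sec13
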