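import Cfsg.Agent.Lib.Peterfalvi.Sec13.Hub
import Cfsg.Agent.Lib.Peterfalvi.Sec13.NumericLine
import Cfsg.Agent.Lib.OddOrder.SigmaBasic
import Cfsg.Agent.Lib.OddPrime.Tools

/-!
# Peterfalvi section 13: `U` acts irreducibly on `S_F` (owner: helper38)

* `Side.card_U_eq` : with `C = 1`, `u = |U|`
* `Side.line_facts` : the facts when `U` fixes a line
* `Pair.galois`
-/

set_option autoImplicit false

namespace Cfsg.Agent.Peterfalvi.Sec13

open scoped Pointwise commutatorElement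
open Cfsg Cfsg.Agent OddMax

universe u

variable {G : Type u} [Group G] [Fintype G]

namespace Side

variable {S W₁ U W₂ : Subgroup G} {p q : ℕ} (h : Side S W₁ U W₂ p q)
include h

theorem card_U_eq (hC : cU S U = ⊥) : uIdx S U = Nat.card U := by
  rw [← h.card_U, hC, Subgroup.card_bot, one_mul]

theorem U_comm_of_bot (F9 : Sec9Facts G) (hC : cU S U = ⊥) {a b : G} (ha : a ∈ U) (hb : b ∈ U) :
    a * b = b * a := by
  obtain ⟨hK, -⟩ := h.chiefKernel F9
  obtain ⟨-, -, -, -, hle, -⟩ := F9.factor S W₁ U W₂ ⊥ h.hyp hK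
  rw [h.stab_eq, hC] at hle
  exact (commutatorElement_eq_one_iff_commute.1
    (Subgroup.mem_bot.1 (hle (Subgroup.commutator_mem_commutator ha hb)))).eq

/-- The facts when `U` fixes a line. -/
theorem line_facts (F9 : Sec9Facts G) (hC : cU S U = ⊥)
    (hg : ¬ IsGaloisPair S U (⊥ : Subgroup G)) :
    ∃ (A H₁ : Subgroup G) (m : ℕ), A ≤ U ∧ H₁ ≤ fittingHallOf S ∧ H₁ ≠ ⊥ ∧
      (∀ a ∈ A, ∀ y ∈ H₁, a * y = y * a) ∧ 1 < m ∧ Odd m ∧ m ∣ p - 1 ∧
      Nat.card U ∣ m ^ (q - 1) ∧ Nat.card A * m = Nat.card U ∧ ∀ v ∈ U, v ^ m = 1 := by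
  obtain ⟨hK, hfp⟩ := h.chiefKernel F9
  obtain ⟨H₁, hline, -, hm1, hm, hCiff, hu⟩ := F9.nonGalois_line S W₁ U W₂ ⊥ h.hyp hK hg
  set A := U ⊓ quotStab H₁ (⊥ : Subgroup G)
  set m := A.relIndex U
  rw [hfp] at hm
  rw [h.stab_eq, hC, h.card₁, Subgroup.relIndex_bot_left] at hu
  refine ⟨A, H₁, m, inf_le_left, hline.le_H, fun e => ?_, fun a ha y hy => ?_, hm1,
    (OddSigma.odd_card h.hG U).of_dvd_nat ⟨Nat.card A, by
      rw [mul_comm]; exact (card_mul_relIndex (inf_le_left : A ≤ U)).symm⟩, hm, hu,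
    card_mul_relIndex inf_le_left, fun v hv => ?_⟩
  · have := hline.card
    rw [e, hfp, Subgroup.relIndex_bot_left, Subgroup.card_bot] at this
    exact h.hp.ne_one this.symm
  · have := Subgroup.mem_bot.1 (ha.2.2.2 y hy)
    rw [inv_mul_eq_one, eq_mul_inv_iff_mul_eq] at this
    exact this.symm
  · have hvC : v ^ m ∈ stabC S U (⊥ : Subgroup G) := (hCiff _ (U.pow_mem hv m)).2 fun e he => by
      haveI : (A.subgroupOf U).Normal := ⟨fun n hn g => by
        have : g * n * g⁻¹ = n := by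
          rw [show g * n = n * g from Subtype.ext (h.U_comm_of_bot F9 hC g.2 n.2),
            mul_inv_cancel_right]
        rwa [this]⟩
      have he' : e⁻¹ * v * e ∈ U := by
        simpa using (Subgroup.mem_normalizer_iff.1 (h.hyp.data.U_normal (inv_mem he)) v).1 hv
      have h1 : (⟨e⁻¹ * v * e, he'⟩ : ↥U) ^ m ∈ A.subgroupOf U :=
        Subgroup.pow_index_mem _ _
      rw [Subgroup.mem_subgroupOf, SubmonoidClass.coe_pow] at h1
      have h2 : e⁻¹ * v ^ m * e = (e⁻¹ * v * e) ^ m := by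
        simpa using (conj_pow (a := e⁻¹) (b := v) (i := m)).symm
      rw [h2]
      exact h1.2
    rw [h.stab_eq, hC] at hvC
    exact Subgroup.mem_bot.1 hvC

end Side

namespace Pair

variable {S T W₁ W₂ U V : Subgroup G} {p q : ℕ} (h : Pair S T W₁ W₂ U V p q)
include h

/-- The inequality with `C = 1`. -/
theorem inequality_bot (F9 : Sec9Facts G) [Fintype ↥S] (hC : cU S U = ⊥)
    (hg : ¬ IsGaloisPair S U (⊥ : Subgroup G)) :
    (1 / (p : ℝ)) * (1 - ((uIdx T V : ℝ) / ((q : ℝ) ^ p - 1) + 1 / (uIdx T V : ℝ))) ≤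
      (q : ℝ) * (uIdx S U : ℝ) / ((p : ℝ) ^ q - 1) := by
  obtain ⟨hK, -⟩ := h.left.chiefKernel F9
  have hex : ∃ ξ ∈ thetaSet S U, indFun (hSub S U) ξ ∈ calC S U ∧
      IsIrrCharacter ↥S (indFun (hSub S U) ξ) := by
    rcases F9.reducible_core_cases S W₁ U W₂ ⊥ h.left.hyp hK with
      ⟨χ, hχ, hi, -, hind⟩ | ⟨hgal, -⟩
    · rw [h.left.ker_eq] at hχ
      obtain ⟨ξ, hξ, hξ1, he⟩ : ∃ ξ : ↥(hSub S U) → ℂ, IsIrrCharacter _ ξ ∧ ξ 1 = 1 ∧
          χ = indFun _ ξ := by
        unfold IsIndHC at hind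
        rwa [h.left.hSub_eq] at hind
      subst he
      exact ⟨ξ, h.left.mem_theta hχ hξ hξ1 rfl, hχ, hi⟩
    · exact absurd hgal hg
  have hineq := h.inequality F9 hex
  have h1 : c1 S U = 1 := Nat.dvd_one.1 (by
    have := Side.c1_dvd (S := S) (U := U)
    rwa [hC, Subgroup.card_bot] at this)
  rw [h1, hC, Subgroup.card_bot, Nat.cast_one, mul_one, sub_self, zero_div, add_zero] at hineq
  exact hineq

/-- The exceptional configuration does not occur. -/
theorem no_line_three (F9 : Sec9Facts G)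
    (hfrob : ∀ M : Subgroup G, IsCoatom M → kappa M = ∅ → Sec12.FrobSigma M)
    (hII : IsOfTypeII S) (hC : cU S U = ⊥) {A H₁ : Subgroup G} {m : ℕ} (hAU : A ≤ U)
    (hH₁ : H₁ ≤ fittingHallOf S) (hH₁ne : H₁ ≠ ⊥) (hAH : ∀ a ∈ A, ∀ y ∈ H₁, a * y = y * a)
    (hm1 : 1 < m) (hexp : ∀ v ∈ U, v ^ m = 1) (hAm : Nat.card A * m = Nat.card U)
    (hu : Nat.card U = m ^ 2) (hq : q = 3) (hm : m * 2 = p - 1)
    (hv : Nat.card V * 2 = 3 ^ p - 1) : False := by
  subst hq
  have hG := h.left.hG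
  have F := OddOrder14.sec16 hG
  have hS := h.left.hyp.coatom
  have hd := h.left.decomp hII
  haveI := h.left.U_comm hII
  -- the maximal subgroup over `N(U)`
  obtain ⟨L, hL, hNL⟩ := (eq_top_or_exists_le_coatom _).resolve_left
    (OddSigma.normalizer_ne_top hG h.left.hyp.U_ne
      fun e => hS.1 (top_le_iff.1 (e ▸ h.left.hyp.le_M.2.2.2.2)))
  have hub := h.hub hfrob hII hL hNL
  -- a prime `r` of `m`, the Sylow subgroup of `U` at `r` is not cyclic
  obtain ⟨r, hr, hrm⟩ := Nat.exists_prime_and_dvd hm1.ne'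
  haveI := Fact.mk hr
  have hrU : r ∣ Nat.card U := hu ▸ hrm.trans (dvd_pow_self m two_ne_zero)
  obtain ⟨R⟩ : Nonempty (Sylow r U) := inferInstance
  set R' := (R : Subgroup U).map U.subtype
  have hR'U : R' ≤ U := Subgroup.map_subtype_le _
  have hcardR : Nat.card R' = Nat.card (R : Subgroup U) := Subgroup.card_subtype U _
  obtain ⟨k, hk⟩ := R.2.exists_card_eq
  have hk0 : k ≠ 0 := fun e => by
    have := R.dvd_card_of_dvd_card hrU
    rw [hk, e, pow_zero] at this
    exact hr.not_dvd_one this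
  have hnc : ¬ IsCyclic R' := by
    intro hc
    obtain ⟨g, hg⟩ := hc.exists_ofOrder_eq_natCard
    have h1 : r ^ k ∣ m := by
      rw [← hk, ← hcardR, ← hg, ← Subgroup.orderOf_coe]
      exact orderOf_dvd_of_pow_eq_one (hexp _ (hR'U g.2))
    have h2 : r ^ k * r ^ k ∣ r ^ k * (R : Subgroup U).index := by
      rw [← hk, Subgroup.card_mul_index, hk, hu, pow_two]
      exact Nat.mul_dvd_mul h1 h1
    exact R.not_dvd_index ((dvd_pow_self r hk0).trans
      (Nat.dvd_of_mul_dvd_mul_left (Nat.pow_pos hr.pos) h2))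
  obtain ⟨B, hBR, hBe, hBc⟩ := OddPrime.exists_elementary_of_not_cyclic
    (OddSigma.prime_ne_two hG hrU) (R.2.map U.subtype) hnc
  have hR'S : R' ≤ S := hR'U.trans h.left.hyp.le_M.2.2.2.2
  have hidx : ¬ r ∣ R'.relIndex S := by
    rw [← Subgroup.relIndex_mul_relIndex R' U S hR'U h.left.hyp.le_M.2.2.2.2]
    refine hr.not_dvd_mul (sylow_relIndex R) fun hd' => ?_
    have e1 : Nat.card U * U.relIndex S = Nat.card U * (p ^ 3 * 3) := by
      rw [card_mul_relIndex h.left.hyp.le_M.2.2.2.2, h.left.card_S]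
      ring
    rw [Nat.eq_of_mul_eq_mul_left Nat.card_pos e1] at hd'
    rcases hr.dvd_mul.1 hd' with e | e
    · exact h.left.not_dvd_U.1 ((Nat.prime_dvd_prime_iff_eq hr h.left.hp).1 (hr.dvd_of_dvd_pow e) ▸ hrU)
    · exact h.left.not_dvd_U.2 ((Nat.prime_dvd_prime_iff_eq hr Nat.prime_three).1 e ▸ hrU)
  obtain ⟨PS, hPS⟩ := exists_sylow_eq (R.2.map U.subtype) hR'S hidx
  have hτ : r ∈ tau2 S := by
    refine ⟨hr, (U_primes F.toSec15Facts hS hd hr hrU).1, OddSigma.prankLE_of_sylow PS ?_,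
      fun h1 => ?_⟩
    · rw [hPS]
      exact OddSigma.prankLE_of_equiv (Subgroup.equivMapOfInjective _ U.subtype U.subtype_injective)
        (F.s1358 S hS W₁ U hd r hr R).2
    · have hBS : B ≤ S := hBR.trans hR'S
      have h2 := h1 (B.subgroupOf S)
        ⟨⟨fun a b => Subtype.ext (Subtype.ext (by
          haveI := hBe.1
          show ((a : ↥S) : G) * ((b : ↥S) : G) = ((b : ↥S) : G) * ((a : ↥S) : G)
          exact congrArg Subtype.val
            (mul_comm' (⟨((a : ↥S) : G), a.2⟩ : B) ⟨((b : ↥S) : G), b.2⟩)))⟩⟩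
        fun a ha => Subtype.ext (hBe.2 _ ha)
      rw [Cores.card_subgroupOf hBS, hBc, pow_one, pow_two] at h2
      have := hr.two_le
      nlinarith
  -- the Sylow subgroups of `G` at `r` are abelian
  have hab : ∃ P : Sylow r G, IsMulCommutative (P : Subgroup G) := by
    by_contra hno
    push Not at hno
    obtain ⟨-, ⟨hcardB, -⟩, -⟩ := F.s1419 S hS (U ⊔ W₁) (decomp_compl hd) r hτ hno B
      ⟨hBR.trans (hR'U.trans le_sup_left), hBe, hBc⟩
    have hbot : B ⊓ Subgroup.centralizer (sigmaCore S : Set G) = ⊥ := by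
      rw [h.left.sigmaCore_eq hII, eq_bot_iff, ← hC]
      exact inf_le_inf_right _ (hBR.trans hR'U)
    rw [hbot, Subgroup.card_bot] at hcardB
    exact hr.ne_one hcardB.symm
  obtain ⟨P₀, hP₀⟩ := hab
  -- a bad element of order `r`
  have hrA : r ∣ Nat.card A := by
    rw [hu, pow_two] at hAm
    rwa [Nat.eq_of_mul_eq_mul_right (by omega) hAm]
  obtain ⟨x', hx'⟩ := exists_prime_orderOf_dvd_card' (G := A) r hrA
  set x : G := (x' : G)
  have hxA : x ∈ A := x'.2
  have hxr : orderOf x = r := by rw [← hx', Subgroup.orderOf_coe]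
  have hx1 : x ≠ 1 := fun e => hr.one_lt.ne (by rw [← hxr, e, orderOf_one])
  have hxC : Subgroup.centralizer ({x} : Set G) ≤ S := by
    obtain ⟨y, hy, hy1⟩ := H₁.bot_or_exists_ne_one.resolve_left hH₁ne
    have h1 := (F.s1361 S hS W₁ U hd (Subgroup.zpowers x) (Subgroup.zpowers_le.2 (hAU hxA))
      (fun e => hx1 (Subgroup.zpowers_eq_bot.1 e)) (fun e => hy1 ?_)).1
    · intro c hc
      refine h1 ?_
      rw [Subgroup.mem_centralizer_iff]
      rintro z ⟨i, rfl⟩
      exact (Commute.zpow_left (show Commute x c from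
        (Subgroup.mem_centralizer_singleton_iff.1 hc).symm) i).eq
    · rw [← Subgroup.mem_bot, ← e]
      refine ⟨(h.left.sigmaCore_eq hII).symm ▸ hH₁ hy, ?_⟩
      show y ∈ Subgroup.centralizer (Subgroup.zpowers x : Set G)
      rw [Subgroup.mem_centralizer_iff]
      rintro z ⟨i, rfl⟩
      exact (Commute.zpow_left (show Commute x y from hAH x hxA y hy) i).eq
  -- `L_F = U`
  set N := fittingHallOf L
  have hnil : Group.IsNilpotent N := by
    obtain ⟨K', U', hd'⟩ := exists_decomp F.toSec15Facts hL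
    obtain rfl : K' = ⊥ := (kappa_empty_iff hd').1 hub.kappa_empty
    obtain ⟨-, hn, he⟩ := typeOne_basic hG F hL hd'
    show Group.IsNilpotent (fittingHallOf L)
    rw [he]
    exact hn
  have hxN : x ∈ N := hub.U_le (hAU hxA)
  have hcent : ∀ y ∈ N, y * x = x * y := by
    intro y hy
    obtain ⟨a, b, ha, hb, hab, haπ, hbπ⟩ := exists_pi_parts {r} y
    have haN : a ∈ N := Subgroup.zpowers_le.2 hy ha
    have hbN : b ∈ N := Subgroup.zpowers_le.2 hy hb
    have hca : a * x = x * a := by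
      haveI := hnil
      obtain ⟨QN⟩ : Nonempty (Sylow r N) := inferInstance
      haveI : (QN : Subgroup N).Normal :=
        QN.normal_of_normalizerCondition Group.normalizerCondition_of_isNilpotent
      haveI := Sylow.unique_of_normal QN inferInstance
      have hmem : ∀ z : ↥N, (∃ n, orderOf z = r ^ n) → z ∈ (QN : Subgroup N) := fun z hz => by
        obtain ⟨n, hn⟩ := hz
        obtain ⟨Q', hQ'⟩ :=
          (IsPGroup.of_card (n := n) (by rw [Nat.card_zpowers, hn]) :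
            IsPGroup r (Subgroup.zpowers z)).exists_le_sylow
        rw [Subsingleton.elim QN Q']
        exact hQ' (Subgroup.mem_zpowers z)
      obtain ⟨n, hn⟩ : ∃ n, orderOf a = r ^ n :=
        ⟨_, Nat.eq_prime_pow_of_unique_prime_dvd (orderOf_pos a).ne' fun hd hdd => haπ _ hd hdd⟩
      have h1 := hmem ⟨a, haN⟩ ⟨n, by rw [Subgroup.orderOf_mk, hn]⟩
      have h2 := hmem ⟨x, hxN⟩ ⟨1, by rw [Subgroup.orderOf_mk, hxr, pow_one]⟩
      obtain ⟨P₁, hP₁⟩ := (QN.2.map N.subtype).exists_le_sylow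
      obtain ⟨g, hg⟩ := MulAction.exists_smul_eq G P₁ P₀
      have ha' : g * a * g⁻¹ ∈ (P₀ : Subgroup G) := by
        rw [← hg]; exact Coprime.conj_mem_conj.2 (hP₁ ⟨_, h1, rfl⟩)
      have hx0 : g * x * g⁻¹ ∈ (P₀ : Subgroup G) := by
        rw [← hg]; exact Coprime.conj_mem_conj.2 (hP₁ ⟨_, h2, rfl⟩)
      have e := congrArg Subtype.val (mul_comm' (⟨_, ha'⟩ : (P₀ : Subgroup G)) ⟨_, hx0⟩)
      have e' : g * (a * x) * g⁻¹ = g * (x * a) * g⁻¹ := by
        calc g * (a * x) * g⁻¹ = g * a * g⁻¹ * (g * x * g⁻¹) := by group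
          _ = g * x * g⁻¹ * (g * a * g⁻¹) := e
          _ = _ := by group
      exact mul_left_cancel (mul_right_cancel e')
    have hcb : b * x = x * b := by
      refine congrArg Subtype.val (NilGroup.commute_of_coprime hnil (x := (⟨b, hbN⟩ : N))
        (y := ⟨x, hxN⟩) ?_).eq
      rw [Subgroup.orderOf_mk, Subgroup.orderOf_mk, hxr]
      exact (hr.coprime_iff_not_dvd.2 fun hd' => hbπ r hr hd' rfl).symm
    rw [← hab, mul_assoc, hcb, ← mul_assoc, hca, mul_assoc]
  have hLle : fittingHallOf L ≤ L := OddTypeP.fittingHallOf_le L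
  have hWL : W₁ ≤ L := h.left.W₁_normalizes_U.trans hNL
  have hW₁T : W₁ ≤ fittingHallOf T := h.right.hyp.data.W₂_le.trans inf_le_left
  have hNU' : N = U := by
    refine le_antisymm (fun y hy => ?_) hub.U_le
    have hyU : y ∈ U ⊔ W₁ := hub.inter.le
      ⟨hxC (Subgroup.mem_centralizer_singleton_iff.2 (hcent y hy)), hLle hy⟩
    rw [Coprime.mem_sup_iff h.left.W₁_normalizes_U] at hyU
    obtain ⟨v, hv', w, hw, rfl⟩ := hyU
    have hwN : w ∈ N ⊓ (L ⊓ T) := ⟨by simpa using N.mul_mem (inv_mem (hub.U_le hv')) hy, hWL hw,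
      h.right.P_le (hW₁T hw)⟩
    rw [inf_comm, hub.compl.2.2.1, Subgroup.mem_bot] at hwN
    rw [hwN, mul_one]
    exact hv'
  -- `E = L ∩ T` is `W₁`
  set E := L ⊓ T
  have hEn : E ≤ Subgroup.normalizer (U : Set G) := by
    rw [← hNU']
    exact inf_le_left.trans (le_normalizer_fittingHallOf L)
  have hfpf : Frobenius.FPF E U := fun e he he1 v hv' hc => by
    by_contra hv1
    have h1 : e ∈ E ⊓ fittingHallOf L :=
      ⟨he, hub.frob v (hub.U_le hv') hv1 ⟨he.1, Subgroup.mem_centralizer_singleton_iff.2 hc⟩⟩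
    rw [hub.compl.2.2.1, Subgroup.mem_bot] at h1
    exact he1 h1
  have hprimes : ∀ t : ℕ, t.Prime → t ∣ Nat.card E → t = 3 := by
    intro t ht htE
    haveI := Fact.mk ht
    by_contra ht3
    have hp := h.left.hp
    have ht1 : t ∣ (m - 1) * (m + 1) := by
      have h1 := (Nat.modEq_iff_dvd' (Nat.one_le_iff_ne_zero.2 Nat.card_pos.ne')).1
        (hfpf.card_modEq_one hEn htE).symm
      rwa [hu, show m ^ 2 - 1 = m ^ 2 - 1 ^ 2 by rw [one_pow], Nat.sq_sub_sq, mul_comm] at h1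
    have htp : t < p := by
      rcases ht.dvd_mul.1 ht1 with e | e
      · have := Nat.le_of_dvd (by omega) e; omega
      · have := Nat.le_of_dvd (by omega) e; omega
    have htT : t ∣ Nat.card T := htE.trans (Subgroup.card_dvd_of_le inf_le_right)
    rw [h.right.card_S] at htT
    rcases ht.dvd_mul.1 htT with e | e
    · rcases ht.dvd_mul.1 e with e | e
      · exact ht3 ((Nat.prime_dvd_prime_iff_eq ht Nat.prime_three).1 (ht.dvd_of_dvd_pow e))
      · obtain ⟨-, -, hdiv⟩ := S1546.result 3 p Nat.prime_three hp (by norm_num) h.left.p_ne_two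
        have hp5 : 5 ≤ p := odd_prime_five hp h.left.p_ne_two h.left.ne
        obtain ⟨-, hdiv'⟩ := hdiv (by rw [Nat.mod_eq_of_lt (by omega)]; norm_num)
        have h2 := hdiv' t (e.trans (dvd_of_eq (by
          rw [← hv]; exact (Nat.mul_div_cancel _ two_pos).symm)))
        rw [Nat.mod_eq_of_lt htp] at h2
        exact ht.ne_one h2
    · exact htp.ne ((Nat.prime_dvd_prime_iff_eq ht hp).1 e)
  obtain ⟨n, hn⟩ : ∃ n, Nat.card E = 3 ^ n :=
    ⟨_, Nat.eq_prime_pow_of_unique_prime_dvd Nat.card_pos.ne' fun hd hdd => hprimes _ hd hdd⟩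
  have hEP : E ≤ fittingHallOf T := h.right.le_P_of_pGroup inf_le_right hn
  have hsc := Frobenius.smallCyclic_of_fpf h.left.hyp.U_ne hEn hfpf
  obtain ⟨w, hw, hw1⟩ := W₁.bot_or_exists_ne_one.resolve_left h.left.hyp.data.W₁_ne
  have hEW : E ≤ W₁ := by
    intro e he
    by_cases he1 : e = 1
    · exact he1 ▸ one_mem _
    haveI := Fact.mk Nat.prime_three
    have hwE : w ∈ E := ⟨hWL hw, h.right.P_le (hW₁T hw)⟩
    have h1 := hsc.mem_zpowers_of_orderOf_eq (p := 3) (P := ⊤) (x := (⟨e, he⟩ : ↥E))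
      (y := ⟨w, hwE⟩) ((IsPGroup.of_card hn).to_subgroup ⊤) (Subgroup.mem_top _)
      (Subgroup.mem_top _)
      (orderOf_eq_prime (Subtype.ext (h.right.elem.2 e (hEP he))) fun e' => he1 (congrArg Subtype.val e'))
      (orderOf_eq_prime (Subtype.ext (h.right.elem.2 w (hEP hwE))) fun e' => hw1 (congrArg Subtype.val e'))
    obtain ⟨i, hi⟩ := Subgroup.mem_zpowers_iff.1 h1
    rw [show e = w ^ i from (congrArg Subtype.val hi).symm]
    exact W₁.zpow_mem hw i
  refine hub.not_le (inf_le_left.trans ?_)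
  rw [← compl_eq_sup hub.compl, show fittingHallOf L = U from hNU']
  exact sup_le (hEW.trans h.left.hyp.le_M.2.2.2.1) h.left.hyp.le_M.2.2.2.2

/-- `U` acts irreducibly on `S_F`. -/
theorem galois (F9 : Sec9Facts G)
    (hfrob : ∀ M : Subgroup G, IsCoatom M → kappa M = ∅ → Sec12.FrobSigma M)
    (h11 : ¬ IsOfTypeII S → p < q) (h11' : ¬ IsOfTypeII T → q < p) :
    IsGaloisPair S U (⊥ : Subgroup G) := by
  by_contra hg
  haveI := Fintype.ofFinite ↥S
  have hC := h.cU_eq_bot F9 h11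
  have hD := h.symm.cU_eq_bot F9 h11'
  obtain ⟨A, H₁, m, hAU, hH₁, hH₁ne, hAH, hm1, hmo, hmd, hu, hAm, hexp⟩ :=
    h.left.line_facts F9 hC hg
  have hineq := h.inequality_bot F9 hC hg
  have huU := h.left.card_U_eq hC
  obtain ⟨hq3, hp11, hm2, hueq, hX⟩ := line_numeric h.left.hp h.left.hq h.left.p_ne_two
    h.left.q_ne_two h.left.ne (h.right.uIdx_bound F9) h.right.uIdx_ge hm1 hmo hmd
    (huU.symm ▸ hu) h.left.uIdx_modEq h.left.uIdx_pos hineq
  have hII : IsOfTypeII S := by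
    by_contra hn
    have := h11 hn
    omega
  -- the other side has full order
  obtain ⟨hK', hfp'⟩ := h.right.chiefKernel F9
  have hgT : IsGaloisPair T V (⊥ : Subgroup G) := by
    by_contra hgT
    obtain ⟨-, -, m', -, -, -, -, hm1', hmo', hmd', -⟩ := h.right.line_facts F9 hD hgT
    have := Nat.le_of_dvd (by omega) hmd'
    obtain ⟨k, rfl⟩ := hmo'
    omega
  obtain ⟨K, _, _, f, ψ, σ, -, -, -, -, -, -, -, -, -, hdvd, -⟩ :=
    F9.galois_field T W₂ V W₁ ⊥ h.right.hyp hK' hgT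
  rw [hfp', h.right.stab_eq, h.right.card₁] at hdvd
  subst hq3
  have hfull := full_of_X h.left.hp hp11 h.right.uIdx_ge hdvd (by exact_mod_cast hX)
  rw [show (cU T V).relIndex V = uIdx T V from rfl] at hdvd
  rw [h.right.card_U_eq hD] at hfull
  exact h.no_line_three F9 hfrob hII hC hAU hH₁ hH₁ne hAH hm1 hexp hAm (huU ▸ hueq) rfl hm2 hfull

end Pair

end Cfsg.Agent.Peterfalvi.Sec13
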