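import Cfsg.Agent.Lib.Peterfalvi.Sec13.Bounds
import Cfsg.Agent.Lib.Peterfalvi.Sec12Kernel
import Cfsg.Agent.Lib.OddOrder.TypeOne
import Cfsg.Agent.S1545

/-!
# Peterfalvi section 13: the maximal subgroup over `N(U)` for a side of Type II (owner: helper38)

* `Side.decomp` : `(W₁, U)` is a sigma decomposition of `S`
* `Pair.partner` : `T` is the partner of `S`
* `Pair.hub` : the maximal subgroup over `N(U)` is unique, of empty `κ`, and is `L_F ⋊ (L ∩ T)`
-/

set_option autoImplicit false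

namespace Cfsg.Agent.Peterfalvi.Sec13

open scoped Pointwise commutatorElement
open Cfsg Cfsg.Agent OddMax

universe u

variable {G : Type u} [Group G] [Fintype G]

/-- What is known on the maximal subgroup `L` over `N(U)`. -/
structure HubFacts (S T W₁ U L : Subgroup G) : Prop where
  kappa_empty : kappa L = ∅
  fitting_eq : fittingHallOf L = sigmaCore L
  U_le : U ≤ fittingHallOf L
  inter : S ⊓ L = U ⊔ W₁
  not_le : ¬ L ⊓ Subgroup.normalizer (U : Set G) ≤ S
  W₁_le : W₁ ≤ fittingOf (L ⊓ T)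
  compl : IsComplIn (L ⊓ T) (fittingHallOf L) L
  frob : ∀ x ∈ fittingHallOf L, x ≠ 1 →
    L ⊓ Subgroup.centralizer ({x} : Set G) ≤ fittingHallOf L

namespace Side

variable {S W₁ U W₂ : Subgroup G} {p q : ℕ} (h : Side S W₁ U W₂ p q)
include h

theorem sigmaCore_eq (hII : IsOfTypeII S) : sigmaCore S = fittingHallOf S := by
  have F := OddOrder14.sec16 h.hG
  obtain ⟨K, V, hKV⟩ := exists_decomp F.toSec15Facts h.hyp.coatom
  obtain ⟨hK, hV⟩ := (typeII_iff h.hG F h.hyp.coatom hKV).1 hII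
  exact (fittingHallOf_commutator_eq h.hG F h.hyp.coatom hKV hK hV).1.symm

theorem derived_sup : fittingHallOf S ⊔ U = ⁅S, S⁆ := compl_eq_sup h.hyp.data.U_compl

theorem S_eq_sup : ⁅S, S⁆ ⊔ W₁ = S := compl_eq_sup h.hyp.data.W₁_compl

/-- The data are a sigma decomposition. -/
theorem decomp (hII : IsOfTypeII S) : IsSigmaDecomposition S W₁ U := by
  obtain ⟨U₁, hd, -, -⟩ := exists_decomp_of_typeP h.hG h.hyp.coatom h.hyp.data
  have hσ := h.sigmaCore_eq hII
  refine ⟨hd.cyclic, hd.hall, ⟨h.hyp.le_M.2.2.2.2, sup_le h.hyp.le_M.2.2.2.1 (hσ ▸ h.P_le), ?_,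
    fun m hm => ?_⟩, h.hyp.data.U_normal⟩
  · rw [hσ]
    refine Coprime.inf_eq_bot ?_
    rw [sup_comm, Coprime.card_sup_of_coprime
      (h.hyp.le_M.2.2.2.1.trans (OddTypeP.normal_of_map S)), h.card_P, h.card₁]
    · refine Nat.coprime_of_dvd fun r hr h1 h2 => ?_
      rcases hr.dvd_mul.1 h2 with e | e
      · exact h.not_dvd_U.1 ((Nat.prime_dvd_prime_iff_eq hr h.hp).1 (hr.dvd_of_dvd_pow e) ▸ h1)
      · exact h.not_dvd_U.2 ((Nat.prime_dvd_prime_iff_eq hr h.hq).1 e ▸ h1)
    · rw [h.card_P, h.card₁]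
      exact Nat.Coprime.pow_left q ((Nat.coprime_primes h.hp h.hq).2 h.ne)
  · obtain ⟨d, hd', w, hw, rfl⟩ := h.hyp.data.W₁_compl.2.2.2 m hm
    obtain ⟨a, ha, v, hv, rfl⟩ := h.hyp.data.U_compl.2.2.2 d hd'
    refine ⟨v, hv, v⁻¹ * a * v * w, mul_mem ?_ (Subgroup.mem_sup_left hw), by group⟩
    refine Subgroup.mem_sup_right (hσ.symm ▸ ?_)
    simpa using conj_mem_of_le_normalizer (OddTypeP.normal_of_map S)
      (inv_mem (h.hyp.le_M.2.2.2.2 hv)) ha

theorem U_comm (hII : IsOfTypeII S) : IsMulCommutative U :=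
  ((OddOrder14.sec16 h.hG).s1363 S h.hyp.coatom W₁ U (h.decomp hII) h.hyp.data.W₁_ne).1

theorem U_not_normalized (hII : IsOfTypeII S) : ¬ Subgroup.normalizer (U : Set G) ≤ S :=
  ((OddOrder14.sec16 h.hG).s1363 S h.hyp.coatom W₁ U (h.decomp hII) h.hyp.data.W₁_ne).2

/-- A subgroup of `S` of the order of `U` is conjugate to `U`. -/
theorem exists_conj_U {X : Subgroup G} (hX : X ≤ S) (hc : Nat.card X = Nat.card U) :
    ∃ n ∈ fittingHallOf S, MulAut.conj n • U = X := by
  have hXd : X ≤ fittingHallOf S ⊔ U := by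
    rw [h.derived_sup]
    intro x hx
    refine mem_of_coprime_relIndex (le_normalizer_commutator_self S) (hX hx) ?_
    rw [compl_relIndex_right h.hyp.data.W₁_compl, h.card₁]
    refine ((h.hq.coprime_iff_not_dvd.2 fun hd => h.not_dvd_U.2 ?_)).symm
    exact hc ▸ hd.trans (Subgroup.orderOf_dvd_natCard X hx)
  exact Coprime.exists_conj_eq_of_le_sup (h.hyp.le_M.2.2.2.2.trans (OddTypeP.normal_of_map S))
    h.hyp.coprime_U (Or.inl (Coprime.isSolvable_of_le h.hyp.le_M.2.2.2.2
      (OddSigma.proper_solvable h.hG h.hyp.coatom.1))) hXd hc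

theorem W₁_normalizes_U : W₁ ≤ Subgroup.normalizer (U : Set G) := h.hyp.data.U_normal

/-- `U` is in no conjugate of `S` that contains its normaliser. -/
theorem not_conj_left (hN : ¬ Subgroup.normalizer (U : Set G) ≤ S) (g : G)
    (hg : Subgroup.normalizer (U : Set G) ≤ MulAut.conj g • S) : False := by
  obtain ⟨n, hn, e⟩ := h.exists_conj_U (X := MulAut.conj g⁻¹ • U) (fun x hx => by
    have := hg (Subgroup.le_normalizer (Coprime.mem_conj.1 hx))
    rw [Coprime.mem_conj] at this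
    simpa [mul_assoc] using this) (Coprime.card_conj _ _)
  have hk : g * n ∈ Subgroup.normalizer (U : Set G) := by
    refine Solvable.mem_normalizer_iff_conj.2 ?_
    rw [map_mul, mul_smul, e, map_inv, smul_inv_smul]
  have h1 := hg hk
  rw [Coprime.mem_conj] at h1
  have hgS : g ∈ S := by
    have h2 : n * g ∈ S := by simpa [mul_assoc] using h1
    exact (S.mul_mem_cancel_left (h.P_le hn)).1 h2
  rw [Solvable.conj_eq_self hgS] at hg
  exact hN hg

end Side

namespace Pair

variable {S T W₁ W₂ U V : Subgroup G} {p q : ℕ} (h : Pair S T W₁ W₂ U V p q)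
include h

/-- `T` satisfies the conditions on the partner of `S`. -/
theorem partner : W₁ = sigmaCore T ⊓ Subgroup.centralizer
      ((sigmaCore S ⊓ Subgroup.centralizer (W₁ : Set G) : Subgroup G) : Set G) ∧
    IsPiHallOf (kappa T) (sigmaCore S ⊓ Subgroup.centralizer (W₁ : Set G)) T := by
  obtain ⟨U₁, -, hW₂, -⟩ := exists_decomp_of_typeP h.left.hG h.left.hyp.coatom h.left.hyp.data
  obtain ⟨V₁, hd, hW₁, -⟩ := exists_decomp_of_typeP h.right.hG h.right.hyp.coatom h.right.hyp.data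
  rw [← hW₂]
  exact ⟨hW₁, hd.hall⟩

/-- `U` is in no conjugate of `T` that contains its normaliser. -/
theorem not_conj_right (g : G) (hg : Subgroup.normalizer (U : Set G) ≤ MulAut.conj g • T) :
    False := by
  obtain ⟨w, hw, hw1⟩ := W₁.bot_or_exists_ne_one.resolve_left h.left.hyp.data.W₁_ne
  obtain ⟨u, hu, hu1⟩ := U.bot_or_exists_ne_one.resolve_left h.left.hyp.U_ne
  set X := MulAut.conj g⁻¹ • W₁
  have hX : X ≤ T := fun x hx => by
    have := hg (h.left.W₁_normalizes_U (Coprime.mem_conj.1 hx))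
    rw [Coprime.mem_conj] at this
    simpa [mul_assoc] using this
  have hXP := h.right.le_P_of_pGroup hX (n := 1)
    (by rw [Coprime.card_conj, h.left.card₁, pow_one])
  set w' := g⁻¹ * w * g
  set u' := g⁻¹ * u * g
  have hw' : w' ∈ fittingHallOf T :=
    hXP (Coprime.mem_conj.2 (by simpa [w', mul_assoc] using hw))
  have hu' : u' ∈ T := Coprime.mem_conj.1 (hg (Subgroup.le_normalizer hu))
  set a := w' * u' * w'⁻¹ * u'⁻¹
  have haP : a ∈ fittingHallOf T := by
    rw [show a = w' * (u' * w'⁻¹ * u'⁻¹) by simp only [a]; group]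
    exact mul_mem hw' (conj_mem_of_le_normalizer (OddTypeP.normal_of_map T) hu' (inv_mem hw'))
  have haU : g * a * g⁻¹ ∈ U := by
    rw [show g * a * g⁻¹ = w * u * w⁻¹ * u⁻¹ by simp only [a, w', u']; group]
    exact U.mul_mem ((Subgroup.mem_normalizer_iff.1 (h.left.W₁_normalizes_U hw) u).1 hu) (inv_mem hu)
  have ha1 : a = 1 := by
    have h1 : orderOf a ∣ q ^ p := h.right.card_P ▸ Subgroup.orderOf_dvd_natCard _ haP
    have h2 : orderOf a ∣ Nat.card U := by
      refine dvd_trans (dvd_of_eq ?_) (Subgroup.orderOf_dvd_natCard U haU)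
      exact (orderOf_injective (MulAut.conj g).toMonoidHom (MulAut.conj g).injective a).symm
    exact orderOf_eq_one_iff.1 (Nat.eq_one_of_dvd_coprimes
      (Nat.Coprime.pow_left p (h.left.hq.coprime_iff_not_dvd.2 h.left.not_dvd_U.2)) h1 h2)
  refine hu1 (h.left.hyp.fpf hw hw1 hu ?_)
  have : w * u * w⁻¹ * u⁻¹ = 1 := by
    rw [show w * u * w⁻¹ * u⁻¹ = g * a * g⁻¹ by simp only [a, w', u']; group, ha1]
    group
  exact (commutatorElement_eq_one_iff_commute.1 this).eq

/-- The maximal subgroup over `N(U)`. -/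
theorem hub (hfrob : ∀ M : Subgroup G, IsCoatom M → kappa M = ∅ → Sec12.FrobSigma M)
    (hII : IsOfTypeII S) {L : Subgroup G} (hL : IsCoatom L)
    (hNU : Subgroup.normalizer (U : Set G) ≤ L) : HubFacts S T W₁ U L := by
  have hG := h.left.hG
  have F := OddOrder14.sec16 hG
  have hd := h.left.decomp hII
  have hS := h.left.hyp.coatom
  haveI := h.left.U_comm hII
  obtain ⟨hKst, hhall⟩ := h.partner
  obtain ⟨r, hr, hrU⟩ :=
    Nat.exists_prime_and_dvd (mt Subgroup.card_eq_one.1 h.left.hyp.U_ne)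
  haveI := Fact.mk hr
  obtain ⟨R⟩ : Nonempty (Sylow r U) := inferInstance
  set R' := (R : Subgroup U).map U.subtype
  have hRne : R' ≠ ⊥ := fun e => by
    have h1 := R.dvd_card_of_dvd_card hrU
    rw [← Subgroup.card_subtype U (R : Subgroup U)] at h1
    change r ∣ Nat.card R' at h1
    rw [e, Subgroup.card_bot] at h1
    exact hr.not_dvd_one h1
  haveI : (R : Subgroup U).Characteristic := R.characteristic_of_normal inferInstance
  have hUR : Subgroup.normalizer (U : Set G) ≤ Subgroup.normalizer (R' : Set G) :=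
    Cores.normalizer_le_normalizer_map _
  have hRtop : Subgroup.normalizer (R' : Set G) ≠ ⊤ := OddSigma.normalizer_ne_top hG hRne
    fun e => hS.1 (top_le_iff.1 (e ▸ (Subgroup.map_subtype_le _).trans h.left.hyp.le_M.2.2.2.2))
  obtain ⟨M, hM, hRM⟩ := (eq_top_or_exists_le_coatom _).resolve_left hRtop
  obtain ⟨hκ, hUM, hinter, hnle, hWF, hcompl⟩ :=
    F.s1435 S hS W₁ U hd h.left.hyp.data.W₁_ne h.left.hyp.U_ne T h.right.hyp.coatom hKst hhall r hrU
      R M hM hRM
  obtain ⟨K', U', hd'⟩ := exists_decomp F.toSec15Facts hM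
  obtain rfl : K' = ⊥ := (kappa_empty_iff hd').1 hκ
  obtain ⟨-, hnil, hMeq⟩ := typeOne_basic hG F hM hd'
  suffices hLM : L = M by
    subst hLM
    refine ⟨hκ, hMeq, hMeq ▸ hUM, hinter, hnle, hWF, hMeq ▸ hcompl, ?_⟩
    rw [hMeq]
    exact hfrob L hL hκ
  -- the class of `L`
  have hκL : kappa L = ∅ := by
    by_contra hne
    obtain ⟨g, hg⟩ := F.s1369_classes S hS W₁ U hd h.left.hyp.data.W₁_ne T h.right.hyp.coatom hKst
      hhall L hL (Set.nonempty_iff_ne_empty.2 hne)
    rcases hg with rfl | rfl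
    · exact h.left.not_conj_left (h.left.U_not_normalized hII) g hNU
    · exact h.not_conj_right g hNU
  have hfL := hfrob L hL hκL
  have hUL : U ≤ L := Subgroup.le_normalizer.trans hNU
  have hWL : W₁ ≤ L := h.left.W₁_normalizes_U.trans hNU
  have hLN := le_normalizer_sigmaCore L
  have hRL : R' ≤ L := (Subgroup.map_subtype_le _).trans hUL
  -- `r ∈ σ(L)`
  have hrL : r ∈ sigma L := by
    by_contra hrn
    have hrσ : ¬ r ∣ Nat.card (sigmaCore L) := fun hd => hrn (sigmaCore_pi L r hr hd)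
    obtain ⟨w, hw, hw1⟩ := W₁.bot_or_exists_ne_one.resolve_left h.left.hyp.data.W₁_ne
    have hRW : ∀ e ∈ W₁, ∀ v ∈ R', e * v * e⁻¹ ∈ R' := fun e he v hv =>
      (Subgroup.mem_normalizer_iff.1 (hUR (h.left.W₁_normalizes_U he)) v).1 hv
    have hRfpf : ∀ e ∈ W₁, e ≠ 1 → ∀ v ∈ R', e * v = v * e → v = 1 := fun e he he1 v hv hc =>
      h.left.hyp.fpf he he1 (Subgroup.map_subtype_le _ hv) hc
    by_cases hqσ : q ∣ Nat.card (sigmaCore L)
    · -- then `[W₁, R'] ≤ L_σ`
      have hWσ : W₁ ≤ sigmaCore L := fun e he =>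
        mem_sigmaCore_of_sigma F.toSigFacts hL (hWL he) fun t ht hd => by
          have := (Nat.prime_dvd_prime_iff_eq ht h.left.hq).1
            (h.left.card₁ ▸ hd.trans (Subgroup.orderOf_dvd_natCard W₁ he))
          exact this ▸ sigmaCore_pi L q h.left.hq hqσ
      obtain ⟨v, hv, hv1⟩ := R'.bot_or_exists_ne_one.resolve_left hRne
      refine hv1 (hRfpf w hw hw1 v hv ?_)
      have h1 : w * v * w⁻¹ * v⁻¹ ∈ R' := mul_mem (hRW w hw v hv) (inv_mem hv)
      have h2 : w * v * w⁻¹ * v⁻¹ ∈ sigmaCore L := by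
        rw [show w * v * w⁻¹ * v⁻¹ = w * (v * w⁻¹ * v⁻¹) by group]
        exact mul_mem (hWσ hw) (conj_mem_of_le_normalizer hLN (hRL hv) (inv_mem (hWσ hw)))
      obtain ⟨n, hn⟩ := (R.2.map U.subtype).exists_card_eq
      have h3 : w * v * w⁻¹ * v⁻¹ = 1 := Coprime.eq_one_of_mem_of_mem
        (show (Nat.card R').Coprime (Nat.card (sigmaCore L)) by
          rw [hn]; exact Nat.Coprime.pow_left n (hr.coprime_iff_not_dvd.2 hrσ)) h1 h2
      exact (commutatorElement_eq_one_iff_commute.1 h3).eq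
    · have hcop : (Nat.card (sigmaCore L)).Coprime (Nat.card ↥(R' ⊔ W₁)) := by
        obtain ⟨n, hn⟩ := (R.2.map U.subtype).exists_card_eq
        rw [Coprime.card_sup_of_coprime (fun e he => hUR (h.left.W₁_normalizes_U he))]
        · rw [show Nat.card R' = r ^ n from hn, h.left.card₁]
          exact Nat.Coprime.mul_right (Nat.Coprime.pow_right n (hr.coprime_iff_not_dvd.2 hrσ).symm)
            (h.left.hq.coprime_iff_not_dvd.2 hqσ).symm
        · rw [show Nat.card R' = r ^ n from hn, h.left.card₁]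
          refine Nat.Coprime.pow_left n ((Nat.coprime_primes hr h.left.hq).2 ?_)
          rintro rfl
          exact h.left.not_dvd_U.2 hrU
      have hinf : sigmaCore L ⊓ (R' ⊔ W₁) = ⊥ := Coprime.inf_eq_bot hcop
      have hle : R' ⊔ W₁ ≤ L := sup_le hRL hWL
      have hcent : ∀ X : Subgroup G, X ≤ R' ⊔ W₁ → X ≠ ⊥ →
          sigmaCore L ⊓ Subgroup.centralizer (X : Set G) = ⊥ := fun X hX hX1 => by
        obtain ⟨z, hz, hz1⟩ := X.bot_or_exists_ne_one.resolve_left hX1
        refine (Subgroup.eq_bot_iff_forall _).2 fun y hy => by_contra fun hy1 => hz1 ?_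
        rw [← Subgroup.mem_bot, ← hinf]
        refine ⟨hfL y hy.1 hy1 ⟨hle (hX hz), ?_⟩, hX hz⟩
        exact Subgroup.mem_centralizer_singleton_iff.2 (Subgroup.mem_centralizer_iff.1 hy.2 z hz)
      have key := S1545.result R' W₁ (sigmaCore L) hRne h.left.hyp.data.W₁_ne
        (Subgroup.eq_bot_iff_forall _ |>.2 fun v hv =>
          hRfpf w hw hw1 v hv.1 (Subgroup.mem_centralizer_singleton_iff.1 (by
            haveI := h.left.hyp.data.W₁_cyclic
            rw [Subgroup.mem_centralizer_singleton_iff]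
            exact congrArg Subtype.val (mul_comm' (⟨v, hv.2⟩ : W₁) ⟨w, hw⟩))).symm)
        hRW hRfpf (fun x hx y hy => conj_mem_of_le_normalizer hLN (hle hx) hy) hinf
        (Coprime.isSolvable_of_le (sigmaCore_le L) (OddSigma.proper_solvable hG hL.1)) hcop
      rw [hcent _ le_rfl (fun e => hRne (le_bot_iff.1 (e ▸ le_sup_left))), hcent _ le_sup_left hRne,
        hcent _ le_sup_right h.left.hyp.data.W₁_ne, Subgroup.card_bot, one_pow, one_mul,
        one_mul] at key
      obtain ⟨K₁, U₁, hd₁⟩ := exists_decomp F.toSec15Facts hL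
      exact sigmaCore_ne_bot F.toSec15Facts hL hd₁ (Subgroup.eq_bot_of_card_eq _ key)
  -- so `L` is conjugate to `M`, and equal to it
  have hrM : r ∈ sigma M := sigmaCore_pi M r hr (hrU.trans (Subgroup.card_dvd_of_le hUM))
  obtain ⟨g, hg⟩ := (OddOrder14.upstream hG).bg13_9 M L hM hL ⟨r, hrM, hrL⟩
  by_cases hgM : g ∈ M
  · rw [hg]; exact Solvable.conj_eq_self hgM
  obtain ⟨hcyc, -⟩ := F.s1426_conj M hM g hgM
  rw [← hg] at hcyc
  set D := sigmaCore M ⊓ L
  have hUD : U ≤ D := le_inf hUM hUL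
  have hDtop : D = sigmaCore M := by
    by_contra hne
    haveI := hnil
    have hlt : D.subgroupOf (sigmaCore M) < ⊤ := by
      rw [lt_top_iff_ne_top, Ne, Subgroup.subgroupOf_eq_top]
      exact fun e => hne (le_antisymm inf_le_left e)
    obtain ⟨x, hx, hxn⟩ := SetLike.exists_of_lt (normalizerCondition_of_isNilpotent _ hlt)
    refine hxn (Subgroup.mem_subgroupOf.2 ⟨x.2, hNU ?_⟩)
    have hxD : (x : G) ∈ Subgroup.normalizer (D : Set G) := by
      refine Coprime.mem_normalizer_of_forall fun y hy => ?_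
      exact (Subgroup.mem_normalizer_iff.1 hx ⟨y, hy.1⟩).1 hy
    haveI : (U.subgroupOf D).Characteristic := by
      refine Subgroup.characteristic_iff_map_le.2 fun φ => ?_
      rintro _ ⟨y, hy, rfl⟩
      obtain ⟨m, hm⟩ := MonoidHom.map_cyclic φ.toMonoidHom
      show φ.toMonoidHom y ∈ _
      rw [hm y]
      exact zpow_mem hy m
    have := Cores.normalizer_le_normalizer_map (U.subgroupOf D) hxD
    rwa [Subgroup.map_subgroupOf_eq_of_le hUD] at this
  have hσeq : sigmaCore L = sigmaCore M := by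
    have e : sigmaCore L = MulAut.conj g • sigmaCore M := by rw [hg]; exact sigmaCore_conj g M
    refine (Subgroup.eq_of_le_of_card_ge (fun x hx => ?_) ?_).symm
    · refine mem_sigmaCore_of_sigma F.toSigFacts hL (hDtop.ge hx).2 fun t ht hd => ?_
      rw [hg]
      change t ∈ sigma (MulAut.conj g • M)
      rw [sigma_conj]
      exact sigmaCore_pi M t ht (hd.trans (Subgroup.orderOf_dvd_natCard _ hx))
    · rw [e, Coprime.card_conj]
  have hne : sigmaCore M ≠ ⊥ := fun e => h.left.hyp.U_ne (le_bot_iff.1 (e ▸ hUM))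
  calc L = Subgroup.normalizer (sigmaCore L : Set G) :=
        (normalizer_eq hG hL (hσeq ▸ hne) (sigmaCore_le L) (le_normalizer_sigmaCore L)).symm
    _ = M := by rw [hσeq]; exact normalizer_eq hG hM hne (sigmaCore_le M) (le_normalizer_sigmaCore M)

end Pair

end Cfsg.Agent.Peterfalvi.Sec13
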