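import Cfsg.Agent.Lib.Peterfalvi.Sec13.Avg

/-!
# Peterfalvi section 13: the inequality between the two sides (owner: helper38)

* `uIdx S U` : `u = |U : C|`
* `flipFam η` : the family indexed from the other side
* `SideEta`, `SideLambda` : what is needed from coherence on one side
* `main_inequality`
-/

set_option autoImplicit false

namespace Cfsg.Agent.Peterfalvi.Sec13

open scoped Pointwise commutatorElement ComplexConjugate
open Cfsg Cfsg.Agent OddMax CyclicTI Cfsg.Agent.Char Cfsg.Agent.Coherence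

universe u

variable {G : Type u} [Group G]

/-- `u = |U : C|`. -/
noncomputable def uIdx (S U : Subgroup G) : ℕ := (cU S U).relIndex U

/-- The inclusion between the two orders of the same product. -/
def flipHom (W₁ W₂ : Subgroup G) : ↥(W₁ ⊔ W₂) →* ↥(W₂ ⊔ W₁) :=
  Subgroup.inclusion (sup_comm W₁ W₂).le

/-- The same family indexed by the linear characters of `W₂ ⊔ W₁`. -/
def flipFam {W₁ W₂ : Subgroup G} (η : (↥(W₁ ⊔ W₂) →* ℂˣ) → G → ℂ) :
    (↥(W₂ ⊔ W₁) →* ℂˣ) → G → ℂ :=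
  fun ω => η (ω.comp (flipHom W₁ W₂))

variable [Fintype G]

/-- What a side gives on the family `η`: orthogonality to the rows, and its columns. -/
structure SideEta (S W₁ U W₂ : Subgroup G) (q : ℕ) [Fintype ↥S]
    (η : (↥(W₁ ⊔ W₂) →* ℂˣ) → G → ℂ) : Prop where
  orth : ∀ φ : ↥(W₁ ⊔ W₂) →* ℂˣ, (∀ w : ↥(W₁ ⊔ W₂), (w : G) ∈ W₂ → φ w = 1) → φ ≠ 1 →
    ∀ θ ∈ thetaSet S U, ∀ θ' ∈ thetaSet S U,
      classInner (η φ) (indFun S (indFun (hSub S U) θ - indFun (hSub S U) θ')) = 0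
  col : ∀ ψ : ↥(W₁ ⊔ W₂) →* ℂˣ, (∀ w : ↥(W₁ ⊔ W₂), (w : G) ∈ W₁ → ψ w = 1) → ψ ≠ 1 →
    ∃ ξ ∈ thetaSet S U, ∃ ε : ℂ, (ε = 1 ∨ ε = -1) ∧
      classInner (indFun (hSub S U) ξ) (indFun (hSub S U) ξ) = (q : ℕ) ∧
      ∀ α ∈ zspanOn (calC S U) {1}ᶜ, (∀ s : ↥S, s ∉ hSub S U → α s = 0) →
        classInner (η ψ) (indFun S α) = ε / q * classInner (indFun (hSub S U) ξ) α

/-- What a side gives with an irreducible member of degree `u q`. -/
structure SideLambda (S W₁ U W₂ : Subgroup G) [Fintype ↥S]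
    (η : (↥(W₁ ⊔ W₂) →* ℂˣ) → G → ℂ) (f : G → ℂ) : Prop where
  signed : IsSignedIrr G f
  see : ∃ ξ ∈ thetaSet S U, classInner (indFun (hSub S U) ξ) (indFun (hSub S U) ξ) = 1 ∧
    ∀ α ∈ zspanOn (calC S U) {1}ᶜ, (∀ s : ↥S, s ∉ hSub S U → α s = 0) →
      classInner f (indFun S α) = classInner (indFun (hSub S U) ξ) α
  off : ∃ ψ : ↥(W₁ ⊔ W₂) →* ℂˣ, ¬ SameCol ψ 1 ∧ ∃ ε : ℂ, (ε = 1 ∨ ε = -1) ∧
    ∀ g : G, (∀ x : G, x * g * x⁻¹ ∉ hS S U) → f g = ε * ∑ π ∈ colClass ψ, η π g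

namespace Side

variable {S W₁ U W₂ : Subgroup G} {p q : ℕ} (h : Side S W₁ U W₂ p q)
include h

theorem card_U : Nat.card (cU S U) * uIdx S U = Nat.card U := card_mul_relIndex h.C_le.1

theorem uIdx_pos : 0 < uIdx S U := Nat.pos_of_ne_zero fun e => by
  have := h.card_U
  rw [e, mul_zero] at this
  exact Nat.card_pos.ne' this.symm

theorem index_hSub : (hSub S U).index = uIdx S U * q := by
  have h1 := Subgroup.card_mul_index (hSub S U)
  rw [Nat.card_congr (Subgroup.subgroupOfEquivOfLe h.H_le).toEquiv, h.card_H, h.card_S,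
    ← h.card_U] at h1
  refine Nat.eq_of_mul_eq_mul_left (Nat.mul_pos (Nat.pow_pos (n := q) h.hp.pos) (Nat.card_pos (α := cU S U))) ?_
  rw [h1]
  ring

theorem c1_pos : 0 < c1 S U := Nat.pos_of_ne_zero (Subgroup.index_ne_zero_of_finite)

open Classical in
theorem piece_one :
    pieceSq ((hS S U : Set G) \ {1}) S (fun _ => 1) =
      ((p : ℝ) ^ q * Nat.card (cU S U) - 1) / ((p : ℝ) ^ q * Nat.card U * q) := by
  rw [pieceSq_one, h.card_S]
  have he : ((Finset.univ : Finset ↥S).filter (fun a : ↥S => (a : G) ∈ (hS S U : Set G) \ {1})).card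
      = p ^ q * Nat.card (cU S U) - 1 := by
    rw [← h.card_H, ← Nat.card_congr (Subgroup.subgroupOfEquivOfLe h.H_le).toEquiv]
    rw [show ((Finset.univ : Finset ↥S).filter (fun a : ↥S => (a : G) ∈ (hS S U : Set G) \ {1})) =
      ((Finset.univ : Finset ↥S).filter (fun a : ↥S => a ∈ hSub S U)).erase 1 by
        ext a; simp [hSub, Subgroup.mem_subgroupOf, and_comm]]
    rw [Finset.card_erase_of_mem (by simp), ← Fintype.card_subtype, ← Nat.card_eq_fintype_card]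
  refine Eq.trans (congrArg (fun n : ℕ => (n : ℝ) / ((p ^ q * Nat.card U * q : ℕ) : ℝ)) (Eq.trans ?_ he)) ?_
  · congr 1; ext; simp
  rw [Nat.cast_sub (Nat.one_le_iff_ne_zero.2 (Nat.mul_ne_zero (pow_ne_zero _ h.hp.ne_zero)
    Nat.card_pos.ne'))]
  push_cast
  rfl

/-- `side_bound` for the piece `H ∖ 1`. -/
theorem piece_bound [Fintype ↥S] {x : G → ℂ} (hx : IsClassFunction G x) {ξ : ↥(hSub S U) → ℂ}
    (hξ : ξ ∈ thetaSet S U) (c : ℂ) {n : ℕ}
    (hn : classInner (indFun (hSub S U) ξ) (indFun (hSub S U) ξ) = n)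
    (hsee : ∀ α ∈ zspanOn (calC S U) {1}ᶜ, (∀ s : ↥S, s ∉ hSub S U → α s = 0) →
      classInner x (indFun S α) = c * classInner (indFun (hSub S U) ξ) α) :
    ‖c‖ ^ 2 * ((n : ℝ) - (uIdx S U * q : ℕ) / ((p ^ q - 1) * c1 S U : ℕ)) ≤
      pieceSq ((hS S U : Set G) \ {1}) S x := by
  classical
  haveI := h.hSub_normal
  haveI := Fintype.ofFinite ↥(hSub S U)
  have hb := side_bound S (hSub S U) (thetaSet S U) (fun θ hθ => (h.theta_irr θ hθ).1)
    (fun θ hθ => (h.theta_irr θ hθ).2) h.theta_closed (calC S U) h.ind_theta_mem hξ hx c hsee hn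
    ((Finset.univ : Finset ↥S).filter (fun a : ↥S => (a : G) ∈ (hS S U : Set G) \ {1}))
    (fun s hs hs1 => Finset.mem_filter.2 ⟨Finset.mem_univ _, hs, fun e => hs1 (Subtype.ext e)⟩)
  rw [h.index_hSub] at hb
  refine le_trans (mul_le_mul_of_nonneg_left (sub_le_sub_left ?_ _) (sq_nonneg _)) (le_trans hb ?_)
  · refine div_le_div_of_nonneg_left (Nat.cast_nonneg _) ?_ (by exact_mod_cast h.card_theta)
    have : 0 < (p ^ q - 1) * c1 S U :=
      Nat.mul_pos (Nat.sub_pos_of_lt (Nat.one_lt_pow h.hq.ne_zero h.hp.one_lt)) h.c1_pos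
    exact_mod_cast this
  · unfold pieceSq
    convert le_rfl using 3
    ext; simp

end Side

theorem flipFam_apply {W₁ W₂ : Subgroup G} (η : (↥(W₁ ⊔ W₂) →* ℂˣ) → G → ℂ)
    (φ : ↥(W₁ ⊔ W₂) →* ℂˣ) : flipFam η (φ.comp (flipHom W₂ W₁)) = η φ := by
  unfold flipFam
  congr 1

/-- The inequality. -/
theorem main_inequality {S T W₁ W₂ U V : Subgroup G} {p q : ℕ} (h : Pair S T W₁ W₂ U V p q)
    [Fintype ↥S] [Fintype ↥T] {η : (↥(W₁ ⊔ W₂) →* ℂˣ) → G → ℂ} (hη : IsCyclicTIFamily W₁ W₂ η)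
    (hSe : SideEta S W₁ U W₂ q η) (hTe : SideEta T W₂ V W₁ p (flipFam η)) {f : G → ℂ}
    (hf : SideLambda S W₁ U W₂ η f) :
    (1 / (p : ℝ)) * (1 - ((uIdx T V : ℝ) / ((q : ℝ) ^ p - 1) + 1 / (uIdx T V : ℝ))) ≤
      (q : ℝ) * (uIdx S U : ℝ) / (((p : ℝ) ^ q - 1) * (c1 S U : ℝ)) +
        ((Nat.card (cU S U) : ℝ) - 1) /
          ((p : ℝ) ^ q * (Nat.card (cU S U) : ℝ) * (uIdx S U : ℝ) * q) := by
  classical
  have hP := isPair_of_selfNormalizing h.hW
  have hc := comm_of_selfNormalizing h.hW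
  have hodd : Odd (Nat.card ↥(W₁ ⊔ W₂)) := OddSigma.odd_card h.left.hG _
  -- a row character
  obtain ⟨φ, hφ, hφ1⟩ : ∃ φ : ↥(W₁ ⊔ W₂) →* ℂˣ,
      (∀ w : ↥(W₁ ⊔ W₂), (w : G) ∈ W₂ → φ w = 1) ∧ φ ≠ 1 := by
    haveI := finite_lin ↥(W₁ ⊔ W₂)
    have h1 : 1 < Nat.card {φ : ↥(W₁ ⊔ W₂) →* ℂˣ // ∀ w : ↥(W₁ ⊔ W₂), (w : G) ∈ W₂ → φ w = 1} := by
      rw [card_lin_factor₁ hP hc, h.left.card₁]
      exact h.left.hq.one_lt
    haveI := Finite.one_lt_card_iff_nontrivial.1 h1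
    obtain ⟨x, hx⟩ := exists_ne (⟨1, fun _ _ => rfl⟩ :
      {φ : ↥(W₁ ⊔ W₂) →* ℂˣ // ∀ w : ↥(W₁ ⊔ W₂), (w : G) ∈ W₂ → φ w = 1})
    exact ⟨x.1, x.2, fun e => hx (Subtype.ext e)⟩
  have hφq := trivial₂_pow_card hP hφ
  rw [h.left.card₁] at hφq
  have hηφ : IsSignedIrr G (η φ) := hη.irr_or_neg φ
  have hcl : IsClassFunction G (η φ) := isGC_isClassFunction (isGC_signed hηφ)
  -- the piece at `S`
  obtain ⟨ξ, hξ, hξn, hξsee⟩ := hf.see
  have e1 := h.left.piece_bound (isGC_isClassFunction (isGC_signed hf.signed)) hξ 1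
    (n := 1) (by rw [hξn, Nat.cast_one]) (fun α hα hs => by rw [hξsee α hα hs, one_mul])
  have e2 := h.left.avg_bound hηφ (hSe.orth φ hφ hφ1) (fun a ha ha1 b hb hb1 => by
    have hm : a * b ∈ W₁ ⊔ W₂ := mul_mem (Subgroup.mem_sup_right ha) (Subgroup.mem_sup_left hb)
    have n1 : a * b ∉ W₁ := fun e => ha1 (by
      have : a ∈ W₁ ⊓ W₂ := ⟨by simpa using mul_mem e (inv_mem hb), ha⟩
      rwa [hP.disj, Subgroup.mem_bot] at this)
    have n2 : a * b ∉ W₂ := fun e => hb1 (by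
      have : b ∈ W₁ ⊓ W₂ := ⟨hb, by simpa using mul_mem (inv_mem ha) e⟩
      rwa [hP.disj, Subgroup.mem_bot] at this)
    rw [hη.eq_on φ ⟨a * b, hm⟩ n1 n2, ← Units.val_pow_eq_pow_val, ← MonoidHom.pow_apply, hφq]
    simp)
  -- the piece at `T`
  obtain ⟨ξ', hξ', ε', hε', hξn', hξsee'⟩ := hTe.col (φ.comp (flipHom W₂ W₁))
    (fun w hw => hφ _ hw) (fun e => hφ1 (MonoidHom.ext fun w => by
      have := DFunLike.congr_fun e (flipHom W₁ W₂ w)
      exact this))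
  have e3 := h.right.piece_bound hcl hξ' (ε' / p) (n := p) hξn' (fun α hα hs => by
    rw [← hξsee' α hα hs, flipFam_apply])
  -- the piece `W^`
  set Wh : Set G := {w | w ∈ W₁ ⊔ W₂ ∧ w ∉ W₁ ∧ w ∉ W₂}
  have e4 : pieceSq Wh (W₁ ⊔ W₂) (η φ) = pieceSq Wh (W₁ ⊔ W₂) (fun _ => 1) := by
    unfold pieceSq
    congr 1
    refine Finset.sum_congr rfl fun w hw => ?_
    simp only [Finset.mem_filter, Finset.mem_univ, true_and] at hw
    obtain ⟨-, n1, n2⟩ := hw
    have hwq : (φ w : ℂ) ^ q = 1 := by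
      rw [← Units.val_pow_eq_pow_val, ← MonoidHom.pow_apply, hφq]
      simp
    rw [hη.eq_on φ w n1 n2, norm_one, Complex.norm_eq_one_of_pow_eq_one hwq h.left.hq.ne_zero]
  -- the three pieces
  have key := three_piece_bound h.left.piece h.right.piece h.pieceW
    (fun g a ha hb => h.disjoint_T ha.1 ha.2 hb.1) (fun g a ha hb => h.disjoint_W ha.1 hb)
    (fun g b hb hw => h.symm.disjoint_W hb.1
      (g := g) ⟨by rw [sup_comm]; exact hw.1, hw.2.2, hw.2.1⟩) hf.signed hηφ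
    (fun g hg1 hg => by
      obtain ⟨g', hg', hzp, k, hk⟩ := exists_regular_part h.left.hq g
      obtain ⟨-, hout⟩ := h.regular_part hg1 hk hzp hg' (fun x => (hg x).1) (fun x => (hg x).2.1)
        (fun x => (hg x).2.2)
      obtain ⟨ψ, hψ, ε, hε, hfg⟩ := hf.off
      refine ne_zero_or_ne_zero h.hW hodd hη h.left.hq h.left.card₁ hg' hk (fun F hF => ?_) hψ
        hf.signed hε (hfg g' hout) hφ hφ1
      rw [indFun, Finset.sum_eq_zero (fun y _ => ?_), mul_zero]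
      rw [extendByZero_eq]
      split_ifs with hy
      · refine hF _ ?_
        by_contra hno
        push Not at hno
        refine hg' ?_
        have ho : orderOf (y⁻¹ * g' * y) = orderOf g' := by
          have := MulEquiv.orderOf_eq (MulAut.conj y⁻¹) g'
          simpa using this
        rw [← ho]
        obtain ⟨a, ha, b, hb, hab⟩ := hP.exists_mul hy
        have ha1 : a ≠ 1 := fun e => hno.2 (by
          show y⁻¹ * g' * y ∈ W₂
          rw [← hab, e, one_mul]; exact hb)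
        rw [← hab, (show Commute a b from hP.comm a ha b hb).orderOf_mul_eq_mul_orderOf_of_coprime]
        · refine dvd_mul_of_dvd_left ?_ _
          have := Subgroup.orderOf_dvd_natCard _ ha
          rw [h.left.card₁] at this
          rcases (Nat.dvd_prime h.left.hq).1 this with e | e
          · exact absurd (orderOf_eq_one_iff.1 e) ha1
          · rw [e]
        · refine ((Nat.coprime_primes h.left.hq h.left.hp).2 (Ne.symm h.left.ne)).coprime_dvd_left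
            (h.left.card₁ ▸ Subgroup.orderOf_dvd_natCard _ ha) |>.coprime_dvd_right
            (h.left.card₂ ▸ Subgroup.orderOf_dvd_natCard _ hb)
      · rfl)
  rw [h.left.piece_one, h.right.piece_one, e4] at key
  -- arithmetic
  have hpR : (0 : ℝ) < p := Nat.cast_pos.2 h.left.hp.pos
  have hqR : (0 : ℝ) < q := Nat.cast_pos.2 h.left.hq.pos
  have hPR : (1 : ℝ) < (p : ℝ) ^ q := one_lt_pow₀ (by exact_mod_cast h.left.hp.one_lt) h.left.hq.ne_zero
  have hQR : (1 : ℝ) < (q : ℝ) ^ p := one_lt_pow₀ (by exact_mod_cast h.left.hq.one_lt) h.left.hp.ne_zero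
  have hu : (0 : ℝ) < uIdx S U := Nat.cast_pos.2 h.left.uIdx_pos
  have hv : (0 : ℝ) < uIdx T V := Nat.cast_pos.2 h.right.uIdx_pos
  have hcR : (0 : ℝ) < Nat.card (cU S U) := Nat.cast_pos.2 Nat.card_pos
  have hdR : (0 : ℝ) < Nat.card (cU T V) := Nat.cast_pos.2 Nat.card_pos
  have hc1 : (1 : ℝ) ≤ c1 S U := by exact_mod_cast h.left.c1_pos
  have hd1 : (1 : ℝ) ≤ c1 T V := by exact_mod_cast h.right.c1_pos
  have hU : ((Nat.card U : ℕ) : ℝ) = (Nat.card (cU S U) : ℝ) * uIdx S U := by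
    rw [← h.left.card_U, Nat.cast_mul]
  have hV : ((Nat.card V : ℕ) : ℝ) = (Nat.card (cU T V) : ℝ) * uIdx T V := by
    rw [← h.right.card_U, Nat.cast_mul]
  have hn : ‖ε' / (p : ℂ)‖ = 1 / (p : ℝ) := by
    rw [norm_div, Complex.norm_natCast]
    rcases hε' with rfl | rfl <;> simp
  have hcast : ∀ a n : ℕ, 0 < a → ((a ^ n - 1 : ℕ) : ℝ) = (a : ℝ) ^ n - 1 := fun a n ha => by
    rw [Nat.cast_sub (Nat.one_le_pow _ _ ha), Nat.cast_pow, Nat.cast_one]
  simp only [norm_one, one_pow, one_mul, Nat.cast_one, Nat.cast_mul, hcast p q h.left.hp.pos] at e1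
  simp only [hn, Nat.cast_mul, hcast q p h.left.hq.pos] at e3
  rw [hU] at e2 key
  rw [hV] at key
  set P := (p : ℝ) ^ q
  set Q := (q : ℝ) ^ p
  set u := (uIdx S U : ℝ)
  set v := (uIdx T V : ℝ)
  set c := (Nat.card (cU S U) : ℝ)
  set d := (Nat.card (cU T V) : ℝ)
  have e3' : (1 / (p : ℝ)) * (1 - v / (Q - 1)) ≤ (1 / (p : ℝ)) ^ 2 * ((p : ℝ) - v * p / ((Q - 1) * (c1 T V : ℝ))) := by
    have h1 : v * p / ((Q - 1) * (c1 T V : ℝ)) ≤ v * p / (Q - 1) := by
      refine div_le_div_of_nonneg_left (by positivity) (by linarith) ?_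
      nlinarith
    have h2 : (1 / (p : ℝ)) * (1 - v / (Q - 1)) = (1 / (p : ℝ)) ^ 2 * ((p : ℝ) - v * p / (Q - 1)) := by
      field_simp
    rw [h2]
    exact mul_le_mul_of_nonneg_left (by linarith) (sq_nonneg _)
  have hT1 : (Q * d - 1) / (Q * (d * v) * p) ≤ 1 / (v * p) := by
    rw [show 1 / (v * p) = (Q * d) / (Q * (d * v) * p) by field_simp]
    exact div_le_div_of_nonneg_right (by linarith) (by positivity)
  have hS1 : (P * c - 1) / (P * (c * u) * q) - (P - 1) / (P * (c * u) * q) * c =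
      (c - 1) / (P * c * u * q) := by
    field_simp
    ring
  have hgoal : (1 / (p : ℝ)) * (1 - (v / (Q - 1) + 1 / v)) =
      (1 / (p : ℝ)) * (1 - v / (Q - 1)) - 1 / (v * p) := by
    field_simp
    ring
  have hu' : u * q / ((P - 1) * (c1 S U : ℝ)) = (q : ℝ) * u / ((P - 1) * (c1 S U : ℝ)) := by
    rw [mul_comm u]
  rw [hgoal]
  linarith

end Cfsg.Agent.Peterfalvi.Sec13
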