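import Cfsg.Agent.Lib.Peterfalvi.Sec13.Structure
import Cfsg.Agent.Lib.OddOrder14.Partner

/-!
# Peterfalvi section 13: `N(W₁)` and the complement in `L` (owner: helper38)

* `Pair.normalizer_W₁` : `N(W₁) = C(W₁) = T_F W₂`
* `Pair.hub_statement` : `L = L_F ⋊ W₁` or `L_F ⋊ W₁ W₂^y`
-/

set_option autoImplicit false

namespace Cfsg.Agent.Peterfalvi.Sec13

open scoped Pointwise commutatorElement
open Cfsg Cfsg.Agent OddMax

universe u

variable {G : Type u} [Group G] [Fintype G]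

namespace Pair

variable {S T W₁ W₂ U V : Subgroup G} {p q : ℕ} (h : Pair S T W₁ W₂ U V p q) (F9 : Sec9Facts G)
  (F11 : Sec11Facts G)
  (hfrob : ∀ M : Subgroup G, IsCoatom M → kappa M = ∅ → Sec12.FrobSigma M)
include h

theorem W₁_le_Q : W₁ ≤ fittingHallOf T := h.right.hyp.data.W₂_le.trans inf_le_left

theorem comm_W {a b : G} (ha : a ∈ W₁) (hb : b ∈ W₂) : a * b = b * a := h.hW.2.2.2.1 a ha b hb

theorem normalizer_le_T : Subgroup.normalizer (W₁ : Set G) ≤ T := by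
  have hG := h.left.hG
  have F := OddOrder14.sec16 hG
  obtain ⟨U₁, hd, -, -⟩ := exists_decomp_of_typeP hG h.left.hyp.coatom h.left.hyp.data
  obtain ⟨hKst, hhall⟩ := h.partner
  obtain ⟨h1, h2⟩ := (F.s1367 S h.left.hyp.coatom W₁ U₁ hd h.left.hyp.data.W₁_ne T
    h.right.hyp.coatom hKst hhall).2 W₁ le_rfl (h.left.card₁ ▸ h.left.hq)
  exact OddOrder14.normalizer_le_of_unique (OddOrder14.upstream hG) h.right.hyp.coatom h1 h2

include F9 F11 hfrob

/-- `N(W₁) = C(W₁) = T_F W₂`. -/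
theorem normalizer_W₁ : Subgroup.normalizer (W₁ : Set G) = Subgroup.centralizer (W₁ : Set G) ∧
    Subgroup.centralizer (W₁ : Set G) = fittingHallOf T ⊔ W₂ := by
  obtain ⟨-, -, hfpf⟩ := h.symm.galois_side F9 F11 hfrob
  obtain ⟨w, hw, hw1⟩ := W₁.bot_or_exists_ne_one.resolve_left h.left.hyp.data.W₁_ne
  obtain ⟨b₀, hb₀, hb₀1⟩ := W₂.bot_or_exists_ne_one.resolve_left h.right.hyp.data.W₁_ne
  have hle : fittingHallOf T ⊔ W₂ ≤ Subgroup.centralizer (W₁ : Set G) :=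
    sup_le (fun x hx => Subgroup.mem_centralizer_iff.2 fun a ha =>
        h.right.P_comm (h.W₁_le_Q ha) hx)
      fun b hb => Subgroup.mem_centralizer_iff.2 fun a ha => h.comm_W ha hb
  have key : ∀ g ∈ Subgroup.normalizer (W₁ : Set G), g ∈ fittingHallOf T ⊔ W₂ := by
    intro g hg
    obtain ⟨d, hd, b, hb, rfl⟩ := h.right.hyp.data.W₁_compl.2.2.2 g (h.normalizer_le_T hg)
    obtain ⟨x, hx, v, hv, rfl⟩ := h.right.hyp.data.U_compl.2.2.2 d hd
    have hxN : x ∈ Subgroup.normalizer (W₁ : Set G) :=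
      Subgroup.centralizer_le_normalizer _ (hle (Subgroup.mem_sup_left hx))
    have hbN : ∀ {b}, b ∈ W₂ → b ∈ Subgroup.normalizer (W₁ : Set G) := fun hb =>
      Subgroup.centralizer_le_normalizer _ (hle (Subgroup.mem_sup_right hb))
    have hvN : v ∈ Subgroup.normalizer (W₁ : Set G) := by
      have := mul_mem (mul_mem (inv_mem hxN) hg) (inv_mem (hbN hb))
      simpa [mul_assoc] using this
    -- `b₀` fixes `v`
    have hv' : b₀ * v * b₀⁻¹ ∈ V :=
      (Subgroup.mem_normalizer_iff.1 (h.right.W₁_normalizes_U hb₀) v).1 hv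
    set z := v⁻¹ * (b₀ * v * b₀⁻¹)
    have hz : z * w = w * z := by
      have hc : ∀ a ∈ W₁, b₀⁻¹ * a * b₀ = a := fun a ha => by
        rw [mul_assoc, h.comm_W ha hb₀, inv_mul_cancel_left]
      have hvw : v * w * v⁻¹ ∈ W₁ := (Subgroup.mem_normalizer_iff.1 hvN w).1 hw
      have e1 : b₀ * v * b₀⁻¹ * w = v * w * v⁻¹ * (b₀ * v * b₀⁻¹) := by
        have e2 : b₀ * (v * w * v⁻¹) = v * w * v⁻¹ * b₀ := (h.comm_W hvw hb₀).symm
        calc b₀ * v * b₀⁻¹ * w = b₀ * v * (b₀⁻¹ * w * b₀) * b₀⁻¹ := by group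
          _ = b₀ * (v * w * v⁻¹) * (v * b₀⁻¹) := by rw [hc w hw]; group
          _ = v * w * v⁻¹ * b₀ * (v * b₀⁻¹) := by rw [e2]
          _ = _ := by group
      calc z * w = v⁻¹ * (b₀ * v * b₀⁻¹ * w) := by simp only [z]; group
        _ = v⁻¹ * (v * w * v⁻¹ * (b₀ * v * b₀⁻¹)) := by rw [e1]
        _ = w * z := by simp only [z]; group
    have hz1 : z = 1 := by_contra fun hne => hw1
      (hfpf z (mul_mem (inv_mem hv) hv') hne w (h.W₁_le_Q hw) hz)
    have hv1 : v = 1 := by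
      refine h.right.hyp.fpf hb₀ hb₀1 hv ?_
      have e : b₀ * v * b₀⁻¹ = v := by
        simp only [z] at hz1
        exact (inv_mul_eq_one.1 hz1).symm
      exact mul_inv_eq_iff_eq_mul.1 e
    rw [hv1, mul_one]
    exact Subgroup.mul_mem_sup hx hb
  have hC := le_antisymm (fun c hc => key c (Subgroup.centralizer_le_normalizer _ hc)) hle
  exact ⟨le_antisymm (fun g hg => hC.symm ▸ key g hg) (Subgroup.centralizer_le_normalizer _), hC⟩

/-- The maximal subgroup over `N(U)`, with its complement. -/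
theorem hub_statement (hII : IsOfTypeII S) {L : Subgroup G} (hL : IsCoatom L)
    (hNU : Subgroup.normalizer (U : Set G) ≤ L) :
    (∀ x ∈ fittingHallOf L, x ≠ 1 → L ⊓ Subgroup.centralizer ({x} : Set G) ≤ fittingHallOf L) ∧
      U ≤ fittingHallOf L ∧
      ((fittingHallOf L ⊓ W₁ = ⊥ ∧ fittingHallOf L ⊔ W₁ = L) ∨
        ∃ y ∈ fittingHallOf T,
          fittingHallOf L ⊓ (W₁ ⊔ W₂.map (MulAut.conj y).toMonoidHom) = ⊥ ∧
          fittingHallOf L ⊔ (W₁ ⊔ W₂.map (MulAut.conj y).toMonoidHom) = L) := by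
  have hub := h.hub hfrob hII hL hNU
  refine ⟨hub.frob, hub.U_le, ?_⟩
  set E := L ⊓ T
  set Q := fittingHallOf T
  have hWQ := h.W₁_le_Q
  have hWE : W₁ ≤ E := le_inf (h.left.W₁_normalizes_U.trans hNU) (hWQ.trans h.right.P_le)
  have hEn : E ≤ Subgroup.normalizer (fittingHallOf L : Set G) :=
    inf_le_left.trans (le_normalizer_fittingHallOf L)
  have hfpf : Frobenius.FPF E (fittingHallOf L) := fun e he he1 v hv hc => by
    by_contra hv1
    have h1 : e ∈ E ⊓ fittingHallOf L :=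
      ⟨he, hub.frob v hv hv1 ⟨he.1, Subgroup.mem_centralizer_singleton_iff.2 hc⟩⟩
    rw [hub.compl.2.2.1, Subgroup.mem_bot] at h1
    exact he1 h1
  have hUne : fittingHallOf L ≠ ⊥ := fun e => h.left.hyp.U_ne (le_bot_iff.1 (e ▸ hub.U_le))
  have hsc := Frobenius.smallCyclic_of_fpf hUne hEn hfpf
  obtain ⟨w, hw, hw1⟩ := W₁.bot_or_exists_ne_one.resolve_left h.left.hyp.data.W₁_ne
  haveI := Fact.mk h.left.hq
  have hEQ : E ⊓ Q ≤ W₁ := by
    intro e he
    by_cases he1 : e = 1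
    · exact he1 ▸ one_mem _
    obtain ⟨n, hn⟩ :=
      ((IsPGroup.of_card h.right.card_P : IsPGroup q Q).to_le (inf_le_right : E ⊓ Q ≤ Q)).exists_card_eq
    have hPg : IsPGroup q ((E ⊓ Q).subgroupOf E) :=
      IsPGroup.of_card (n := n) (by rw [Cores.card_subgroupOf inf_le_left, hn])
    have h1 := hsc.mem_zpowers_of_orderOf_eq (p := q) hPg
      (x := (⟨e, he.1⟩ : ↥E)) (y := ⟨w, hWE hw⟩) he ⟨hWE hw, hWQ hw⟩
      (orderOf_eq_prime (Subtype.ext (h.right.elem.2 e he.2)) fun e' => he1 (congrArg Subtype.val e'))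
      (orderOf_eq_prime (Subtype.ext (h.right.elem.2 w (hWQ hw))) fun e' => hw1 (congrArg Subtype.val e'))
    obtain ⟨i, hi⟩ := Subgroup.mem_zpowers_iff.1 h1
    rw [show e = w ^ i from (congrArg Subtype.val hi).symm]
    exact W₁.zpow_mem hw i
  have hEN : E ≤ Q ⊔ W₂ := by
    obtain ⟨e1, e2⟩ := h.normalizer_W₁ F9 F11 hfrob
    rw [← e2, ← e1]
    intro x hx
    refine Coprime.mem_normalizer_of_forall fun a ha => hEQ ⟨?_, ?_⟩
    · exact E.mul_mem (E.mul_mem hx (hWE ha)) (E.inv_mem hx)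
    · exact conj_mem_of_le_normalizer (OddTypeP.normal_of_map T) hx.2 (hWQ ha)
  have hW₂T : W₂ ≤ T := h.right.hyp.le_M.2.2.2.1
  have hW₂N : W₂ ≤ Subgroup.normalizer (Q : Set G) := hW₂T.trans (OddTypeP.normal_of_map T)
  have hsup : fittingHallOf L ⊔ E = L := by rw [sup_comm]; exact compl_eq_sup hub.compl
  have hinf : fittingHallOf L ⊓ E = ⊥ := by rw [inf_comm]; exact hub.compl.2.2.1
  by_cases hEW : E ≤ W₁
  · rw [le_antisymm hEW hWE] at hinf hsup
    exact Or.inl ⟨hinf, hsup⟩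
  right
  obtain ⟨e, he, heW⟩ := SetLike.not_le_iff_exists.1 hEW
  have hcop : (Nat.card W₂).Coprime (Nat.card Q) := by
    rw [h.right.card_P, h.right.card₁]
    exact Nat.Coprime.pow_right p ((Nat.coprime_primes h.left.hp h.left.hq).2 h.left.ne)
  have hQW : Nat.card ↥(Q ⊔ W₂) = q ^ p * p := by
    rw [Coprime.card_sup_of_coprime hW₂N hcop.symm, h.right.card_P, h.right.card₁]
  have hrel : Q.relIndex (Q ⊔ W₂) = p := Nat.eq_of_mul_eq_mul_left (Nat.card_pos (α := Q)) (by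
    rw [card_mul_relIndex le_sup_left, hQW, h.right.card_P])
  -- an element of order `p` in `E`
  have hep : e ^ p ∈ E ⊓ Q := by
    refine ⟨pow_mem he p, mem_of_coprime_relIndex (M := Q ⊔ W₂)
      (sup_le Subgroup.le_normalizer hW₂N) (pow_mem (hEN he) p) ?_⟩
    rw [hrel]
    refine (h.left.hp.coprime_iff_not_dvd.2 fun hd => ?_).symm
    have h2 : p ^ 2 ∣ q ^ p * p := by
      have hpe : p ∣ orderOf e := hd.trans (orderOf_pow_dvd p)
      have h3 : orderOf (e ^ p) = orderOf e / p := by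
        rw [orderOf_pow' e h.left.hp.ne_zero, Nat.gcd_eq_right hpe]
      rw [pow_two, ← hQW]
      exact (Nat.mul_dvd_of_dvd_div hpe (h3 ▸ hd)).trans (Subgroup.orderOf_dvd_natCard _ (hEN he))
    rw [pow_two] at h2
    exact h.left.ne ((Nat.prime_dvd_prime_iff_eq h.left.hp h.left.hq).1
      (h.left.hp.dvd_of_dvd_pow (Nat.dvd_of_mul_dvd_mul_right h.left.hp.pos h2)))
  have hepW : e ^ p ∈ W₁ := hEQ hep
  set e₁ := e ^ q
  have he₁p : e₁ ^ p = 1 := by
    rw [← pow_mul, mul_comm, pow_mul]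
    exact orderOf_dvd_iff_pow_eq_one.1 (h.left.card₁ ▸ Subgroup.orderOf_dvd_natCard _ hepW)
  have he₁ : e₁ ≠ 1 := fun e' => heW (hEQ ⟨he, by
    refine mem_of_coprime_relIndex (M := Q ⊔ W₂) (sup_le Subgroup.le_normalizer hW₂N) (hEN he) ?_
    rw [hrel]
    exact Nat.Coprime.coprime_dvd_left (orderOf_dvd_of_pow_eq_one e')
      ((Nat.coprime_primes h.left.hq h.left.hp).2 (Ne.symm h.left.ne))⟩)
  haveI := Fact.mk h.left.hp
  obtain ⟨y, hy, hyX⟩ := Coprime.exists_conj_eq_of_le_sup (L := Subgroup.zpowers e₁) hW₂N hcop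
    (Or.inl (Coprime.isSolvable_of_le hW₂T (OddSigma.proper_solvable h.left.hG h.right.hyp.coatom.1)))
    (Subgroup.zpowers_le.2 (pow_mem (hEN he) q))
    (by rw [Nat.card_zpowers, orderOf_eq_prime he₁p he₁, h.right.card₁])
  refine ⟨y, hy, ?_⟩
  set W' := W₂.map (MulAut.conj y).toMonoidHom
  have hW' : W' ≤ E := by
    show MulAut.conj y • W₂ ≤ E
    rw [hyX]
    exact Subgroup.zpowers_le.2 (pow_mem he q)
  have hE : E = W₁ ⊔ W' := by
    refine le_antisymm (fun f hf => ?_) (sup_le hWE hW')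
    obtain ⟨x, hx, b, hb, rfl⟩ := (Coprime.mem_sup_iff hW₂N).1 (hEN hf)
    have hb' : y * b * y⁻¹ ∈ W' := ⟨b, hb, rfl⟩
    have h1 : x * b * (y * b * y⁻¹)⁻¹ ∈ W₁ := by
      refine hEQ ⟨E.mul_mem hf (E.inv_mem (hW' hb')), ?_⟩
      rw [show x * b * (y * b * y⁻¹)⁻¹ = x * (b * y * b⁻¹) * y⁻¹ by group]
      exact Q.mul_mem (Q.mul_mem hx ((Subgroup.mem_normalizer_iff.1 (hW₂N hb) y).1 hy)) (Q.inv_mem hy)
    have := Subgroup.mul_mem_sup h1 hb'
    rwa [inv_mul_cancel_right] at this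
  rw [← hE]
  exact ⟨hinf, hsup⟩

end Pair

end Cfsg.Agent.Peterfalvi.Sec13
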