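import Cfsg.Agent.Lib.Peterfalvi.Sec13.Basic
import Cfsg.Agent.Lib.Peterfalvi.Sec9Interface
import Cfsg.Agent.Lib.Peterfalvi.Sec11Interface
import Cfsg.Agent.Lib.Peterfalvi.Sec10NoTypeV

/-!
# Peterfalvi section 13: the hypotheses of the pair (owner: helper38)

* `fittingOf_ti` : `F(S)` is a TI-subset
* `side_of_facts`, `pair_of_facts`, `Pair.lt_of_not_typeII`
-/

set_option autoImplicit false

namespace Cfsg.Agent.Peterfalvi.Sec13

open scoped Pointwise commutatorElement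
open Cfsg Cfsg.Agent OddMax

universe u

variable {G : Type u} [Group G] [Fintype G] (hG : IsMinSimpleOddOrder G) (F9 : Sec9Facts G)
  (F11 : Sec11Facts G) (hV : ∀ N : Subgroup G, IsCoatom N → ¬ IsOfTypeV N)

section

variable {M W₁ U W₂ : Subgroup G} (hM : IsCoatom M) (hP : IsTypePWith M W₁ U W₂)
include hG hV hM hP

theorem fittingOf_ti : IsTISubset (fittingOf M : Set G) := by
  have F := OddOrder14.sec16 hG
  obtain ⟨K, V, hKV⟩ := exists_decomp F.toSec15Facts hM
  rcases type_of_typeP hG hV hM hP with h | h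
  · obtain ⟨hK, hU⟩ := (typeII_iff hG F hM hKV).1 h
    exact (type_p2_facts hG F.toSec15Facts hM F.fittingTI hKV hK hU).2.1
  · exact (fcore_ne_ti hG F.toSec15Facts hM F.fittingTI hKV
      ((typeIII_IV_iff hG F hM hKV).1 h).2.2).2.1

include F9 F11

theorem side_of_facts (hprime : (Nat.card W₂).Prime) :
    Side M W₁ U W₂ (Nat.card W₂) (Nat.card W₁) := by
  have h9 := hyp9_of_typeP hG hV hM hP
  obtain ⟨H₀, hK⟩ := F9.exists_kernel M W₁ U W₂ h9
  obtain ⟨hel, hcard⟩ : IsElementaryAbelian (Nat.card W₂) (fittingHallOf M) ∧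
      Nat.card (fittingHallOf M) = Nat.card W₂ ^ Nat.card W₁ := by
    by_cases hII : IsOfTypeII M
    · have hcard := ((F9.core M W₁ U W₂ H₀ h9 hK).1 hII).2
      obtain ⟨hp', hrel, hexp, -⟩ := F9.factor M W₁ U W₂ H₀ h9 hK
      have hc := card_mul_relIndex hK.le
      rw [hrel, hcard] at hc
      have hpp : factorPrime W₂ H₀ = Nat.card W₂ :=
        (Nat.prime_dvd_prime_iff_eq hp' hprime).1 (hp'.dvd_of_dvd_pow
          (hc ▸ Dvd.dvd.mul_left (dvd_pow_self _ h9.prime.ne_zero) _))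
      rw [hpp] at hc hexp
      have h0 : H₀ = ⊥ := Subgroup.eq_bot_of_card_eq _
        (Nat.eq_of_mul_eq_mul_right (Nat.pow_pos hprime.pos) (hc.trans (one_mul _).symm))
      subst h0
      refine ⟨⟨⟨⟨fun a b => Subtype.ext ?_⟩⟩, fun a ha => Subgroup.mem_bot.1 (hexp a ha)⟩, hcard⟩
      show (a : G) * b = b * a
      exact (commutatorElement_eq_one_iff_commute.1 (Subgroup.mem_bot.1
        (hK.comm_le (Subgroup.commutator_mem_commutator a.2 b.2)))).eq
    · obtain ⟨-, -, hcard, hel⟩ := F11.kernel_trivial M W₁ U W₂ H₀ h9 hK hII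
      exact ⟨hel, hcard⟩
  exact ⟨hG, h9, hprime, h9.prime, rfl, rfl, hel, hcard, fittingOf_ti hG hV hM hP⟩

end

variable {S T W₁ W₂ U V : Subgroup G} (hS : IsCoatom S) (hT : IsCoatom T)
  (hSP : IsTypePWith S W₁ U W₂) (hTP : IsTypePWith T W₂ V W₁)
include hG F9 F11 hV hS hT hSP hTP

theorem pair_of_facts : Pair S T W₁ W₂ U V (Nat.card W₂) (Nat.card W₁) := by
  obtain ⟨-, -, hq, hp⟩ := pair_facts hG hV hS hT hSP hTP
  exact ⟨side_of_facts hG F9 F11 hV hS hSP hp, side_of_facts hG F9 F11 hV hT hTP hq⟩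

omit hG F9 F11 hV hS hT hSP hTP in
theorem Side.lt_of_not_typeII {p q : ℕ} (h : Side S W₁ U W₂ p q) (F11 : Sec11Facts G)
    (hn : ¬ IsOfTypeII S) : p < q := by
  have := F11.card_lt S W₁ U W₂ h.hyp hn
  rwa [h.card₂, h.card₁] at this

end Cfsg.Agent.Peterfalvi.Sec13
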