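import Cfsg.Agent.Lib.Peterfalvi.Sec13.Exact
import Cfsg.Agent.Lib.Peterfalvi.Sec13.Setup
import Cfsg.Agent.Lib.Peterfalvi.Frozen

/-!
# Peterfalvi section 13: the structure of `S` (owner: helper38)

* `Pair.type_two_three` : no Type IV
* `Pair.centralizer_le` : the centralisers of the elements of `A₀(S)` lie in `S`
* `Pair.typeA0_ti`, `Pair.structure_facts`
-/

set_option autoImplicit false

namespace Cfsg.Agent.Peterfalvi.Sec13

open scoped Pointwise commutatorElement
open Cfsg Cfsg.Agent OddMax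

universe u

variable {G : Type u} [Group G] [Fintype G]

namespace Pair

variable {S T W₁ W₂ U V : Subgroup G} {p q : ℕ} (h : Pair S T W₁ W₂ U V p q) (F9 : Sec9Facts G)
  (F11 : Sec11Facts G)
include h F9 F11

theorem C_eq : cU S U = ⊥ := h.cU_eq_bot F9 (h.left.lt_of_not_typeII F11)

theorem fitting_eq : fittingOf S = fittingHallOf S := by
  rw [h.left.H_eq, hS, h.C_eq F9 F11, sup_bot_eq]

/-- There is no subgroup of Type IV. -/
theorem type_two_three (hV : ∀ N : Subgroup G, IsCoatom N → ¬ IsOfTypeV N) :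
    IsOfTypeII S ∨ IsOfTypeIII S := by
  rcases type_of_typeP h.left.hG hV h.left.hyp.coatom h.left.hyp.data with h2 | h3 | h4
  · exact Or.inl h2
  · exact Or.inr h3
  exfalso
  obtain ⟨V₁, U', V₂, hP, -, -, -, hnc, -⟩ := h4
  refine hnc ⟨⟨fun a b => Subtype.ext ?_⟩⟩
  show (a : G) * b = b * a
  have h1 : ⁅(a : G), (b : G)⁆ ∈ fittingHallOf S := by
    have h2 : ⁅(a : G), (b : G)⁆ ∈ ⁅⁅S, S⁆, ⁅S, S⁆⁆ :=
      Subgroup.commutator_mem_commutator (hP.U_compl.2.1 a.2) (hP.U_compl.2.1 b.2)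
    have h3 := hP.derived_two_le h2
    rwa [hP.fitting_eq, h.fitting_eq F9 F11] at h3
  have h4' : ⁅(a : G), (b : G)⁆ ∈ U' :=
    Subgroup.commutator_le_self U' (Subgroup.commutator_mem_commutator a.2 b.2)
  exact (commutatorElement_eq_one_iff_commute.1
    (Subgroup.mem_bot.1 (hP.U_compl.2.2.1.le ⟨h1, h4'⟩))).eq

variable (hfrob : ∀ M : Subgroup G, IsCoatom M → kappa M = ∅ → Sec12.FrobSigma M)
include hfrob

theorem galois_side : IsCyclic U ∧ Nat.card U * (p - 1) ∣ p ^ q - 1 ∧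
    ∀ v ∈ U, v ≠ 1 → ∀ x ∈ fittingHallOf S, v * x = x * v → x = 1 :=
  h.left.galois_facts F9 (h.C_eq F9 F11)
    (h.galois F9 hfrob (h.left.lt_of_not_typeII F11) (h.right.lt_of_not_typeII F11))

theorem centralizer_le {a : G} (ha : a ∈ coreA0 S) : Subgroup.centralizer ({a} : Set G) ≤ S := by
  have hG := h.left.hG
  have F := OddOrder14.sec16 hG
  have hS := h.left.hyp.coatom
  obtain ⟨U₁, hd, -, hM'⟩ := exists_decomp_of_typeP hG hS h.left.hyp.data
  by_cases hU : U₁ = ⊥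
  swap
  · exact centralizer_le_of_typeP2 hG F hS hd h.left.hyp.data.W₁_ne hU ha
  rcases core_centralizer_le_or_mem hG F hS hd ha with h1 | h1
  · exact h1
  obtain ⟨hcyc, -, hfpf⟩ := h.galois_side F9 F11 hfrob
  rw [hU, bot_sup_eq] at hM'
  have ha1 := (coreA0_facts hG F hS ha).2
  obtain ⟨x, hx, v, hv, rfl⟩ := h.left.hyp.data.U_compl.2.2.2 a (hM' ▸ h1)
  by_cases hv1 : v = 1
  · subst hv1
    rw [mul_one] at ha1 ⊢
    exact h.left.cent_le (Subgroup.mem_sup_left hx) ha1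
  -- conjugate to an element of `U`
  obtain ⟨k, hk, hkv⟩ := Frobenius.FPF.exists_conj (A := U) (K := fittingHallOf S)
    (fun b hb hb1 z hz e => hfpf b hb hb1 z hz e) hv hv1
    (OddTypeP.normal_of_map S (h.left.hyp.le_M.2.2.2.2 hv)) hx
  suffices hC : Subgroup.centralizer ({v} : Set G) ≤ S by
    intro c hc
    rw [← hkv] at hc
    have h2 : k⁻¹ * c * k ∈ S := hC (Subgroup.mem_centralizer_singleton_iff.2 (by
      have e := Subgroup.mem_centralizer_singleton_iff.1 hc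
      calc k⁻¹ * c * k * v = k⁻¹ * (c * (k * v * k⁻¹)) * k := by group
        _ = k⁻¹ * (k * v * k⁻¹ * c) * k := by rw [e]
        _ = _ := by group))
    have hkS := h.left.P_le hk
    have := S.mul_mem (S.mul_mem hkS h2) (S.inv_mem hkS)
    simpa [mul_assoc] using this
  by_contra hC
  have hvσ : v ∈ sigmaCore S := hM' ▸ h.left.hyp.data.U_compl.2.1 hv
  obtain ⟨N, hN⟩ := exists_signalizer hG F.toSigFacts hS hvσ hv1 hC
  obtain ⟨r, hr, hrv, -⟩ := exists_prime_part hv1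
  haveI := Fact.mk hr
  have hrσ : r ∈ sigma S := sigmaCore_pi S r hr (hrv.trans (Subgroup.orderOf_dvd_natCard _ hvσ))
  have hrU : r ∣ Nat.card U := hrv.trans (Subgroup.orderOf_dvd_natCard _ hv)
  have hUS : U ≤ S := h.left.hyp.le_M.2.2.2.2
  obtain ⟨R⟩ : Nonempty (Sylow r U) := inferInstance
  set R' := (R : Subgroup U).map U.subtype
  have hidx : ¬ r ∣ R'.relIndex S := by
    rw [← Subgroup.relIndex_mul_relIndex R' U S (Subgroup.map_subtype_le _) hUS]
    refine hr.not_dvd_mul (sylow_relIndex R) fun hd' => ?_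
    have e1 : Nat.card U * U.relIndex S = Nat.card U * (p ^ q * q) := by
      rw [card_mul_relIndex hUS, h.left.card_S]
      ring
    rw [Nat.eq_of_mul_eq_mul_left Nat.card_pos e1] at hd'
    rcases hr.dvd_mul.1 hd' with e | e
    · exact h.left.not_dvd_U.1
        ((Nat.prime_dvd_prime_iff_eq hr h.left.hp).1 (hr.dvd_of_dvd_pow e) ▸ hrU)
    · exact h.left.not_dvd_U.2 ((Nat.prime_dvd_prime_iff_eq hr h.left.hq).1 e ▸ hrU)
  obtain ⟨PS, hPS⟩ := exists_sylow_eq (R.2.map U.subtype) ((Subgroup.map_subtype_le _).trans hUS) hidx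
  have h1 : PRankLE r 1 S := prankLE_one_of_cyclic_sylow PS
    ((Subgroup.equivMapOfInjective _ S.subtype S.subtype_injective).isCyclic.2 (by
      rw [hPS]
      exact Subgroup.isCyclic_of_le (Subgroup.map_subtype_le _ : R' ≤ U)))
  refine (hN.tau2 r hr hrv).2.2.2 ?_
  by_contra hno
  obtain ⟨E, -, hE, hc⟩ := OddSigma.exists_elementary hno
  obtain ⟨g, hg⟩ := OddSigma.exists_conj_le_of_sigma hrσ (Signalizer.isPGroup_of_elemAb hE)
  exact OddSigma.not_prankLE_of_le hg hE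
    (lt_of_lt_of_le (Nat.pow_lt_pow_right hr.one_lt (Nat.lt_succ_self 1)) hc)
    (OddPrime.prankLE_conj g h1)

/-- `A₀(S)` is a TI-subset with normaliser `S`. -/
theorem typeA0_ti : IsTISubset (typeA0 S) ∧ Subgroup.normalizer (typeA0 S) = S := by
  have hG := h.left.hG
  have F := OddOrder14.sec16 hG
  have hS := h.left.hyp.coatom
  have hA : typeA0 S = typeA1 S ∨ typeA0 S = typeA S ∨ typeA0 S = typeA0 S := Or.inr (Or.inr rfl)
  obtain ⟨hA0, hA1, -⟩ := typeSet_facts hG F hS hA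
  obtain ⟨hN, hD⟩ := dade_hypothesis_type hG F hS hA
  obtain ⟨a, ha⟩ := exists_mem_coreA1 hG F hS
  refine (S1497.result (typeA0 S) ⟨a, hA1 ha⟩ hD.one_not_mem S).2
    ⟨hD.one_not_mem, hD.subset, hD.conj_mem, hD.fusion, fun b hb => bot_le,
      fun b hb c hc z hz => ?_, fun b hb => bot_inf_eq _, fun b hb => ?_, fun b hb b' hb' => ?_⟩
  · rw [Subgroup.mem_bot] at hz ⊢
    simp [hz]
  · have h2 := hD.sup_eq b hb
    rwa [supportR_eq_bot (h.centralizer_le F9 F11 hfrob (hA0 hb))] at h2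
  · simp

/-- The statement on the structure of `S`. -/
theorem structure_facts (hV : ∀ N : Subgroup G, IsCoatom N → ¬ IsOfTypeV N) :
    (IsOfTypeII S ∨ IsOfTypeIII S) ∧ (q < p → IsOfTypeII S) ∧
      IsElementaryAbelian p (fittingHallOf S) ∧ Nat.card (fittingHallOf S) = p ^ q ∧
      IsTISubset (typeA0 S) ∧ Subgroup.normalizer (typeA0 S) = S :=
  ⟨h.type_two_three F9 F11 hV,
    fun hqp => by_contra fun hn => absurd (h.left.lt_of_not_typeII F11 hn) (Nat.lt_asymm hqp),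
    h.left.elem, h.left.card_P, h.typeA0_ti F9 F11 hfrob⟩

end Pair

end Cfsg.Agent.Peterfalvi.Sec13
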