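import Cfsg.Agent.Lib.Coherence.Extend
import Cfsg.Agent.Lib.Char.Induced

/-!
# Peterfalvi section 13: the test function inequality (owner: helper38)

`S ≤ G`, `H` normal in `S`, `Θ` an `S`-invariant set of linear characters of `H`, `τ` an isometry agreeing with
induction to `G` on the degree zero combinations supported on `H`.

* `norm_inner_sq_le` : Cauchy-Schwarz on the support.
* `side_bound` : lower bound for the sum of `‖x h‖ ^ 2` over `H \ 1` from `⟨x, τ α⟩ = c ⟨Ind ξ, α⟩`.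
-/

set_option autoImplicit false

namespace Cfsg.Agent.Peterfalvi.Sec13

open Cfsg Cfsg.Agent.Char Cfsg.Agent.Coherence
open scoped ComplexConjugate

variable {L : Type*} [Group L] [Fintype L]

/-- Cauchy-Schwarz on the support of the second function. -/
theorem norm_inner_sq_le (A : Finset L) (ψ W : L → ℂ) (hW : ∀ x, x ∉ A → W x = 0) :
    ‖classInner ψ W‖ ^ 2 ≤ (classInner W W).re * ((Nat.card L : ℝ)⁻¹ * ∑ h ∈ A, ‖ψ h‖ ^ 2) := by
  classical
  have h1 : classInner ψ W = (Nat.card L : ℂ)⁻¹ * ∑ h ∈ A, ψ h * conj (W h) := by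
    rw [classInner]
    congr 1
    exact (Finset.sum_subset (Finset.subset_univ A) fun x _ hx => by rw [hW x hx]; simp).symm
  have h2 : (classInner W W).re = (Nat.card L : ℝ)⁻¹ * ∑ h ∈ A, ‖W h‖ ^ 2 := by
    rw [classInner_self_eq, Complex.ofReal_re]
    congr 1
    exact (Finset.sum_subset (Finset.subset_univ A) fun x _ hx => by rw [hW x hx]; simp).symm
  have hc : ‖∑ h ∈ A, ψ h * conj (W h)‖ ^ 2 ≤ (∑ h ∈ A, ‖W h‖ ^ 2) * ∑ h ∈ A, ‖ψ h‖ ^ 2 := by
    refine le_trans (pow_le_pow_left₀ (norm_nonneg _) (norm_sum_le _ _) 2) ?_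
    refine le_trans (le_of_eq ?_) (Finset.sum_mul_sq_le_sq_mul_sq A (fun h => ‖W h‖) (fun h => ‖ψ h‖))
    congr 1
    exact Finset.sum_congr rfl fun h _ => by rw [norm_mul, RCLike.norm_conj, mul_comm]
  have hn : (0 : ℝ) ≤ (Nat.card L : ℝ)⁻¹ := by positivity
  rw [h1, h2, norm_mul, norm_inv, Complex.norm_natCast, mul_pow]
  calc ((Nat.card L : ℝ)⁻¹) ^ 2 * ‖∑ h ∈ A, ψ h * conj (W h)‖ ^ 2
      ≤ ((Nat.card L : ℝ)⁻¹) ^ 2 * ((∑ h ∈ A, ‖W h‖ ^ 2) * ∑ h ∈ A, ‖ψ h‖ ^ 2) :=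
        mul_le_mul_of_nonneg_left hc (sq_nonneg _)
    _ = _ := by ring

variable (H : Subgroup L) [hH : H.Normal]

/-- Induction from a normal subgroup of an invariant function. -/
theorem indFun_apply_of_invariant (Φ : H → ℂ)
    (hinv : ∀ (s : L) (h : H), Φ ⟨s⁻¹ * h * s, by simpa using hH.conj_mem h h.2 s⁻¹⟩ = Φ h) (h : H) :
    indFun H Φ h = (H.index : ℂ) * Φ h := by
  classical
  rw [indFun, Finset.sum_congr rfl (g := fun _ => Φ h) (fun s _ => by
    rw [extendByZero_mem H Φ (by simpa using hH.conj_mem (h : L) h.2 s⁻¹)]; exact hinv s h),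
    Finset.sum_const, Finset.card_univ, nsmul_eq_mul, ← Nat.card_eq_fintype_card, ← H.card_mul_index,
    Nat.cast_mul]
  have : (Nat.card H : ℂ) ≠ 0 := Nat.cast_ne_zero.2 Nat.card_pos.ne'
  field_simp

theorem indFun_apply_of_notMem (θ : H → ℂ) {g : L} (hg : g ∉ H) : indFun H θ g = 0 := by
  rw [indFun, Finset.sum_eq_zero (fun s _ => extendByZero_not_mem _ _ fun hm => hg ?_), mul_zero]
  simpa [mul_assoc] using hH.conj_mem _ hm s

variable [Fintype H] (Θ : Finset (H → ℂ)) (hirr : ∀ θ ∈ Θ, IsIrrCharacter H θ) (hlin : ∀ θ ∈ Θ, θ 1 = 1)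
  (hclosed : ∀ θ ∈ Θ, ∀ s : L,
    (fun h : H => θ ⟨s⁻¹ * h * s, by simpa using hH.conj_mem h h.2 s⁻¹⟩) ∈ Θ)
include hirr hclosed

/-- The sum of `Θ` restricted from the induced function. -/
theorem res_ind_sum (h : H) : indFun H (∑ θ ∈ Θ, θ) h = (H.index : ℂ) * (∑ θ ∈ Θ, θ) h := by
  classical
  refine indFun_apply_of_invariant H _ (fun s h => ?_) h
  simp only [Finset.sum_apply]
  refine Finset.sum_nbij (fun θ h => θ ⟨s⁻¹ * h * s, by simpa using hH.conj_mem h h.2 s⁻¹⟩)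
    (fun θ hθ => hclosed θ hθ s) ?_ ?_ (fun θ _ => rfl)
  · intro θ _ θ' _ e
    funext y
    have := congrFun e ⟨s * y * s⁻¹, hH.conj_mem y y.2 s⟩
    simpa [mul_assoc] using this
  · intro θ hθ
    refine ⟨_, hclosed θ hθ s⁻¹, ?_⟩
    funext y
    simp [mul_assoc]

theorem inner_ind_sum {ξ : H → ℂ} (hξ : ξ ∈ Θ) :
    classInner (indFun H ξ) (indFun H (∑ θ ∈ Θ, θ)) = H.index := by
  classical
  rw [frobenius_reciprocity H ξ (indFun_isClassFunction H _),
    show (fun h : H => indFun H (∑ θ ∈ Θ, θ) h) = (H.index : ℂ) • ∑ θ ∈ Θ, θ from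
      funext fun h => res_ind_sum H Θ hirr hclosed h,
    classInner_smul_right, classInner_sum_right, Finset.sum_eq_single ξ, classInner_irr_self (hirr ξ hξ)]
  · simp
  · intro θ hθ hne
    exact classInner_irr_of_ne (hirr ξ hξ) (hirr θ hθ) (Ne.symm hne)
  · exact fun h => absurd hξ h

theorem inner_sum_sum :
    classInner (indFun H (∑ θ ∈ Θ, θ)) (indFun H (∑ θ ∈ Θ, θ)) = ((H.index * Θ.card : ℕ) : ℂ) := by
  classical
  conv_lhs => arg 1; rw [indFun_sum]
  rw [classInner_sum_left, Finset.sum_congr rfl (fun θ hθ => inner_ind_sum H Θ hirr hclosed hθ),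
    Finset.sum_const, nsmul_eq_mul]
  push_cast
  ring

omit hirr hclosed in
/-- The test function inequality: `x` sees the coherent images as a multiple of `Ind ξ`. -/
theorem side_bound {G : Type*} [Group G] [Fintype G] (S : Subgroup G) [Fintype S] (H : Subgroup S)
    [hH : H.Normal] [Fintype H] (Θ : Finset (H → ℂ)) (hirr : ∀ θ ∈ Θ, IsIrrCharacter H θ)
    (hlin : ∀ θ ∈ Θ, θ 1 = 1)
    (hclosed : ∀ θ ∈ Θ, ∀ s : S,
      (fun h : H => θ ⟨s⁻¹ * h * s, by simpa using hH.conj_mem h h.2 s⁻¹⟩) ∈ Θ)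
    (𝒮 : Set (S → ℂ)) (hmem : ∀ θ ∈ Θ, indFun H θ ∈ zspan 𝒮)
    {ξ : H → ℂ} (hξ : ξ ∈ Θ) {x : G → ℂ} (hx : IsClassFunction G x) (c : ℂ)
    (hsee : ∀ α ∈ zspanOn 𝒮 {1}ᶜ, (∀ s : S, s ∉ H → α s = 0) →
      classInner x (indFun S α) = c * classInner (indFun H ξ) α) {n : ℕ}
    (hn : classInner (indFun H ξ) (indFun H ξ) = n) (A : Finset S) (hA : ∀ s : S, s ∈ H → s ≠ 1 → s ∈ A) :
    ‖c‖ ^ 2 * ((n : ℝ) - (H.index : ℝ) / Θ.card) ≤ (Nat.card S : ℝ)⁻¹ * ∑ h ∈ A, ‖x h‖ ^ 2 := by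
  classical
  set k := Θ.card
  have hk : 0 < k := Finset.card_pos.2 ⟨ξ, hξ⟩
  set W : S → ℂ := (k : ℤ) • indFun H ξ - indFun H (∑ θ ∈ Θ, θ) with hW
  have hWz : W ∈ zspan 𝒮 := by
    rw [hW, sub_eq_add_neg, indFun_sum]
    refine zspan_add (zspan_zsmul _ (hmem ξ hξ)) ?_
    simpa using zspan_zsmul (-1) (zspan_sum Θ fun θ hθ => hmem θ hθ)
  have hout : ∀ s : S, s ∉ H → W s = 0 := fun s hs => by
    simp [hW, indFun_apply_of_notMem H _ hs]
  have hone : W 1 = 0 := by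
    simp [hW, indFun_one_apply, hlin ξ hξ, Finset.sum_congr rfl hlin, k, mul_comm]
  have hsupp : ∀ s : S, s ∉ A → W s = 0 := fun s hs => by
    by_cases h : s ∈ H
    · by_cases h1 : s = 1
      · rw [h1]; exact hone
      · exact absurd (hA s h h1) hs
    · exact hout s h
  have hWs : W = (k : ℂ) • indFun H ξ - indFun H (∑ θ ∈ Θ, θ) := by
    rw [hW, ← Int.cast_smul_eq_zsmul ℂ]; simp
  have hi := inner_ind_sum H Θ hirr hclosed hξ
  have hμW : classInner (indFun H ξ) W = (k : ℂ) * n - H.index := by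
    rw [hWs, classInner_sub_right, classInner_smul_right, hn, hi]
    simp
  have hi' : classInner (indFun H (∑ θ ∈ Θ, θ)) (indFun H ξ) = H.index := by
    rw [← classInner_conj_symm, hi, map_natCast]
  have hWW : classInner W W = ((k : ℝ) * ((k : ℝ) * n - H.index) : ℝ) := by
    rw [hWs, classInner_sub_left, classInner_sub_right, classInner_sub_right, classInner_smul_left,
      classInner_smul_left, classInner_smul_right, classInner_smul_right, hn, hi, hi',
      inner_sum_sum H Θ hirr hclosed]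
    push_cast
    simp only [map_natCast]
    ring
  have key := norm_inner_sq_le A (fun s : S => x s) W hsupp
  rw [← frobenius_reciprocity' S W hx, hsee W (mem_zspanOn_one.2 ⟨hWz, hone⟩) hout, hμW, hWW, Complex.ofReal_re, norm_mul,
    mul_pow, show (k : ℂ) * n - H.index = (((k : ℝ) * n - H.index : ℝ) : ℂ) by push_cast; ring,
    Complex.norm_real, Real.norm_eq_abs, sq_abs] at key
  set R := (Nat.card S : ℝ)⁻¹ * ∑ h ∈ A, ‖x h‖ ^ 2
  have hR : 0 ≤ R := by positivity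
  have hk' : (0 : ℝ) < k := by exact_mod_cast hk
  rw [sub_div' hk'.ne', ← mul_div_assoc, div_le_iff₀ hk']
  rcases le_or_gt ((k : ℝ) * n - H.index) 0 with h | h
  · exact le_trans (mul_nonpos_of_nonneg_of_nonpos (sq_nonneg _) (by linarith)) (by positivity)
  · rw [show ‖c‖ ^ 2 * ((n : ℝ) * k - H.index) = ‖c‖ ^ 2 * ((k : ℝ) * n - H.index) by ring]
    nlinarith [key]

end Cfsg.Agent.Peterfalvi.Sec13
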