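import Cfsg.Agent.Lib.Peterfalvi.Sec13.Basic
import Cfsg.Agent.Lib.Peterfalvi.Sec13.Test
import Cfsg.Agent.Lib.CharApp.Broline
import Cfsg.Agent.S1487

/-!
# Peterfalvi section 13: the linear characters `Θ` of `H = S_F C` (owner: helper38)

* `derC S U` : `C'`; `c1 S U` : `|C : C'|`; `calC S U` : `S(C')`
* `thetaSet S U` : the linear characters of `H` trivial on `C'` and not on `S_F`
* `Side.theta_closed`, `Side.card_theta`, `Side.ind_theta_mem`
-/

set_option autoImplicit false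

namespace Cfsg.Agent.Peterfalvi.Sec13

open scoped Pointwise commutatorElement ComplexConjugate
open Cfsg Cfsg.Agent OddMax CyclicTI Cfsg.Agent.Char Cfsg.Agent.Coherence

universe u

variable {G : Type u} [Group G]

/-- `H` inside `S`. -/
abbrev hSub (S U : Subgroup G) : Subgroup ↥S := (hS S U).subgroupOf S

/-- `S(C')`. -/
def calC (S U : Subgroup G) [Fintype ↥S] : Set (↥S → ℂ) := calS S ⁅cU S U, cU S U⁆

/-- `|C : C'|`. -/
noncomputable def c1 (S U : Subgroup G) : ℕ := (commutator ↥(cU S U)).index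

/-- A linear character of `H` in `Θ`. -/
def InTheta (S U : Subgroup G) (l : ↥(hSub S U) →* ℂˣ) : Prop :=
  (∀ a : ↥(hSub S U), ((a : ↥S) : G) ∈ ⁅cU S U, cU S U⁆ → l a = 1) ∧
    ∃ a : ↥(hSub S U), ((a : ↥S) : G) ∈ fittingHallOf S ∧ l a ≠ 1

open Classical in
/-- `Θ`. -/
noncomputable def thetaSet [Finite G] (S U : Subgroup G) : Finset (↥(hSub S U) → ℂ) :=
  haveI : Fintype (↥(hSub S U) →* ℂˣ) :=
    haveI := finite_lin ↥(hSub S U); Fintype.ofFinite _
  ((Finset.univ : Finset (↥(hSub S U) →* ℂˣ)).filter (InTheta S U)).image lin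

variable [Finite G]

theorem mem_thetaSet {S U : Subgroup G} {θ : ↥(hSub S U) → ℂ} :
    θ ∈ thetaSet S U ↔ ∃ l, InTheta S U l ∧ lin l = θ := by
  simp [thetaSet]

/-- A character is constant on cosets of an element in its kernel. -/
theorem apply_mul_of_eq {X : Type*} [Group X] [Finite X] {χ : X → ℂ} (hχ : IsIrrCharacter X χ) {a : X}
    (ha : χ a = χ 1) (x : X) : χ (a * x) = χ x :=
  TwoClassChar.ker_mul hχ ha x

namespace Side

variable {S W₁ U W₂ : Subgroup G} {p q : ℕ} (h : Side S W₁ U W₂ p q)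
include h

theorem hSub_normal : (hSub S U).Normal :=
  ⟨fun n hn g => h.H_conj g.2 hn⟩

theorem C_conj {x c : G} (hx : x ∈ S) (hc : c ∈ ⁅cU S U, cU S U⁆) :
    x * c * x⁻¹ ∈ ⁅cU S U, cU S U⁆ := by
  -- `C'` is the derived group of `H`
  have hH : ⁅cU S U, cU S U⁆ = ⁅hS S U, hS S U⁆ := by
    refine le_antisymm (Subgroup.commutator_mono le_sup_right le_sup_right) ?_
    rw [Subgroup.commutator_le]
    intro a ha b hb
    obtain ⟨a₁, ha₁, a₂, ha₂, rfl⟩ := h.isPair.exists_mul ha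
    obtain ⟨b₁, hb₁, b₂, hb₂, rfl⟩ := h.isPair.exists_mul hb
    have key : ⁅a₁ * a₂, b₁ * b₂⁆ = ⁅a₂, b₂⁆ := by
      have e1 : a₁ * a₂ * (b₁ * b₂) = a₁ * b₁ * (a₂ * b₂) := by
        rw [mul_assoc, ← mul_assoc a₂, ← h.comm_P_C hb₁ ha₂]; group
      have e2 : b₁ * b₂ * (a₁ * a₂) = a₁ * b₁ * (b₂ * a₂) := by
        rw [mul_assoc, ← mul_assoc b₂, ← h.comm_P_C ha₁ hb₂, h.P_comm ha₁ hb₁]; group
      rw [commutatorElement_def, commutatorElement_def,
        show a₁ * a₂ * (b₁ * b₂) * (a₁ * a₂)⁻¹ * (b₁ * b₂)⁻¹ =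
          (a₁ * a₂ * (b₁ * b₂)) * (b₁ * b₂ * (a₁ * a₂))⁻¹ by group, e1, e2]
      have hcomm : (a₁ * b₁) * (a₂ * b₂ * a₂⁻¹ * b₂⁻¹) = (a₂ * b₂ * a₂⁻¹ * b₂⁻¹) * (a₁ * b₁) :=
        h.comm_P_C (mul_mem ha₁ hb₁) (by
          exact mul_mem (mul_mem (mul_mem ha₂ hb₂) (inv_mem ha₂)) (inv_mem hb₂))
      calc a₁ * b₁ * (a₂ * b₂) * (a₁ * b₁ * (b₂ * a₂))⁻¹
          = (a₁ * b₁) * (a₂ * b₂ * a₂⁻¹ * b₂⁻¹) * (a₁ * b₁)⁻¹ := by group
        _ = _ := by rw [hcomm]; group
    rw [key]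
    exact Subgroup.commutator_mem_commutator ha₂ hb₂
  rw [hH] at hc ⊢
  have hn : S ≤ Subgroup.normalizer ((⁅hS S U, hS S U⁆ : Subgroup G) : Set G) := by
    intro g hg
    refine Coprime.mem_normalizer_of_forall fun z hz => ?_
    have e : MulAut.conj g • ⁅hS S U, hS S U⁆ =
        ⁅MulAut.conj g • hS S U, MulAut.conj g • hS S U⁆ := Subgroup.map_commutator _ _ _
    have e2 : MulAut.conj g • hS S U = hS S U := by
      have hg' : g⁻¹ ∈ Subgroup.normalizer (hS S U : Set G) := by rw [h.normalizer_H]; exact inv_mem hg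
      ext t
      rw [Coprime.mem_conj]
      exact ((Subgroup.mem_normalizer_iff.1 hg' t).trans (by simp)).symm
    rw [e2] at e
    rw [← e]
    exact Coprime.conj_mem_conj.2 hz
  exact (Subgroup.mem_normalizer_iff.1 (hn hx) c).1 hc

theorem theta_irr : ∀ θ ∈ thetaSet S U, IsIrrCharacter ↥(hSub S U) θ ∧ θ 1 = 1 := by
  intro θ hθ
  obtain ⟨l, -, rfl⟩ := mem_thetaSet.1 hθ
  exact ⟨lin_irr l, by simp⟩

theorem theta_closed :
    haveI := h.hSub_normal
    ∀ θ ∈ thetaSet S U, ∀ s : ↥S,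
      (fun a : ↥(hSub S U) => θ ⟨s⁻¹ * a * s, by
        simpa using h.hSub_normal.conj_mem a a.2 s⁻¹⟩) ∈ thetaSet S U := by
  haveI := h.hSub_normal
  intro θ hθ s
  obtain ⟨l, hl, rfl⟩ := mem_thetaSet.1 hθ
  let f : ↥(hSub S U) →* ↥(hSub S U) := MonoidHom.mk'
    (fun a => ⟨s⁻¹ * a * s, by simpa using h.hSub_normal.conj_mem a a.2 s⁻¹⟩)
    (fun a b => Subtype.ext (by simp [mul_assoc]))
  refine mem_thetaSet.2 ⟨l.comp f, ⟨fun a ha => hl.1 (f a) ?_, ?_⟩, rfl⟩
  · have := h.C_conj (inv_mem s.2) ha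
    simpa [f] using this
  · obtain ⟨a, ha, hne⟩ := hl.2
    refine ⟨⟨s * a * s⁻¹, h.hSub_normal.conj_mem a a.2 s⟩, ?_, fun e => hne ?_⟩
    · exact (Subgroup.mem_normalizer_iff.1 (OddTypeP.normal_of_map S s.2) _).1 ha
    · rw [← e]
      show l a = l (f _)
      congr 1
      exact Subtype.ext (by simp [f, mul_assoc])

theorem card_linC : Nat.card (↥(cU S U) →* ℂˣ) = c1 S U := by
  rw [c1, ← card_linear_irr, Nat.card_congr (linearCharEquiv _)]

theorem card_linP : Nat.card (↥(fittingHallOf S) →* ℂˣ) = p ^ q := by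
  rw [card_monoidHom_of_comm (fun a b => Subtype.ext (h.P_comm a.2 b.2)), h.card_P]

/-- `|Θ| ≥ (p ^ q - 1) |C : C'|`. -/
theorem card_theta : (p ^ q - 1) * c1 S U ≤ (thetaSet S U).card := by
  classical
  haveI := finite_lin ↥(fittingHallOf S)
  haveI := finite_lin ↥(cU S U)
  haveI := Fintype.ofFinite (↥(fittingHallOf S) →* ℂˣ)
  haveI := Fintype.ofFinite (↥(cU S U) →* ℂˣ)
  let e : ↥(hSub S U) →* ↥(fittingHallOf S) × ↥(cU S U) :=
    h.isPair.prodEquiv.symm.toMonoidHom.comp (Subgroup.subgroupOfEquivOfLe h.H_le).toMonoidHom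
  let mk : (↥(fittingHallOf S) →* ℂˣ) × (↥(cU S U) →* ℂˣ) → (↥(hSub S U) →* ℂˣ) := fun x =>
    ((x.1.comp (MonoidHom.fst _ _)) * (x.2.comp (MonoidHom.snd _ _))).comp e
  have he : ∀ (a : ↥(fittingHallOf S)) (b : ↥(cU S U)), ∃ z : ↥(hSub S U),
      ((z : ↥S) : G) = (a : G) * b ∧ e z = (a, b) := fun a b => by
    refine ⟨(Subgroup.subgroupOfEquivOfLe h.H_le).symm (h.isPair.prodEquiv (a, b)), rfl, ?_⟩
    show h.isPair.prodEquiv.symm ((Subgroup.subgroupOfEquivOfLe h.H_le)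
      ((Subgroup.subgroupOfEquivOfLe h.H_le).symm (h.isPair.prodEquiv (a, b)))) = (a, b)
    exact (congrArg h.isPair.prodEquiv.symm ((Subgroup.subgroupOfEquivOfLe h.H_le).apply_symm_apply _)).trans
      (h.isPair.prodEquiv.symm_apply_apply (a, b))
  have hmk : ∀ x (a : ↥(fittingHallOf S)) (b : ↥(cU S U)) (z : ↥(hSub S U)),
      e z = (a, b) → mk x z = x.1 a * x.2 b := fun x a b z hz => by
    simp [mk, hz]
  have hinj : Function.Injective mk := by
    intro x y hxy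
    refine Prod.ext (MonoidHom.ext fun a => ?_) (MonoidHom.ext fun b => ?_)
    · obtain ⟨z, -, hz⟩ := he a 1
      have := DFunLike.congr_fun hxy z
      rwa [hmk x a 1 z hz, hmk y a 1 z hz, map_one, map_one, mul_one, mul_one] at this
    · obtain ⟨z, -, hz⟩ := he 1 b
      have := DFunLike.congr_fun hxy z
      rwa [hmk x 1 b z hz, hmk y 1 b z hz, map_one, map_one, one_mul, one_mul] at this
  have hsub : ((Finset.univ.erase (1 : ↥(fittingHallOf S) →* ℂˣ)) ×ˢ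
      (Finset.univ : Finset (↥(cU S U) →* ℂˣ))).image (fun x => lin (mk x)) ⊆ thetaSet S U := by
    intro θ hθ
    obtain ⟨x, hx, rfl⟩ := Finset.mem_image.1 hθ
    refine mem_thetaSet.2 ⟨mk x, ⟨fun a ha => ?_, ?_⟩, rfl⟩
    · obtain ⟨z, hz, hez⟩ := he 1 ⟨_, Subgroup.commutator_le_self _ ha⟩
      have haz : a = z := Subtype.ext (Subtype.ext (by rw [hz]; simp))
      rw [haz, hmk x _ _ z hez, map_one, one_mul]
      have : (⟨_, Subgroup.commutator_le_self _ ha⟩ : ↥(cU S U)) ∈ _root_.commutator ↥(cU S U) := by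
        have h' := ha
        rw [← Subgroup.map_subtype_commutator] at h'
        obtain ⟨y, hy, hye⟩ := h'
        rwa [show (⟨_, Subgroup.commutator_le_self _ ha⟩ : ↥(cU S U)) = y from Subtype.ext hye.symm]
      exact (Abelianization.commutator_subset_ker x.2 this :)
    · obtain ⟨hne, -⟩ := Finset.mem_product.1 hx
      obtain ⟨a, ha⟩ : ∃ a, x.1 a ≠ 1 := by
        by_contra hno
        push Not at hno
        exact (Finset.mem_erase.1 hne).1 (MonoidHom.ext hno)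
      obtain ⟨z, hz, hez⟩ := he a 1
      exact ⟨z, by rw [hz]; simp, by rw [hmk x a 1 z hez, map_one, mul_one]; exact ha⟩
  have hc := Finset.card_le_card hsub
  rw [Finset.card_image_of_injective _ (show Function.Injective fun x => lin (mk x) from fun x y e => hinj (lin_injective e)), Finset.card_product,
    Finset.card_erase_of_mem (Finset.mem_univ _), Finset.card_univ, Finset.card_univ,
    ← Nat.card_eq_fintype_card, ← Nat.card_eq_fintype_card, h.card_linP, h.card_linC] at hc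
  exact hc

omit h in
/-- The sum of a nontrivial linear character vanishes. -/
theorem sum_lin_eq_zero {X : Type*} [Group X] [Fintype X] {l : X →* ℂˣ} {a : X} (ha : l a ≠ 1) :
    ∑ x, (l x : ℂ) = 0 := by
  have hmul : (l a : ℂ) * ∑ x, (l x : ℂ) = ∑ x, (l x : ℂ) := by
    rw [Finset.mul_sum]
    exact Fintype.sum_equiv (Equiv.mulLeft a) _ _ fun x => by simp
  have hne : (l a : ℂ) - 1 ≠ 0 := sub_ne_zero.2 fun e => ha (Units.ext e)
  exact (mul_eq_zero.1 (show ((l a : ℂ) - 1) * ∑ x, (l x : ℂ) = 0 by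
    rw [sub_mul, hmul, one_mul, sub_self])).resolve_left hne

/-- The induced characters of `Θ` are combinations of `S(C')`. -/
theorem ind_theta_mem [Fintype ↥S] : ∀ θ ∈ thetaSet S U, indFun (hSub S U) θ ∈ zspan (calC S U) := by
  classical
  haveI := h.hSub_normal
  intro θ hθ
  obtain ⟨l, ⟨hl1, a₀, ha₀, ha₀'⟩, rfl⟩ := mem_thetaSet.1 hθ
  set K := derivedIn S
  haveI := Fintype.ofFinite ↥K
  have hHK : hSub S U ≤ K := fun a ha => h.H_le_derived ha
  set H' := (hSub S U).subgroupOf K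
  haveI : H'.Normal := inferInstance
  haveI := Fintype.ofFinite ↥H'
  let θ' : ↥H' → ℂ := fun x => lin l ⟨((x : ↥K) : ↥S), Subgroup.mem_subgroupOf.1 x.2⟩
  let l' : ↥H' →* ℂˣ := l.comp (MonoidHom.mk'
    (fun x : ↥H' => (⟨((x : ↥K) : ↥S), Subgroup.mem_subgroupOf.1 x.2⟩ : ↥(hSub S U)))
    fun _ _ => Subtype.ext rfl)
  have hθ' : θ' = lin l' := rfl
  rw [← indFun_trans (hSub S U) K hHK (lin l)]
  set ζ := indFun H' θ'
  have hζ : IsCharacter ↥K ζ := IsCharacter.indFun H' (IsIrrCharacter.isCharacter (hθ' ▸ lin_irr l'))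
  haveI := Fintype.ofFinite (IrrCharacter ↥K)
  obtain ⟨c, hexp, hc, -⟩ := gc_eq_sum (isGC_of_isCharacter hζ)
  show indFun K ζ ∈ _
  rw [hexp, indFun_sum]
  refine zspan_sum _ fun χ _ => ?_
  rw [indFun_smul, Int.cast_smul_eq_zsmul]
  by_cases h0 : c χ = 0
  · rw [h0, zero_smul]; exact zspan_zero
  refine zspan_zsmul _ (subset_zspan ⟨χ, ⟨χ.2, ?_, ?_⟩, rfl⟩)
  · intro b hb
    refine Broline.apply_eq_of_constituent hζ χ.2 (by rw [hc]; exact_mod_cast h0) ?_
    simp only [ζ, indFun]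
    congr 1
    refine Finset.sum_congr rfl fun y _ => ?_
    have hmem : ∀ z : ↥K, ((z : ↥S) : G) ∈ ⁅cU S U, cU S U⁆ →
        extendByZero H' θ' (y⁻¹ * z * y) = 1 := by
      intro z hz
      have hz' : (((y⁻¹ * z * y : ↥K) : ↥S) : G) ∈ ⁅cU S U, cU S U⁆ := by
        have := h.C_conj (inv_mem ((y : ↥K) : ↥S).2) hz
        simpa using this
      have hm : y⁻¹ * z * y ∈ H' := by
        show ((y⁻¹ * z * y : ↥K) : ↥S).val ∈ hS S U
        exact Subgroup.mem_sup_right (Subgroup.commutator_le_self (cU S U) hz')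
      rw [extendByZero_mem _ _ hm]
      show ((l _ : ℂˣ) : ℂ) = 1
      exact (congrArg Units.val (hl1 _ hz')).trans Units.val_one
    rw [hmem b hb, hmem 1 (one_mem _)]
  · by_contra hall
    push Not at hall
    refine h0 ?_
    have hin : classInner ζ (χ : ↥K → ℂ) = classInner θ' (fun x : ↥H' => (χ : ↥K → ℂ) x) :=
      frobenius_reciprocity H' θ' (IsIrrCharacter.isClassFunction χ.2)
    suffices hz : classInner θ' (fun x : ↥H' => (χ : ↥K → ℂ) x) = 0 by
      have := (hc χ).symm.trans (hin.trans hz)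
      exact_mod_cast this
    let a₁ : ↥H' := ⟨⟨(a₀ : ↥S), hHK a₀.2⟩, a₀.2⟩
    have hl' : l' a₁ ≠ 1 := ha₀'
    -- translate by `a₁`
    have hmul : ((l' a₁ : ℂˣ) : ℂ) * classInner θ' (fun x : ↥H' => (χ : ↥K → ℂ) x) =
        classInner θ' (fun x : ↥H' => (χ : ↥K → ℂ) x) := by
      rw [classInner, ← mul_assoc, mul_comm ((l' a₁ : ℂˣ) : ℂ), mul_assoc, Finset.mul_sum]
      congr 1
      refine Fintype.sum_equiv (Equiv.mulLeft a₁) _ _ fun x => ?_
      show ((l' a₁ : ℂˣ) : ℂ) * ((l' x : ℂˣ) * conj ((χ : ↥K → ℂ) x)) =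
        (l' (a₁ * x) : ℂˣ) * conj ((χ : ↥K → ℂ) ((a₁ : ↥K) * x))
      rw [apply_mul_of_eq χ.2 (hall (a₁ : ↥K) ha₀), map_mul,
        Units.val_mul, mul_assoc]
    have hne : ((l' a₁ : ℂˣ) : ℂ) - 1 ≠ 0 := sub_ne_zero.2 fun e => hl' (Units.ext e)
    exact (mul_eq_zero.1 (show (((l' a₁ : ℂˣ) : ℂ) - 1) *
      classInner θ' (fun x : ↥H' => (χ : ↥K → ℂ) x) = 0 by
        rw [sub_mul, hmul, one_mul, sub_self])).resolve_left hne

end Side

end Cfsg.Agent.Peterfalvi.Sec13
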